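import Groth.Agent.RedSub.H646.LocConj
import Groth.Agent.RedSub.H660.Classes

/-!
# Étale-local conjugacy in terms of `condX`
-/

set_option autoImplicit false
universe u

open CategoryTheory CategoryTheory.Limits AlgebraicGeometry Opposite MonoidalCategory CartesianMonoidalCategory
  MonObj GrpObj
open TensorProduct
open Groth.Agent.Sga3B.Cell

namespace Groth.Agent.RedSub.H646.BorelConj

open Groth.Agent.RedSub.H647.SubPt Groth.Agent.RedSub.H647.SubF Groth.Agent.RedSub.H646.DeltaRing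
  Groth.Agent.RedSub.H646.InfPt Groth.Agent.RedSub.H646.PtsRep Groth.Agent.RedSub.H646.DeltaSch
  Groth.Agent.RedSub.H646.LocConj
  Groth.Agent.Sga3B Groth.Agent.Sga3B.BcPts Groth.Agent.Sga3B.MT
open Groth.Agent.Books.AffBridge
open Groth.Agent.Redsub.H649.ConjPts (InC)

variable {S : Scheme.{u}} {R : Type u} [CommRing R] {v : Spec (CommRingCat.of R) ⟶ S} {G : Over S} [GrpObj G]
  {A : Type u} [CommRing A] [Algebra R A] [PtGrp R A] (K : AffChart v G A)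

section zc

variable {T : Over (Spec (CommRingCat.of R))} {B : Type u} [CommRing B] [Algebra R B]

/-- comparison -/
noncomputable def cmpIso (v : Spec (CommRingCat.of R) ⟶ S) (t : SpecOver R B ⟶ T) :
    (Over.map (T.hom ≫ v)).obj (Over.mk t.left) ≅ (Over.map v).obj (SpecOver R B) :=
  Over.isoMk (Iso.refl _) (by
    change 𝟙 _ ≫ (SpecOver R B).hom ≫ v = t.left ≫ T.hom ≫ v
    rw [Category.id_comp, ← Category.assoc t.left, Over.w t])

/-- the point `c` as a point over `T` -/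
noncomputable def zc (t : SpecOver R B ⟶ T) (c : Pt R A B) : (Over.map (T.hom ≫ v)).obj (Over.mk t.left) ⟶ G :=
  (cmpIso v t).hom ≫ K.pt B c

theorem zc_left (t : SpecOver R B ⟶ T) (c : Pt R A B) : (zc K t c).left = (K.pt B c).left := Category.id_comp _

theorem zc_mul (t : SpecOver R B ⟶ T) (c c' : Pt R A B) : zc K t (c * c') = zc K t c * zc K t c' := by
  rw [zc, map_mul, MonObj.comp_mul]
  rfl

theorem zc_inv (t : SpecOver R B ⟶ T) (c : Pt R A B) : zc K t c⁻¹ = (zc K t c)⁻¹ := by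
  rw [zc, map_inv, GrpObj.comp_inv]
  rfl

theorem exists_zc (t : SpecOver R B ⟶ T) (z : (Over.map (T.hom ≫ v)).obj (Over.mk t.left) ⟶ G) :
    ∃ c : Pt R A B, zc K t c = z := by
  obtain ⟨c, hc⟩ := (K.pt B).surjective ((cmpIso v t).inv ≫ z)
  exact ⟨c, by rw [zc, hc, Iso.hom_inv_id_assoc]⟩

theorem pt_iff_zc {H : Over T.left} (h : H ⟶ Red.bc (T.hom ≫ v) G) (t : SpecOver R B ⟶ T) (c : Pt R A B) :
    Pt h t.left (K.pt B c).left ↔ ∃ p : Over.mk t.left ⟶ H, p ≫ h = bcEquiv (T.hom ≫ v) (Over.mk t.left) G (zc K t c) := by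
  rw [← MemAt.iff_of_over h (Over.mk t.left) (bcEquiv (T.hom ≫ v) (Over.mk t.left) G (zc K t c)), memAt_iff_pt,
    Equiv.symm_apply_apply, zc_left]
  rfl

theorem zc_map {C : Type u} [CommRing C] [Algebra R C] (t : SpecOver R B ⟶ T) (φ : B →ₐ[R] C) (c : Pt R A B) :
    (Over.map (T.hom ≫ v)).map (Over.homMk (specMap R φ).left : Over.mk (specMap R φ ≫ t).left ⟶ Over.mk t.left) ≫
      zc K t c = zc K (specMap R φ ≫ t) (Pt.map φ c) := by
  rw [zc, zc, K.nat]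
  apply Over.OverMorphism.ext
  change (specMap R φ).left ≫ 𝟙 _ ≫ (K.pt B c).left = 𝟙 _ ≫ (specMap R φ).left ≫ (K.pt B c).left
  rw [Category.id_comp, Category.id_comp]

end zc

variable {𝒬 : SubClass G} {R₀ : Type u} [CommRing R₀] [Algebra R R₀]

theorem condX_eq_conjE {T : Over (Spec (CommRingCat.of R))} (t₀ : T ⟶ SpecOver R R₀)
    (x₀ : 𝒬.subsF.obj (op ((Over.map v).obj (SpecOver R R₀)))) (x : 𝒬.subsF.obj (op ((Over.map v).obj T)))
    {H H' : Over T.left} [GrpObj H] [GrpObj H'] {h : H ⟶ Red.bc (T.hom ≫ v) G} {h' : H' ⟶ Red.bc (T.hom ≫ v) G}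
    (hQ : 𝒬.Q (T.hom ≫ v) h) (hQ' : 𝒬.Q (T.hom ≫ v) h') (hx : 𝒬.ofSub (T := (Over.map v).obj T) hQ = x)
    (hx' : 𝒬.ofSub (T := (Over.map v).obj T) hQ' = 𝒬.subsF.map ((Over.map v).map t₀).op x₀)
    {B : Type u} [CommRing B] [Algebra R B] (t : SpecOver R B ⟶ T) (ρ : R₀ →ₐ[R] B) (hρ : specMap R ρ = t ≫ t₀)
    (g₁ : Over.mk t.left ⟶ Red.bc (T.hom ≫ v) G) (hg : RedSub.ConjEq h' h g₁) :
    ∃ g : Pt R A B, condX K x t = conjE (condX K x₀ (𝟙 _)) ρ g := by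
  obtain ⟨z, hz⟩ := (bcEquiv (T.hom ≫ v) (Over.mk t.left) G).surjective g₁
  obtain ⟨g, rfl⟩ := exists_zc K t z
  refine ⟨g, ?_⟩
  funext C _ _ φ c
  subst hx
  apply propext
  let t' : SpecOver R C ⟶ T := specMap R φ ≫ t
  let c' : Pt R A C := (Pt.map φ g)⁻¹ * Pt.mk c * Pt.map φ g
  have h1 : condX K (𝒬.ofSub (T := (Over.map v).obj T) hQ) t C φ c ↔ Pt h t'.left (K.pt C (Pt.mk c)).left :=
    ptX_ofSub (T := (Over.map v).obj T) hQ _ _
  have h2 : conjE (condX K x₀ (𝟙 _)) ρ g C φ c ↔ Pt h' t'.left (K.pt C c').left := by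
    refine Iff.trans ?_ (ptX_ofSub (T := (Over.map v).obj T) hQ' _ _)
    rw [hx', ptX_map]
    have h3 : (specMap R (φ.comp ρ)).left ≫ (𝟙 (SpecOver R R₀) : SpecOver R R₀ ⟶ SpecOver R R₀).left =
        t'.left ≫ t₀.left := by
      rw [specMap_comp, hρ, Over.id_left, Category.comp_id]
      change ((specMap R φ) ≫ t ≫ t₀).left = ((specMap R φ ≫ t) ≫ t₀).left
      rw [Category.assoc]
    exact iff_of_eq (congrArg (fun w => PtX 𝒬 x₀ w (K.pt C c').left) h3)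
  rw [h1, h2, pt_iff_zc, pt_iff_zc]
  let x : Over.mk t'.left ⟶ Over.mk t.left := Over.homMk (specMap R φ).left
  have h3 := (Groth.Agent.Redsub.H649.ConjLoc.conjEq_iff h' h g₁).1 hg (Over.mk t'.left) x
    (bcEquiv (T.hom ≫ v) (Over.mk t'.left) G (zc K t' (Pt.mk c)))
  rw [← h3, InC]
  have h4 : x ≫ g₁ = bcEquiv (T.hom ≫ v) (Over.mk t'.left) G (zc K t' (Pt.map φ g)) := by
    rw [← hz, ← comp_bcEquiv, zc_map]
  have h5 : (x ≫ g₁)⁻¹ * bcEquiv (T.hom ≫ v) (Over.mk t'.left) G (zc K t' (Pt.mk c)) * (x ≫ g₁) =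
      bcEquiv (T.hom ≫ v) (Over.mk t'.left) G (zc K t' c') := by
    rw [h4, zc_mul, zc_mul, zc_inv]
    change (bcMulEquiv (T.hom ≫ v) (Over.mk t'.left) G _)⁻¹ * bcMulEquiv (T.hom ≫ v) (Over.mk t'.left) G _ *
      bcMulEquiv (T.hom ≫ v) (Over.mk t'.left) G _ = bcMulEquiv (T.hom ≫ v) (Over.mk t'.left) G _
    rw [map_mul, map_mul, map_inv]
  rw [h5]

/-- A class whose members are étale-locally conjugate, if one member `x₀` over `Spec R₀` is given. -/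
theorem locConj_of {𝒬 : SubClass G} (x₀ : 𝒬.subsF.obj (op ((Over.map v).obj (SpecOver R R₀))))
    (hconj : ∀ {T : Over (Spec (CommRingCat.of R))} {H H' : Over T.left} [GrpObj H] [GrpObj H']
      (h : H ⟶ Red.bc (T.hom ≫ v) G) (h' : H' ⟶ Red.bc (T.hom ≫ v) G), 𝒬.Q (T.hom ≫ v) h → 𝒬.Q (T.hom ≫ v) h' →
      ∀ τ : T.left, ∃ (U : Scheme.{u}) (π : U ⟶ T.left), Etale π ∧ τ ∈ Set.range π ∧
        ∃ g : Over.mk π ⟶ Red.bc (T.hom ≫ v) G, RedSub.ConjEq h h' g) :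
    LocConj.LocConj K (fun _ : Unit => x₀) := by
  intro T t₀ x τ
  obtain ⟨H, _, h, hQ, hx⟩ := 𝒬.exists_ofSub x
  obtain ⟨H', _, h', hQ', hx'⟩ := 𝒬.exists_ofSub (𝒬.subsF.map ((Over.map v).map t₀).op x₀)
  change H ⟶ Red.bc (T.hom ≫ v) G at h
  change H' ⟶ Red.bc (T.hom ≫ v) G at h'
  obtain ⟨U, π, h1, ⟨y, rfl⟩, g, hg⟩ := hconj h' h hQ' hQ τ
  obtain ⟨W, hW, hyW, -⟩ := exists_isAffineOpen_mem_and_subset (x := y) (U := ⊤) trivial
  let j : Spec Γ(U, W) ⟶ U := hW.fromSpec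
  have hj : y ∈ Set.range j := by
    rw [hW.range_fromSpec]
    exact hyW
  obtain ⟨b, hb⟩ := hj
  let π' : Spec Γ(U, W) ⟶ T.left := j ≫ π
  let _ : Algebra R Γ(U, W) := algOf (π' ≫ T.hom)
  let t : SpecOver R Γ(U, W) ⟶ T := tOver π' _ rfl
  have ht : t.left = π' := rfl
  let g₁ : Over.mk t.left ⟶ Red.bc (T.hom ≫ v) G := (Over.homMk j : Over.mk π' ⟶ Over.mk π) ≫ g
  obtain ⟨c, hc⟩ := condX_eq_conjE K t₀ x₀ x hQ hQ' hx hx' t (specPreimage R (t ≫ t₀))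
    (specMap_specPreimage R _) g₁ (Groth.Agent.Redsub.H649.ConjLoc.conjEq_comp hg _)
  refine ⟨Γ(U, W), inferInstance, inferInstance, t, ?_, ⟨b, ?_⟩, specPreimage R (t ≫ t₀),
    specMap_specPreimage R _, c, (), hc⟩
  · rw [ht]
    have hj' : IsOpenImmersion j := hW.isOpenImmersion_fromSpec
    exact inferInstanceAs (Etale (j ≫ π))
  · change (j ≫ π) b = π y
    rw [Scheme.Hom.comp_apply, hb]

open Groth.Agent.RedSub.H660.Classes in
/-- Borel subgroups are étale-locally conjugate. -/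
theorem locConj_borel (hG : Red.IsReductive G)
    (x₀ : (good_isBorel.toClass hG).subsF.obj (op ((Over.map v).obj (SpecOver R R₀)))) :
    LocConj.LocConj K (fun _ : Unit => x₀) := by
  refine locConj_of K x₀ fun {T H H'} _ _ h h' hQ hQ' τ => ?_
  obtain ⟨U, π, h1, h2, g, hg⟩ := RedSub.H645.BorelEt.etConj_of_isBorel
    (RedBcAny636.isReductive_bc (T.hom ≫ v) hG) h h' hQ hQ' τ
  exact ⟨U, π, h1, h2, g, (RedSub.H645.ConjEqIff.conjEq_iff g).2 hg⟩

end Groth.Agent.RedSub.H646.BorelConj
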