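import Groth.Agent.Sga3B.RepDescent
import Groth.Agent.Sga3B.Parab.EtSub
import Groth.Agent.Sga3B.MT.MemAt
import Mathlib.AlgebraicGeometry.ZariskisMainTheorem

/-!
# Étale descent of representability by closed subschemes

`F` an étale sheaf on `Over V` with a natural injection into the points of `X : Over V`.  If over an étale cover
`p : V' ⟶ V` the sheaf is represented by `A'` and the map `A' ⟶ X_{V'}` is a closed immersion (e.g. `A'` proper and `X`
separated), then `F` is represented by a closed subscheme of `X`.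
-/

set_option autoImplicit false
universe u

open CategoryTheory CategoryTheory.Limits AlgebraicGeometry Opposite

namespace Groth.Agent.RedSub.H646.ClosedDesc

open Groth.Agent.Sga3B Groth.Agent.Sga3B.BcPts Groth.Agent.Sga3B.RepDescent Groth.Agent.Sga3B.Parab

variable {V : Scheme.{u}} {F : (Over V)ᵒᵖ ⥤ Type u} {X : Over V}

/-- A natural injection of `F` into the points of `X`. -/
structure Inj (F : (Over V)ᵒᵖ ⥤ Type u) (X : Over V) where
  /-- the map -/
  δ : ∀ {T : Over V}, F.obj (op T) → (T ⟶ X)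
  nat : ∀ {T T' : Over V} (g : T' ⟶ T) (y : F.obj (op T)), δ (F.map g.op y) = g ≫ δ y
  inj : ∀ {T : Over V}, Function.Injective (δ (T := T))

/-- The image of `F` in the points of `X`. -/
def Inj.P (d : Inj F X) (T : Over V) (t : T ⟶ X) : Prop := ∃ y : F.obj (op T), d.δ y = t

variable (d : Inj F X) (hF : IsEtSheaf F)

theorem Inj.P.comp {d : Inj F X} {T' T : Over V} (h : T' ⟶ T) {t : T ⟶ X} (H : d.P T t) : d.P T' (h ≫ t) := by
  obtain ⟨y, rfl⟩ := H
  exact ⟨F.map h.op y, d.nat h y⟩

theorem epi_of_left {T' T : Over V} (h : T' ⟶ T) [Epi h.left] : Epi h :=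
  ⟨fun _ _ hab => Over.OverMorphism.ext ((cancel_epi h.left).1 (congrArg (·.left) hab))⟩

include hF in
theorem P_descend {T' T : Over V} (h : T' ⟶ T) [Etale h.left] [Surjective h.left] (t : T ⟶ X)
    (H : d.P T' (h ≫ t)) : d.P T t := by
  obtain ⟨y', hy'⟩ := H
  obtain ⟨y, hy, -⟩ := hF.existsUnique h y' fun _ _ _ hab => d.inj (by
    rw [d.nat, d.nat, hy', ← Category.assoc, ← Category.assoc, hab])
  refine ⟨y, ?_⟩
  have : Epi h.left := Flat.epi_of_flat_of_surjective h.left
  have : Epi h := epi_of_left h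
  rw [← cancel_epi h, ← d.nat, hy, hy']

include hF in
theorem P_zariski {T : Over V} (t : T ⟶ X) (𝒰 : Scheme.OpenCover.{u} T.left)
    (H : ∀ i, d.P (Over.mk (𝒰.f i ≫ T.hom)) (Over.homMk (𝒰.f i) ≫ t)) : d.P T t := by
  choose y hy using H
  let f : ∀ i, Over.mk (𝒰.f i ≫ T.hom) ⟶ T := fun i => Over.homMk (𝒰.f i)
  obtain ⟨z, hz, -⟩ := hF (fun i => Over.mk (𝒰.f i ≫ T.hom)) f (fun i => by
      have : Etale (𝒰.f i) := inferInstance
      exact this)
    (fun τ => ⟨𝒰.idx τ, by
      obtain ⟨x, hx⟩ := 𝒰.covers τ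
      exact ⟨x, hx⟩⟩) y (fun i j R a b hab => d.inj (by
      rw [d.nat, d.nat, hy, hy]
      change a ≫ f i ≫ t = b ≫ f j ≫ t
      rw [← Category.assoc, ← Category.assoc, hab]))
  refine ⟨z, ?_⟩
  apply Over.OverMorphism.ext
  refine Scheme.Cover.hom_ext 𝒰 _ _ fun i => ?_
  have h1 : f i ≫ d.δ z = f i ≫ t := by
    rw [← d.nat, hz]
    exact hy i
  exact congrArg (·.left) h1

section rep

variable {V' : Scheme.{u}} (p : V' ⟶ V) {A' : Over V'} (r' : ((Over.map p).op ⋙ F).RepresentableBy A')

/-- the map `A' ⟶ X_{V'}` -/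
noncomputable def kMap : A' ⟶ Red.bc p X := bcEquiv p A' X (d.δ (T := (Over.map p).obj A') (r'.homEquiv (𝟙 A')))

theorem comp_kMap {T : Over V'} (x : T ⟶ A') :
    x ≫ kMap d p r' = bcEquiv p T X (d.δ (T := (Over.map p).obj T) (r'.homEquiv x)) := by
  rw [kMap, ← comp_bcEquiv, ← d.nat]
  congr 2
  have h1 := r'.homEquiv_comp x (𝟙 A')
  rw [Category.comp_id] at h1
  exact h1.symm

theorem exists_iff_P {T : Over V'} (g : T ⟶ Red.bc p X) :
    (∃ x : T ⟶ A', x ≫ kMap d p r' = g) ↔ d.P ((Over.map p).obj T) ((bcEquiv p T X).symm g) := by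
  constructor
  · rintro ⟨x, rfl⟩
    refine ⟨r'.homEquiv x, ?_⟩
    rw [comp_kMap, Equiv.symm_apply_apply]
  · rintro ⟨y, hy⟩
    refine ⟨r'.homEquiv.symm y, ?_⟩
    rw [comp_kMap, Equiv.apply_symm_apply, hy, Equiv.apply_symm_apply]

theorem mono_kMap : Mono (kMap d p r') := by
  refine ⟨fun {T} x y h => ?_⟩
  rw [comp_kMap, comp_kMap] at h
  exact r'.homEquiv.injective (d.inj ((bcEquiv p T X).injective h))

theorem mono_left_kMap : Mono (kMap d p r').left := by
  have := mono_kMap d p r'
  exact inferInstance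

/-- If `A'` is proper and `X` separated, `A' ⟶ X_{V'}` is a closed immersion. -/
theorem isClosedImmersion_kMap [IsProper A'.hom] [IsSeparated X.hom] : IsClosedImmersion (kMap d p r').left := by
  rw [IsClosedImmersion.iff_isProper_and_mono]
  refine ⟨?_, mono_left_kMap d p r'⟩
  have h1 : (kMap d p r').left ≫ (Red.bc p X).hom = A'.hom := Over.w _
  have h2 : IsSeparated (Red.bc p X).hom := inferInstanceAs (IsSeparated (pullback.snd X.hom p))
  have h3 : IsProper ((kMap d p r').left ≫ (Red.bc p X).hom) := by rw [h1]; infer_instance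
  exact IsProper.of_comp (kMap d p r').left (Red.bc p X).hom

variable [Etale p] [Surjective p]

/-- the projection from the base change to `V'` of an object -/
noncomputable def prj (p : V' ⟶ V) (T : Over V) : (Over.map p).obj (Red.bc p T) ⟶ T :=
  Over.homMk (pullback.fst T.hom p) pullback.condition

omit [Etale p] [Surjective p] in
theorem bcEquiv_prj (T : Over V) : bcEquiv p (Red.bc p T) T (prj p T) = 𝟙 _ := by
  apply Over.OverMorphism.ext
  rw [bcEquiv, Adjunction.homEquiv_unit]
  apply pullback.hom_ext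
  · simp only [prj, Over.comp_left, Category.assoc, Over.id_left]
    refine (congrArg (_ ≫ ·) (pullback.lift_fst _ _ _)).trans ?_
    simp only [Over.mapPullbackAdj_unit_app, Over.homMk_left]
    exact (Category.assoc _ _ _).symm.trans ((congrArg (· ≫ _) (pullback.lift_fst _ _ _)).trans (Category.id_comp _))
  · simp only [prj, Over.comp_left, Category.assoc, Over.id_left]
    refine (congrArg (_ ≫ ·) (pullback.lift_snd _ _ _)).trans ?_
    simp only [Over.mapPullbackAdj_unit_app, Over.homMk_left]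
    refine (pullback.lift_snd _ _ _).trans ?_
    simp

include hF in
theorem P_iff {T : Over V} (t : T ⟶ X) :
    d.P T t ↔ ∃ x : Red.bc p T ⟶ A', x ≫ kMap d p r' = (Over.pullback p).map t := by
  have h1 : Etale (prj p T).left := inferInstanceAs (Etale (pullback.fst T.hom p))
  have h2 : Surjective (prj p T).left := inferInstanceAs (Surjective (pullback.fst T.hom p))
  have h3 : (bcEquiv p (Red.bc p T) X).symm ((Over.pullback p).map t) = prj p T ≫ t := by
    rw [Equiv.symm_apply_eq, bcEquiv_comp, bcEquiv_prj, Category.id_comp]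
  rw [exists_iff_P, h3]
  exact ⟨fun H => H.comp _, P_descend d hF (prj p T) t⟩

include hF in
theorem P_flat [IsClosedImmersion (kMap d p r').left] {T' T : Over V} (h : T' ⟶ T) [Flat h.left] [Surjective h.left]
    (t : T ⟶ X) (H : d.P T' (h ≫ t)) : d.P T t := by
  rw [P_iff d hF p r'] at H ⊢
  obtain ⟨x, hx⟩ := H
  let hb : Red.bc p T' ⟶ Red.bc p T := (Over.pullback p).map h
  have hsq : IsPullback hb.left (pullback.fst T'.hom p) (pullback.fst T.hom p) h.left := by
    have e1 : IsPullback (pullback.fst T'.hom p) (pullback.snd T'.hom p) T'.hom p := IsPullback.of_hasPullback _ _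
    have e2 : IsPullback (pullback.fst T.hom p) (pullback.snd T.hom p) T.hom p := IsPullback.of_hasPullback _ _
    have w1 : hb.left ≫ pullback.fst T.hom p = pullback.fst T'.hom p ≫ h.left := pullback.lift_fst _ _ _
    have w2 : hb.left ≫ pullback.snd T.hom p = pullback.snd T'.hom p := pullback.lift_snd _ _ _
    refine IsPullback.of_right (h₁₂ := pullback.snd T.hom p) (v₁₃ := p) (h₂₂ := T.hom) ?_ w1 e2.flip
    rw [w2, Over.w h]
    exact e1.flip
  have f1 : Flat hb.left := MorphismProperty.of_isPullback hsq.flip ‹Flat h.left›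
  have f2 : Surjective hb.left := MorphismProperty.of_isPullback hsq.flip ‹Surjective h.left›
  have : IsSchemeTheoreticallyDominant hb.left :=
    Sga3C.FlatGeneric.isSchemeTheoreticallyDominant_of_flat_surjective hb.left
  refine Sga3C.SchemImage.exists_lift_over hb ((Over.pullback p).map t) (kMap d p r') x ?_
  rw [hx, Functor.map_comp]

include hF in
theorem isLocalPt [IsClosedImmersion (kMap d p r').left] : EtSub.IsLocalPt (G := X) d.P where
  comp h _ H := H.comp h
  zariski _ 𝒰 H := P_zariski d hF _ 𝒰 H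
  flat h _ _ _ _ _ H := P_flat d hF p r' h _ H

include hF in
/-- **Étale descent.** -/
theorem exists_closed_rep [IsClosedImmersion (kMap d p r').left] :
    ∃ (Z : Over V) (i : Z ⟶ X), IsClosedImmersion i.left ∧ Nonempty (F.RepresentableBy Z) := by
  obtain ⟨Z, i, hi, hZ⟩ := EtSub.exists_closed (isLocalPt d hF p r') fun s => by
    obtain ⟨s', hs'⟩ := p.surjective s
    exact ⟨V', p, inferInstance, inferInstance, ⟨s', hs'⟩, A', kMap d p r', inferInstance,
      fun T g => exists_iff_P d p r' g⟩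
  have hm : Mono i := Sga3C.ClosedSub.mono_of_left i
  obtain ⟨ξ, hξ⟩ := (hZ Z i).1 ⟨𝟙 _, Category.id_comp _⟩
  refine ⟨Z, i, hi, ⟨⟨fun {T} => Equiv.ofBijective (fun g => F.map g.op ξ) ⟨?_, ?_⟩, ?_⟩⟩⟩
  · intro g g' h
    have h1 := congrArg d.δ h
    dsimp only at h1
    rw [d.nat, d.nat, hξ] at h1
    exact (cancel_mono i).1 h1
  · intro y
    obtain ⟨z, hz⟩ := (hZ T (d.δ y)).2 ⟨y, rfl⟩
    refine ⟨z, d.inj ?_⟩
    dsimp only
    rw [d.nat, hξ, hz]
  · intro T T' f g
    change F.map (f ≫ g).op ξ = F.map f.op (F.map g.op ξ)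
    rw [op_comp, Functor.map_comp_apply]

end rep

end Groth.Agent.RedSub.H646.ClosedDesc
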