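import Groth.Agent.RedSub.H646.InfPt
import Groth.Agent.S2986

/-!
# Conjugates of a smooth subgroup are detected on an infinitesimal neighbourhood of the unit

`Spec A` an affine group over `R` (`PtGrp R A`), `R₀` an `R`-algebra, `Q`, `Q'` closed subschemes of the group over `R₀`
(conditions `E`, `E'` represented by ideals `I`, `I'` of `R₀ ⊗ A`), `Q` smooth with geometrically connected fibres
through the unit, `I'` finitely generated: there is one `n` such that for every `R₀`-algebra `B` and `g ∈ G(B)`, if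
conjugation by `g` carries the `n`-th infinitesimal neighbourhood of the unit in `Q` into `Q'` then it carries `Q` into
`Q'`.  (From S2986.)
-/

set_option autoImplicit false

universe u

open TensorProduct
open Groth.Agent.Sga3B.Cell

namespace Groth.Agent.RedSub.H646.ConjInf

open Groth.Agent.RedSub.H646.StabIdeal Groth.Agent.RedSub.H646.DeltaRing Groth.Agent.RedSub.H646.InfPt

variable {R A : Type u} [CommRing R] [CommRing A] [Algebra R A] [PtGrp R A] {R₀ : Type u} [CommRing R₀] [Algebra R R₀]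

/-- `n` detects `g Q g⁻¹ ⊆ Q'`. -/
def Detects (E E' : Cond R A R₀) (n : ℕ) : Prop :=
  ∀ (B : Type u) [CommRing B] [Algebra R B] (ρ : R₀ →ₐ[R] B) (g : Pt R A B),
    (∀ (C : Type u) [CommRing C] [Algebra R C] (φ : B →ₐ[R] C) (c : Pt R A C), E C (φ.comp ρ) c → Inf n c →
      E' C (φ.comp ρ) (Pt.map φ g * c * (Pt.map φ g)⁻¹)) →
    ∀ (C : Type u) [CommRing C] [Algebra R C] (φ : B →ₐ[R] C) (c : Pt R A C), E C (φ.comp ρ) c →
      E' C (φ.comp ρ) (Pt.map φ g * c * (Pt.map φ g)⁻¹)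

/-- The main step, for a model `P` of `R₀ ⊗ A` and a model `D` of `P ⊗ O(Q)`. -/
theorem exists_detects_aux {E E' : Cond R A R₀} {I' : Ideal (R₀ ⊗[R] A)} (hE' : IsRep E' I') (hI' : I'.FG)
    (P : Type u) [CommRing P] [Algebra R P] (ρP : R₀ →ₐ[R] P) (gP : Pt R A P)
    (hP : ∀ (B : Type u) [CommRing B] [Algebra R B] (ρ : R₀ →ₐ[R] B) (g : Pt R A B), ∃ θ : P →ₐ[R] B,
      θ.comp ρP = ρ ∧ Pt.map θ gP = g)
    (D : Type u) [CommRing D] [Algebra P D] [Algebra R D] [IsScalarTower R P D] [Algebra.Smooth P D]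
    (hconn : ∀ (K : Type u) [Field K] [IsAlgClosed K] [Algebra P K], ConnectedSpace (PrimeSpectrum (K ⊗[P] D)))
    (qD : Pt R A D) (hqD : E D ((IsScalarTower.toAlgHom R P D).comp ρP) qD) (e : D →ₐ[P] P)
    (he : ∀ a ∈ aug R A, e (qD.hom a) = 0)
    (hcomp : ∀ (B C : Type u) [CommRing B] [Algebra R B] [CommRing C] [Algebra R C] (χ : B →ₐ[R] C) (ρ : R₀ →ₐ[R] B)
      (c : Pt R A B), E B ρ c → E C (χ.comp ρ) (Pt.map χ c))
    (hlift : ∀ (C : Type u) [CommRing C] [Algebra P C] [Algebra R C] [IsScalarTower R P C] (c : Pt R A C),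
      E C ((IsScalarTower.toAlgHom R P C).comp ρP) c → ∃ θ : D →ₐ[P] C, Pt.map (θ.restrictScalars R) qD = c) :
    ∃ n : ℕ, Detects E E' n := by
  let gD : Pt R A D := Pt.map (IsScalarTower.toAlgHom R P D) gP
  let cD : Pt R A D := gD * qD * gD⁻¹
  let κ : R₀ ⊗[R] A →ₐ[R] D := lft ((IsScalarTower.toAlgHom R P D).comp ρP) cD
  let J₁ : Ideal D := I'.map κ
  obtain ⟨n, hn⟩ := Groth.Agent.S2986.result P D hconn e J₁ (hI'.map _)
  refine ⟨n, fun B _ _ ρ g hg C _ _ φ c hc => ?_⟩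
  obtain ⟨ψ, hψ1, hψ2⟩ := hP B ρ g
  let _ : Algebra P B := ψ.toRingHom.toAlgebra
  have i0 : IsScalarTower R P B := IsScalarTower.of_algebraMap_eq' (ψ.comp_algebraMap).symm
  have hψ : IsScalarTower.toAlgHom R P B = ψ := AlgHom.ext fun x => rfl
  have hqD' : (aug R A ^ (n + 1)).map qD.hom ≤ RingHom.ker e ^ (n + 1) := by
    rw [Ideal.map_pow]
    apply Ideal.pow_right_mono
    rw [Ideal.map_le_iff_le_comap]
    intro x hx
    rw [Ideal.mem_comap, RingHom.mem_ker]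
    exact he x hx
  generalize RingHom.ker e ^ (n + 1) = m at hn hqD'
  have key := (hn B).2 (by
    let φ' : B →ₐ[R] B ⊗[P] (D ⧸ m) :=
      (Algebra.TensorProduct.includeLeft : B →ₐ[P] B ⊗[P] (D ⧸ m)).restrictScalars R
    let ψ' : D →ₐ[R] B ⊗[P] (D ⧸ m) :=
      (((Algebra.TensorProduct.includeRight : (D ⧸ m) →ₐ[P] B ⊗[P] (D ⧸ m))).comp
      (Ideal.Quotient.mkₐ P m)).restrictScalars R
    have h7 : φ'.comp ψ = ψ'.comp (IsScalarTower.toAlgHom R P D) := by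
      apply AlgHom.ext
      intro a
      change (algebraMap P B a) ⊗ₜ[P] (1 : D ⧸ m) = (1 : B) ⊗ₜ[P] (Ideal.Quotient.mk m (algebraMap P D a))
      have h8 : (Ideal.Quotient.mk m (algebraMap P D a)) = a • (1 : D ⧸ m) := by
        rw [Algebra.smul_def, mul_one]
        rfl
      rw [h8, ← TensorProduct.smul_tmul, Algebra.smul_def, mul_one]
    have h7ρ : φ'.comp ρ = ψ'.comp ((IsScalarTower.toAlgHom R P D).comp ρP) := by
      rw [← hψ1, ← AlgHom.comp_assoc, h7, AlgHom.comp_assoc]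
    have h7g : Pt.map φ' g = Pt.map ψ' gD := by
      rw [← hψ2, Pt.map_map, h7, ← Pt.map_map]
    have h2 := hg (B ⊗[P] (D ⧸ m)) φ' (Pt.map ψ' qD) (by
      rw [h7ρ]
      exact hcomp _ _ ψ' _ qD hqD) (by
      intro a ha
      rw [Pt.map_hom_apply]
      have h6 : Ideal.Quotient.mk m (qD.hom a) = 0 :=
        Ideal.Quotient.eq_zero_iff_mem.2 (hqD' (Ideal.mem_map_of_mem _ ha))
      change (1 : B) ⊗ₜ[P] (Ideal.Quotient.mk m (qD.hom a)) = 0
      rw [h6, TensorProduct.tmul_zero])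
    rw [h7g, ← Pt.map_mul, ← Pt.map_inv, ← Pt.map_mul, h7ρ, hE'] at h2
    intro x hx
    have h9 : J₁ ≤ RingHom.ker ψ' := by
      rw [Ideal.map_le_iff_le_comap]
      intro a ha
      rw [Ideal.mem_comap, RingHom.mem_ker]
      have h10 := h2 a ha
      change lft (ψ'.comp ((IsScalarTower.toAlgHom R P D).comp ρP)) (ψ'.comp cD) a = 0 at h10
      rw [comp_lft] at h10
      exact h10
    exact h9 hx)
  let _ : Algebra B C := φ.toRingHom.toAlgebra
  have i1 : IsScalarTower R B C := IsScalarTower.of_algebraMap_eq' (φ.comp_algebraMap).symm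
  let _ : Algebra P C := (φ.toRingHom.comp ψ.toRingHom).toAlgebra
  have i2 : IsScalarTower P B C := IsScalarTower.of_algebraMap_eq' rfl
  have i3 : IsScalarTower R P C := IsScalarTower.of_algebraMap_eq' (by
    change _ = (φ.toRingHom.comp ψ.toRingHom).comp (algebraMap R P)
    rw [RingHom.comp_assoc]
    have h1 : ψ.toRingHom.comp (algebraMap R P) = algebraMap R B := ψ.comp_algebraMap
    rw [h1]
    exact (φ.comp_algebraMap).symm)
  have hPC : IsScalarTower.toAlgHom R P C = φ.comp ψ := AlgHom.ext fun x => rfl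
  have hρC : φ.comp ρ = (IsScalarTower.toAlgHom R P C).comp ρP := by
    rw [hPC, ← hψ1, AlgHom.comp_assoc]
  rw [hρC] at hc ⊢
  obtain ⟨θ, hθ⟩ := hlift C c hc
  have hθP : (θ.restrictScalars R).comp (IsScalarTower.toAlgHom R P D) = IsScalarTower.toAlgHom R P C := by
    apply AlgHom.ext
    intro x
    exact θ.commutes x
  have hx : ∀ x ∈ J₁, θ x = 0 := by
    intro x hx
    have h1 := congrArg (Algebra.TensorProduct.lift (Algebra.ofId B C) θ (fun _ _ => Commute.all _ _)) (key x hx)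
    rw [Algebra.TensorProduct.lift_tmul, map_one, one_mul, map_zero] at h1
    exact h1
  have h2 : Pt.map φ g * c * (Pt.map φ g)⁻¹ = Pt.map (θ.restrictScalars R) cD := by
    have e1 : Pt.map (θ.restrictScalars R) gD = Pt.map φ g := by
      rw [Pt.map_map, hθP, hPC, ← hψ2, Pt.map_map]
    simp only [cD, Pt.map_mul, Pt.map_inv, e1, hθ]
  rw [h2, ← hθP, AlgHom.comp_assoc, hE']
  intro x hx'
  change lft ((θ.restrictScalars R).comp ((IsScalarTower.toAlgHom R P D).comp ρP))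
    ((θ.restrictScalars R).comp cD) x = 0
  rw [comp_lft]
  exact hx _ (Ideal.mem_map_of_mem _ hx')

/-- The second step, for a model `P` of `R₀ ⊗ A` and a model `O` of `O(Q)`. -/
theorem exists_detects_aux2 {E E' : Cond R A R₀} {I' : Ideal (R₀ ⊗[R] A)} (hE' : IsRep E' I') (hI' : I'.FG)
    (P : Type u) [CommRing P] [Algebra R₀ P] [Algebra R P] [IsScalarTower R R₀ P] (gP : Pt R A P)
    (hP : ∀ (B : Type u) [CommRing B] [Algebra R B] (ρ : R₀ →ₐ[R] B) (g : Pt R A B), ∃ θ : P →ₐ[R] B,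
      θ.comp (IsScalarTower.toAlgHom R R₀ P) = ρ ∧ Pt.map θ gP = g)
    (O : Type u) [CommRing O] [Algebra R₀ O] [Algebra R O] [IsScalarTower R R₀ O] [Algebra.Smooth R₀ O]
    (hconn : ∀ (K : Type u) [Field K] [IsAlgClosed K] [Algebra R₀ K], ConnectedSpace (PrimeSpectrum (K ⊗[R₀] O)))
    (qO : Pt R A O) (hqO : E O (IsScalarTower.toAlgHom R R₀ O) qO) (ε : O →ₐ[R₀] R₀)
    (hε : ∀ a, ε (qO.hom a) = (1 : Pt R A R₀).hom a)
    (hcomp : ∀ (B C : Type u) [CommRing B] [Algebra R B] [CommRing C] [Algebra R C] (χ : B →ₐ[R] C) (ρ : R₀ →ₐ[R] B)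
      (c : Pt R A B), E B ρ c → E C (χ.comp ρ) (Pt.map χ c))
    (hlift : ∀ (C : Type u) [CommRing C] [Algebra R₀ C] [Algebra R C] [IsScalarTower R R₀ C] (c : Pt R A C),
      E C (IsScalarTower.toAlgHom R R₀ C) c → ∃ f : O →ₐ[R₀] C, ∀ a, f (qO.hom a) = c.hom a) :
    ∃ n : ℕ, Detects E E' n := by
  let ι₂ : O →ₐ[R] P ⊗[R₀] O := (Algebra.TensorProduct.includeRight : O →ₐ[R₀] P ⊗[R₀] O).restrictScalars R
  refine exists_detects_aux hE' hI' P (IsScalarTower.toAlgHom R R₀ P) gP hP (P ⊗[R₀] O) ?_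
    (Pt.map ι₂ qO) ?_
    (Algebra.TensorProduct.lift (AlgHom.id P P) ((Algebra.ofId R₀ P).comp ε) (fun _ _ => Commute.all _ _)) ?_
    hcomp ?_
  · intro K _ _ _
    let _ : Algebra R₀ K := ((algebraMap P K).comp (algebraMap R₀ P)).toAlgebra
    have : IsScalarTower R₀ P K := IsScalarTower.of_algebraMap_eq' rfl
    have h2 := hconn K
    let F : K ⊗[P] (P ⊗[R₀] O) ≃ₐ[K] K ⊗[R₀] O := Algebra.TensorProduct.cancelBaseChange R₀ P K K O
    let hh : PrimeSpectrum (K ⊗[R₀] O) ≃ₜ PrimeSpectrum (K ⊗[P] (P ⊗[R₀] O)) :=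
      PrimeSpectrum.homeomorphOfRingEquiv F.symm.toRingEquiv
    exact hh.surjective.connectedSpace hh.continuous
  · have h2 := hcomp _ _ ι₂ _ _ hqO
    have h3 : ι₂.comp (IsScalarTower.toAlgHom R R₀ O) = (IsScalarTower.toAlgHom R P (P ⊗[R₀] O)).comp
        (IsScalarTower.toAlgHom R R₀ P) := by
      apply AlgHom.ext
      intro x
      change (1 : P) ⊗ₜ[R₀] (algebraMap R₀ O x) = (algebraMap R₀ P x) ⊗ₜ[R₀] (1 : O)
      rw [Algebra.algebraMap_eq_smul_one, ← TensorProduct.smul_tmul, ← Algebra.algebraMap_eq_smul_one]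
    rw [h3] at h2
    exact h2
  · intro a ha
    change (Algebra.TensorProduct.lift (AlgHom.id P P) ((Algebra.ofId R₀ P).comp ε)
      (fun _ _ => Commute.all _ _)) ((1 : P) ⊗ₜ[R₀] (qO.hom a)) = 0
    rw [Algebra.TensorProduct.lift_tmul, map_one, one_mul, AlgHom.comp_apply, hε, one_hom_apply]
    have h5 : (1 : Pt R A R).hom a = 0 := ha
    rw [h5, map_zero, map_zero]
  · intro C _ _ _ _ c hc
    let _ : Algebra R₀ C := ((algebraMap P C).comp (algebraMap R₀ P)).toAlgebra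
    have i1 : IsScalarTower R₀ P C := IsScalarTower.of_algebraMap_eq' rfl
    have i2 : IsScalarTower R R₀ C := by
      apply IsScalarTower.of_algebraMap_eq
      intro x
      rw [IsScalarTower.algebraMap_apply R P C, IsScalarTower.algebraMap_apply R₀ P C,
        ← IsScalarTower.algebraMap_apply R R₀ P]
    obtain ⟨f, hf⟩ := hlift C c hc
    refine ⟨Algebra.TensorProduct.lift (Algebra.ofId _ C) f (fun _ _ => Commute.all _ _), ?_⟩
    apply Pt.ext
    intro a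
    rw [← hf a]
    change (Algebra.TensorProduct.lift (Algebra.ofId _ C) f (fun _ _ => Commute.all _ _))
      ((1 : P) ⊗ₜ[R₀] (qO.hom a)) = _
    rw [Algebra.TensorProduct.lift_tmul, map_one, one_mul]

omit [PtGrp R A] in
/-- An `R₀`-algebra map out of the coordinate ring of `Q` from a point of `Q`. -/
theorem exists_algHom {E : Cond R A R₀} {I : Ideal (R₀ ⊗[R] A)} (hE : IsRep E I) (C : Type u) [CommRing C]
    [Algebra R C] [Algebra R₀ C] [IsScalarTower R R₀ C] (c : Pt R A C) (hc : E C (IsScalarTower.toAlgHom R R₀ C) c) :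
    ∃ f : ((R₀ ⊗[R] A) ⧸ I) →ₐ[R₀] C, ∀ a : A, f (uR I a) = c.hom a := by
  obtain ⟨f, hf1, hf2⟩ := exists_lift_of_rep hE hc
  refine ⟨{ f with commutes' := fun r => ?_ }, fun a => DFunLike.congr_fun hf2 a⟩
  exact DFunLike.congr_fun hf1 r

/-- **Infinitesimal detection**: one `n` for all conjugates. -/
theorem exists_detects {E E' : Cond R A R₀} {I I' : Ideal (R₀ ⊗[R] A)} (hE : IsRep E I) (hE' : IsRep E' I')
    (hI' : I'.FG) (h1 : E R₀ (AlgHom.id R R₀) (1 : Pt R A R₀)) [Algebra.Smooth R₀ ((R₀ ⊗[R] A) ⧸ I)]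
    (hconn : ∀ (K : Type u) [Field K] [IsAlgClosed K] [Algebra R₀ K],
      ConnectedSpace (PrimeSpectrum (K ⊗[R₀] ((R₀ ⊗[R] A) ⧸ I)))) :
    ∃ n : ℕ, Detects E E' n := by
  obtain ⟨ε, hε⟩ := exists_algHom hE R₀ (1 : Pt R A R₀) h1
  refine exists_detects_aux2 hE' hI' (R₀ ⊗[R] A) (Pt.mk Algebra.TensorProduct.includeRight) ?_
    ((R₀ ⊗[R] A) ⧸ I) hconn (Pt.mk (uR I)) (univ_rep hE) ε hε (fun B C _ _ _ _ χ ρ c hc => hE.comp χ hc) ?_
  · intro B _ _ ρ g
    exact ⟨lft ρ g.hom, Algebra.TensorProduct.lift_comp_includeLeft _ _ _,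
      Algebra.TensorProduct.lift_comp_includeRight ρ g.hom (fun _ _ => Commute.all _ _)⟩
  · intro C _ _ _ _ c hc
    exact exists_algHom hE C c hc

/-- If `n` detects, conjugates with the same `n`-th infinitesimal neighbourhoods are equal. -/
theorem Detects.conj_iff {E : Cond R A R₀} {n : ℕ} (hn : Detects E E n) {B : Type u} [CommRing B] [Algebra R B]
    (ρ : R₀ →ₐ[R] B) (g₁ g₂ : Pt R A B)
    (h : ∀ (C : Type u) [CommRing C] [Algebra R C] (φ : B →ₐ[R] C) (c : Pt R A C), Inf n c →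
      (conjE E ρ g₁ C φ c ↔ conjE E ρ g₂ C φ c)) :
    ∀ (C : Type u) [CommRing C] [Algebra R C] (φ : B →ₐ[R] C) (c : Pt R A C),
      conjE E ρ g₁ C φ c ↔ conjE E ρ g₂ C φ c := by
  have main : ∀ (g₁ g₂ : Pt R A B), (∀ (C : Type u) [CommRing C] [Algebra R C] (φ : B →ₐ[R] C) (c : Pt R A C), Inf n c →
      (conjE E ρ g₁ C φ c → conjE E ρ g₂ C φ c)) → ∀ (C : Type u) [CommRing C] [Algebra R C] (φ : B →ₐ[R] C)
      (c : Pt R A C), conjE E ρ g₁ C φ c → conjE E ρ g₂ C φ c := by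
    intro g₁ g₂ h C _ _ φ c hc
    have h1 := hn B ρ (g₂⁻¹ * g₁) (fun C _ _ φ c hc hi => by
      have h2 := h C φ (Pt.map φ g₁ * c * (Pt.map φ g₁)⁻¹) (inf_conj _ _ hi) (by
        have e : (Pt.map φ g₁)⁻¹ * (Pt.map φ g₁ * c * (Pt.map φ g₁)⁻¹) * Pt.map φ g₁ = c := by group
        rw [← e] at hc
        exact hc)
      have e : Pt.map φ (g₂⁻¹ * g₁) * c * (Pt.map φ (g₂⁻¹ * g₁))⁻¹ =
          (Pt.map φ g₂)⁻¹ * (Pt.map φ g₁ * c * (Pt.map φ g₁)⁻¹) * Pt.map φ g₂ := by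
        rw [Pt.map_mul, Pt.map_inv]
        group
      rw [e]
      exact h2) C φ ((Pt.map φ g₁)⁻¹ * c * Pt.map φ g₁) hc
    have e : Pt.map φ (g₂⁻¹ * g₁) * ((Pt.map φ g₁)⁻¹ * c * Pt.map φ g₁) * (Pt.map φ (g₂⁻¹ * g₁))⁻¹ =
        (Pt.map φ g₂)⁻¹ * c * Pt.map φ g₂ := by
      rw [Pt.map_mul, Pt.map_inv]
      group
    rw [e] at h1
    exact h1
  intro C _ _ φ c
  exact ⟨main g₁ g₂ (fun C _ _ φ c hi => (h C φ c hi).1) C φ c,
    main g₂ g₁ (fun C _ _ φ c hi => (h C φ c hi).2) C φ c⟩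

/-- The same with the submodules of `B^ι`. -/
theorem Detects.conj_iff_of_Lsub {E : Cond R A R₀} {I : Ideal (R₀ ⊗[R] A)} (hE : IsRep E I) {n : ℕ}
    (hn : Detects E E n) {ι : Type} [Fintype ι] (bs : Gen ι R (Wn R A n)) {B : Type u} [CommRing B]
    [Algebra R B] (ρ : R₀ →ₐ[R] B) (g₁ g₂ : Pt R A B)
    (h : Lsub bs (trunc n (conjE E ρ g₁)) = Lsub bs (trunc n (conjE E ρ g₂))) :
    ∀ (C : Type u) [CommRing C] [Algebra R C] (φ : B →ₐ[R] C) (c : Pt R A C),
      conjE E ρ g₁ C φ c ↔ conjE E ρ g₂ C φ c := by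
  obtain ⟨I₁, hI₁⟩ := exists_isRep_conjE hE ρ g₁
  obtain ⟨I₂, hI₂⟩ := exists_isRep_conjE hE ρ g₂
  refine hn.conj_iff ρ g₁ g₂ fun C _ _ φ c hc => ?_
  exact iff_of_Lsub_eq (bs := bs) (IsRep.trunc hI₁ n) (IsRep.trunc hI₂ n) h φ (ofPt c hc)

end Groth.Agent.RedSub.H646.ConjInf
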