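import Groth.Agent.RedSub.H646.ConjInf

/-!
# Infinitesimal detection for two subgroups
-/

set_option autoImplicit false

universe u

open TensorProduct
open Groth.Agent.Sga3B.Cell

namespace Groth.Agent.RedSub.H646.ConjInf

open Groth.Agent.RedSub.H646.StabIdeal Groth.Agent.RedSub.H646.DeltaRing Groth.Agent.RedSub.H646.InfPt

variable {R A : Type u} [CommRing R] [CommRing A] [Algebra R A] [PtGrp R A] {R₀ : Type u} [CommRing R₀] [Algebra R R₀]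

theorem Detects.mono {E E' : Cond R A R₀} {m n : ℕ} (h : m ≤ n) (hm : Detects E E' m) : Detects E E' n := by
  intro B _ _ ρ g hg
  refine hm B ρ g fun C _ _ φ c hc hi => hg C φ c hc ?_
  exact hi.mono (Ideal.pow_le_pow_right (by omega))

theorem Detects.conj_le {E₁ E₂ : Cond R A R₀} {n : ℕ} (hn : Detects E₁ E₂ n) {B : Type u} [CommRing B] [Algebra R B]
    (ρ : R₀ →ₐ[R] B) (g₁ g₂ : Pt R A B)
    (h : ∀ (C : Type u) [CommRing C] [Algebra R C] (φ : B →ₐ[R] C) (c : Pt R A C), Inf n c →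
      (conjE E₁ ρ g₁ C φ c → conjE E₂ ρ g₂ C φ c)) :
    ∀ (C : Type u) [CommRing C] [Algebra R C] (φ : B →ₐ[R] C) (c : Pt R A C),
      conjE E₁ ρ g₁ C φ c → conjE E₂ ρ g₂ C φ c := by
  intro C _ _ φ c hc
  have h1 := hn B ρ (g₂⁻¹ * g₁) (fun C _ _ φ c hc hi => by
    have h2 := h C φ (Pt.map φ g₁ * c * (Pt.map φ g₁)⁻¹) (inf_conj _ _ hi) (by
      have e : (Pt.map φ g₁)⁻¹ * (Pt.map φ g₁ * c * (Pt.map φ g₁)⁻¹) * Pt.map φ g₁ = c := by group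
      rw [← e] at hc
      exact hc)
    have e : Pt.map φ (g₂⁻¹ * g₁) * c * (Pt.map φ (g₂⁻¹ * g₁))⁻¹ =
        (Pt.map φ g₂)⁻¹ * (Pt.map φ g₁ * c * (Pt.map φ g₁)⁻¹) * Pt.map φ g₂ := by
      rw [Pt.map_mul, Pt.map_inv]
      group
    rw [e]
    exact h2) C φ ((Pt.map φ g₁)⁻¹ * c * Pt.map φ g₁) hc
  have e : Pt.map φ (g₂⁻¹ * g₁) * ((Pt.map φ g₁)⁻¹ * c * Pt.map φ g₁) * (Pt.map φ (g₂⁻¹ * g₁))⁻¹ =
      (Pt.map φ g₂)⁻¹ * c * Pt.map φ g₂ := by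
    rw [Pt.map_mul, Pt.map_inv]
    group
  rw [e] at h1
  exact h1

/-- Conjugates of `Q₁` and `Q₂` with the same submodule of `B^ι` are equal. -/
theorem conj_eq_of_Lsub {E₁ E₂ : Cond R A R₀} {I₁ I₂ : Ideal (R₀ ⊗[R] A)} (hE₁ : IsRep E₁ I₁) (hE₂ : IsRep E₂ I₂)
    {n : ℕ} (h12 : Detects E₁ E₂ n) (h21 : Detects E₂ E₁ n) {ι : Type} [Fintype ι]
    (bs : Gen ι R (Wn R A n)) {B : Type u} [CommRing B]
    [Algebra R B] (ρ : R₀ →ₐ[R] B) (g₁ g₂ : Pt R A B)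
    (h : Lsub bs (trunc n (conjE E₁ ρ g₁)) = Lsub bs (trunc n (conjE E₂ ρ g₂))) :
    conjE E₁ ρ g₁ = conjE E₂ ρ g₂ := by
  obtain ⟨J₁, hJ₁⟩ := exists_isRep_conjE hE₁ ρ g₁
  obtain ⟨J₂, hJ₂⟩ := exists_isRep_conjE hE₂ ρ g₂
  have key : ∀ (C : Type u) [CommRing C] [Algebra R C] (φ : B →ₐ[R] C) (c : Pt R A C), Inf n c →
      (conjE E₁ ρ g₁ C φ c ↔ conjE E₂ ρ g₂ C φ c) := fun C _ _ φ c hc =>
    iff_of_Lsub_eq (bs := bs) (IsRep.trunc hJ₁ n) (IsRep.trunc hJ₂ n) h φ (ofPt c hc)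
  funext C _ _ φ c
  exact propext ⟨h12.conj_le ρ g₁ g₂ (fun C _ _ φ c hi => (key C φ c hi).1) C φ c,
    h21.conj_le ρ g₂ g₁ (fun C _ _ φ c hi => (key C φ c hi).2) C φ c⟩

end Groth.Agent.RedSub.H646.ConjInf
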