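import Groth.Agent.RedSub.H646.ProjDesc
import Mathlib.RingTheory.Spectrum.Prime.Chevalley
import Mathlib.RingTheory.Flat.Localization
import Mathlib.RingTheory.Etale.Basic

/-!
# `IsQuotRank` is local for flat finitely presented maps
-/

set_option autoImplicit false

universe u

open TensorProduct
open Groth.Agent.Fga.GrassBasic

namespace Groth.Agent.RedSub.H646.RankLoc

open Groth.Agent.RedSub.H646.ProjDesc

theorem exists_away {B : Type u} [CommRing B] {ι : Type} [Finite ι] {d : ℕ} (L : Submodule B (ι → B))
    (p : PrimeSpectrum B) (C : Type u) [CommRing C] [Algebra B C] [Module.Flat B C]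
    [Algebra.FinitePresentation B C] (hp : p ∈ Set.range (PrimeSpectrum.comap (algebraMap B C)))
    (hC : IsQuotRank d (bc (algebraMap B C) L)) :
    ∃ f : B, f ∉ p.asIdeal ∧ IsQuotRank d (bcAway f L) := by
  have hopen : IsOpenMap (PrimeSpectrum.comap (algebraMap B C)) :=
    PrimeSpectrum.isOpenMap_comap_of_hasGoingDown_of_finitePresentation
  have h1 : IsOpen (Set.range (PrimeSpectrum.comap (algebraMap B C))) := hopen.isOpen_range
  obtain ⟨_, ⟨_, ⟨f, rfl⟩, rfl⟩, hpf, hf⟩ :=
    PrimeSpectrum.isBasis_basic_opens.exists_subset_of_mem_open hp h1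
  refine ⟨f, hpf, ?_⟩
  let fC : C := algebraMap B C f
  let _ : Algebra (Localization.Away f) (Localization.Away fC) :=
    (Localization.awayMap (algebraMap B C) f).toAlgebra
  have hc : (algebraMap (Localization.Away f) (Localization.Away fC)).comp
      (algebraMap B (Localization.Away f)) = (algebraMap C (Localization.Away fC)).comp (algebraMap B C) := by
    exact IsLocalization.map_comp (M := Submonoid.powers f) (T := Submonoid.powers fC) (S := Localization.Away f)
      (Q := Localization.Away fC) (g := algebraMap B C) (by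
        rintro x ⟨n, rfl⟩
        exact ⟨n, (map_pow _ _ _).symm⟩)
  have i1 : IsScalarTower B C (Localization.Away fC) := inferInstance
  have i2 : IsScalarTower B (Localization.Away f) (Localization.Away fC) :=
    IsScalarTower.of_algebraMap_eq' (by rw [hc]; rfl)
  have hflat1 : Module.Flat C (Localization.Away fC) := IsLocalization.flat _ (Submonoid.powers fC)
  have hflat2 : Module.Flat B (Localization.Away fC) := Module.Flat.trans B C _
  have hflat3 : Module.Flat (Localization.Away f) (Localization.Away fC) :=
    (Module.flat_iff_of_isLocalization (Localization.Away f) (Submonoid.powers f) _).2 hflat2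
  have hff : Module.FaithfullyFlat (Localization.Away f) (Localization.Away fC) := by
    apply Module.FaithfullyFlat.of_comap_surjective
    intro q
    have hq : PrimeSpectrum.comap (algebraMap B (Localization.Away f)) q ∈ Set.range
        (PrimeSpectrum.comap (algebraMap B (Localization.Away f))) := ⟨q, rfl⟩
    rw [PrimeSpectrum.localization_away_comap_range (Localization.Away f) f] at hq
    obtain ⟨r, hr⟩ := hf hq
    have hr' : r ∈ Set.range (PrimeSpectrum.comap (algebraMap C (Localization.Away fC))) := by
      rw [PrimeSpectrum.localization_away_comap_range (Localization.Away fC) fC]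
      have h2 : f ∉ (PrimeSpectrum.comap (algebraMap B C) r).asIdeal := by
        rw [hr]
        exact hq
      exact h2
    obtain ⟨s, rfl⟩ := hr'
    refine ⟨s, ?_⟩
    apply PrimeSpectrum.localization_comap_injective (Localization.Away f) (Submonoid.powers f)
    rw [← hr, ← PrimeSpectrum.comap_comp_apply, hc, PrimeSpectrum.comap_comp_apply]
  apply isQuotRank_of_faithfullyFlat' (C := Localization.Away fC)
  rw [← bc_comp, hc, bc_comp]
  exact hC.bc _

/-- **`IsQuotRank` is local** for flat finitely presented maps. -/
theorem isQuotRank_of_local {B : Type u} [CommRing B] {ι : Type} [Finite ι] {d : ℕ} (L : Submodule B (ι → B))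
    (h : ∀ p : PrimeSpectrum B, ∃ (C : Type u) (_ : CommRing C) (_ : Algebra B C), Module.Flat B C ∧
      Algebra.FinitePresentation B C ∧ p ∈ Set.range (PrimeSpectrum.comap (algebraMap B C)) ∧
      IsQuotRank d (bc (algebraMap B C) L)) : IsQuotRank d L := by
  have h1 : ∀ p : PrimeSpectrum B, ∃ f : B, f ∉ p.asIdeal ∧ IsQuotRank d (bcAway f L) := by
    intro p
    obtain ⟨C, _, _, _, _, h2, h3⟩ := h p
    exact exists_away L p C h2 h3
  let s : Set B := {f | IsQuotRank d (bcAway f L)}
  have hs : Ideal.span s = ⊤ := by
    by_contra hne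
    obtain ⟨m, hm, hsm⟩ := Ideal.exists_le_maximal _ hne
    obtain ⟨f, hf, hf'⟩ := h1 ⟨m, hm.isPrime⟩
    exact hf (hsm (Ideal.subset_span hf'))
  obtain ⟨t, hts, ht⟩ := (Ideal.span_eq_top_iff_finite _).1 hs
  let e : Fin t.card ≃ t := t.equivFin.symm
  refine isQuotRank_of_forall_away (fun i => (e i : B)) ?_ L fun i => hts (e i).2
  rw [← ht]
  congr 1
  ext x
  constructor
  · rintro ⟨i, rfl⟩
    exact (e i).2
  · intro hx
    exact ⟨e.symm ⟨x, hx⟩, by simp⟩

end Groth.Agent.RedSub.H646.RankLoc
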