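import Groth.Agent.RedSub.H646.DeltaSch
import Groth.Agent.RedSub.H646.ConjInf2
import Groth.Agent.RedSub.H646.RankLoc
import Groth.Agent.Sga3B.RepDescent5
import Mathlib.AlgebraicGeometry.Morphisms.Etale

/-!
# Rank and injectivity for a class of étale-locally conjugate subgroups
-/

set_option autoImplicit false
universe u

open CategoryTheory CategoryTheory.Limits AlgebraicGeometry Opposite MonoidalCategory CartesianMonoidalCategory
  MonObj GrpObj
open TensorProduct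
open Groth.Agent.Sga3B.Cell

namespace Groth.Agent.RedSub.H646.LocConj

open Groth.Agent.RedSub.H647.SubPt Groth.Agent.RedSub.H647.SubF Groth.Agent.RedSub.H646.DeltaRing
  Groth.Agent.RedSub.H646.InfPt Groth.Agent.RedSub.H646.PtsRep Groth.Agent.RedSub.H646.ClosedDesc
  Groth.Agent.RedSub.H646.DeltaSch Groth.Agent.RedSub.H646.ConjInf
  Groth.Agent.Sga3B Groth.Agent.Sga3B.BcPts Groth.Agent.Sga3B.MT
open Groth.Agent.Books.AffBridge
open Groth.Agent.Fga.GrassBasic

section loc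

variable {S S' : Scheme.{u}} {f : S' ⟶ S} {G : Over S} {H : Over S'}

/-- Membership of points is Zariski local. -/
theorem pt_of_cover (h : H ⟶ Red.bc f G) [Mono h.left] {X : Scheme.{u}} (𝒰 : X.OpenCover) (y : X ⟶ S')
    (γ : X ⟶ G.left) (hp : ∀ i, Pt h (𝒰.f i ≫ y) (𝒰.f i ≫ γ)) : Pt h y γ := by
  choose p hp1 hp2 using hp
  have hc : ∀ i j, pullback.fst (𝒰.f i) (𝒰.f j) ≫ p i = pullback.snd (𝒰.f i) (𝒰.f j) ≫ p j := by
    intro i j
    rw [← cancel_mono h.left]
    apply pullback.hom_ext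
    · simp only [Category.assoc, hp2]
      rw [← Category.assoc, ← Category.assoc, pullback.condition]
    · have e : ∀ k, p k ≫ h.left ≫ pullback.snd G.hom f = 𝒰.f k ≫ y := fun k => by
        rw [left_snd, hp1]
      simp only [Category.assoc, e]
      rw [← Category.assoc, ← Category.assoc, pullback.condition]
  refine ⟨Scheme.Cover.glueMorphisms 𝒰 p hc, ?_, ?_⟩
  · apply Scheme.Cover.hom_ext 𝒰
    intro i
    rw [← Category.assoc, Scheme.Cover.ι_glueMorphisms, hp1]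
  · apply Scheme.Cover.hom_ext 𝒰
    intro i
    rw [← Category.assoc, Scheme.Cover.ι_glueMorphisms, hp2]

end loc

section ext

variable {S : Scheme.{u}} {G : Over S} [GrpObj G] {𝒬 : SubClass G}

theorem ptX_of_cover {T : Over S} (x : 𝒬.subsF.obj (op T)) {X : Scheme.{u}} (𝒰 : X.OpenCover) (y : X ⟶ T.left)
    (γ : X ⟶ G.left) (hp : ∀ i, PtX 𝒬 x (𝒰.f i ≫ y) (𝒰.f i ≫ γ)) : PtX 𝒬 x y γ := by
  obtain ⟨H, _, h, hQ, rfl⟩ := 𝒬.exists_ofSub x
  rw [ptX_ofSub]
  have := 𝒬.isClosedImmersion hQ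
  exact pt_of_cover h 𝒰 y γ fun i => (ptX_ofSub hQ _ _).1 (hp i)

theorem ptX_comp {T : Over S} {x : 𝒬.subsF.obj (op T)} {X X' : Scheme.{u}} {y : X ⟶ T.left}
    {γ : X ⟶ G.left} (hp : PtX 𝒬 x y γ) (z : X' ⟶ X) : PtX 𝒬 x (z ≫ y) (z ≫ γ) := by
  obtain ⟨H, _, h, hQ, rfl⟩ := 𝒬.exists_ofSub x
  rw [ptX_ofSub] at hp ⊢
  exact hp.comp z

theorem ptX_w {T : Over S} {x : 𝒬.subsF.obj (op T)} {X : Scheme.{u}} {y : X ⟶ T.left}
    {γ : X ⟶ G.left} (hp : PtX 𝒬 x y γ) : y ≫ T.hom = γ ≫ G.hom := by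
  obtain ⟨H, _, h, hQ, rfl⟩ := 𝒬.exists_ofSub x
  rw [ptX_ofSub] at hp
  exact hp.w

/-- Sections are equal if they have the same points with values in rings. -/
theorem ext_ptX_affine {T : Over S} {x x' : 𝒬.subsF.obj (op T)}
    (h : ∀ (D : CommRingCat.{u}) (y : Spec D ⟶ T.left) (γ : Spec D ⟶ G.left), PtX 𝒬 x y γ ↔ PtX 𝒬 x' y γ) :
    x = x' := by
  have key : ∀ (x x' : 𝒬.subsF.obj (op T)), (∀ (D : CommRingCat.{u}) (y : Spec D ⟶ T.left) (γ : Spec D ⟶ G.left),
      PtX 𝒬 x y γ → PtX 𝒬 x' y γ) → ∀ (X : Scheme.{u}) (y : X ⟶ T.left) (γ : X ⟶ G.left), PtX 𝒬 x y γ →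
        PtX 𝒬 x' y γ := by
    intro x x' h X y γ hp
    refine ptX_of_cover x' X.affineCover y γ fun i => ?_
    exact h _ _ _ (ptX_comp hp _)
  exact ext_ptX fun X y γ => ⟨key x x' (fun D y γ => (h D y γ).1) X y γ, key x' x (fun D y γ => (h D y γ).2) X y γ⟩

end ext

variable {S : Scheme.{u}} {R : Type u} [CommRing R] {v : Spec (CommRingCat.of R) ⟶ S} {G : Over S} [GrpObj G]
  {A : Type u} [CommRing A] [Algebra R A] [PtGrp R A] (K : AffChart v G A) {𝒬 : SubClass G}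
  {n : ℕ} {J : Type} [Fintype J] (bs : Gen J R (Wn R A n)) {d : ℕ}

/-- Sections over `Spec C` with the same condition are equal. -/
theorem eq_of_condX {C : Type u} [CommRing C] [Algebra R C]
    {x x' : 𝒬.subsF.obj (op ((Over.map v).obj (SpecOver R C)))} (h : condX K x (𝟙 _) = condX K x' (𝟙 _)) :
    x = x' := by
  apply ext_ptX_affine
  intro D y γ
  have key : ∀ {x x' : 𝒬.subsF.obj (op ((Over.map v).obj (SpecOver R C)))},
      condX K x (𝟙 _) = condX K x' (𝟙 _) → PtX 𝒬 x y γ → PtX 𝒬 x' y γ := by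
    intro x x' h hp
    let φ₀ : CommRingCat.of C ⟶ D := Spec.preimage y
    have hφ₀ : Spec.map φ₀ = y := Spec.map_preimage y
    let _ : Algebra R D := (φ₀.hom.comp (algebraMap R C)).toAlgebra
    let φ : C →ₐ[R] D := { φ₀.hom with commutes' := fun _ => rfl }
    have hφ : (specMap R φ).left = y := hφ₀
    have hw : γ ≫ G.hom = ((Over.map v).obj (SpecOver R D)).hom := by
      rw [← ptX_w hp, ← hφ]
      exact (Category.assoc _ _ _).symm.trans (congrArg (· ≫ v) (Over.w (specMap R φ)))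
    obtain ⟨c, hc⟩ := (K.pt D).surjective (Over.homMk γ hw)
    have h1 : condX K x (𝟙 _) D φ c.hom := by
      change PtX 𝒬 x ((specMap R φ).left ≫ 𝟙 _) (K.pt D c).left
      rw [hc, Category.comp_id, hφ]
      exact hp
    rw [h] at h1
    change PtX 𝒬 x' ((specMap R φ).left ≫ 𝟙 _) (K.pt D c).left at h1
    rw [hc, Category.comp_id, hφ] at h1
    exact h1
  exact ⟨key h, key h.symm⟩

theorem conjE_bc {R₀ B C : Type u} [CommRing R₀] [Algebra R R₀] [CommRing B] [Algebra R B] [CommRing C] [Algebra R C]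
    (E : Cond R A R₀) (ρ : R₀ →ₐ[R] B) (g : Pt R A B) (ψ : B →ₐ[R] C) :
    (conjE E ρ g).bc ψ = conjE E (ψ.comp ρ) (Pt.map ψ g) := by
  funext D _ _ φ c
  change E D ((φ.comp ψ).comp ρ) _ = E D (φ.comp (ψ.comp ρ)) _
  rw [AlgHom.comp_assoc, Pt.map_map]

variable {R₀ : Type u} [CommRing R₀] [Algebra R R₀] {κ : Type*}
  (x₀ : κ → 𝒬.subsF.obj (op ((Over.map v).obj (SpecOver R R₀))))

/-- Sections over `Spec R₀`-schemes are étale-locally conjugate to one of the sections `x₀ j`. -/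
def LocConj : Prop := ∀ (T : Over (Spec (CommRingCat.of R))) (t₀ : T ⟶ SpecOver R R₀)
  (x : 𝒬.subsF.obj (op ((Over.map v).obj T))) (τ : T.left),
  ∃ (B : Type u) (_ : CommRing B) (_ : Algebra R B) (t : SpecOver R B ⟶ T), Etale t.left ∧ τ ∈ Set.range t.left ∧
    ∃ ρ : R₀ →ₐ[R] B, specMap R ρ = t ≫ t₀ ∧ ∃ (g : Pt R A B) (j : κ),
      condX K x t = conjE (condX K (x₀ j) (𝟙 _)) ρ g

variable {x₀}

theorem Lsub_congr_alg {T : Over (Spec (CommRingCat.of R))} (x : 𝒬.subsF.obj (op ((Over.map v).obj T)))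
    {B : Type u} [CommRing B] (i1 i2 : Algebra R B) (hi : i1 = i2) (t1 : letI := i1; SpecOver R B ⟶ T)
    (t2 : letI := i2; SpecOver R B ⟶ T) (w : Spec (CommRingCat.of B) ⟶ T.left) (h1 : Over.Hom.left t1 = w)
    (h2 : Over.Hom.left t2 = w) :
    (letI := i1; Lsub bs (trunc n (condX K x t1))) = (letI := i2; Lsub bs (trunc n (condX K x t2))) := by
  subst hi
  have : t1 = t2 := Over.OverMorphism.ext (h1.trans h2.symm)
  rw [this]

theorem algOf_eq {B : Type u} [CommRing B] [inst : Algebra R B]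
    (w : Spec (CommRingCat.of B) ⟶ Spec (CommRingCat.of R))
    (hw : w = Spec.map (CommRingCat.ofHom (algebraMap R B))) : algOf (B := CommRingCat.of B) w = inst := by
  apply Algebra.algebra_ext
  intro r
  have h1 : Spec.preimage w = CommRingCat.ofHom (algebraMap R B) := by
    apply Spec.map_injective
    rw [Spec.map_preimage]
    exact hw
  exact congrArg (fun z => z.hom r) h1

/-- `Lw` for a point with values in an algebra. -/
theorem Lw_eq {T : Over (Spec (CommRingCat.of R))} (x : 𝒬.subsF.obj (op ((Over.map v).obj T)))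
    {B : Type u} [CommRing B] [inst : Algebra R B] (t : SpecOver R B ⟶ T) (t' : Spec (CommRingCat.of B) ⟶ T.left)
    (ht : t.left = t') :
    Lw K bs x (B := CommRingCat.of B) t' (t' ≫ T.hom) rfl = Lsub bs (trunc n (condX K x t)) := by
  have hw : t' ≫ T.hom = Spec.map (CommRingCat.ofHom (algebraMap R B)) := by
    rw [← ht]
    exact Over.w t
  exact Lsub_congr_alg K bs x _ _ (algOf_eq _ hw) _ _ t' rfl ht

/-- Étale-local equality. -/
theorem exists_etale_eq (hL : LocConj K x₀)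
    (hdet : ∀ i j, Detects (condX K (x₀ i) (𝟙 _)) (condX K (x₀ j) (𝟙 _)) n)
    {T : Over (Spec (CommRingCat.of R))} (t₀ : T ⟶ SpecOver R R₀)
    {x x' : 𝒬.subsF.obj (op ((Over.map v).obj T))}
    (h : ∀ (B : CommRingCat.{u}) (t : Spec B ⟶ T.left),
      Lw K bs x t (t ≫ T.hom) rfl = Lw K bs x' t (t ≫ T.hom) rfl) (τ : T.left) :
    ∃ (C : Type u) (_ : CommRing C) (_ : Algebra R C) (t : SpecOver R C ⟶ T), Etale t.left ∧ τ ∈ Set.range t.left ∧
      𝒬.subsF.map ((Over.map v).map t).op x = 𝒬.subsF.map ((Over.map v).map t).op x' := by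
  obtain ⟨B, _, _, t, ht, ⟨b, rfl⟩, ρ, hρ, g, j, hg⟩ := hL T t₀ x τ
  obtain ⟨C, _, _, s, hs, ⟨c, rfl⟩, ρ', hρ', g', j', hg'⟩ := hL (SpecOver R B) (t ≫ t₀)
    (𝒬.subsF.map ((Over.map v).map t).op x') b
  obtain ⟨ψ, rfl⟩ := (specEquiv R).surjective s
  change Etale (specMap R ψ).left at hs
  change specMap R ρ' = specMap R ψ ≫ t ≫ t₀ at hρ'
  rw [condX_map] at hg'
  change condX K x' (specMap R ψ ≫ t) = _ at hg'
  have e1 : ρ' = ψ.comp ρ := by
    apply specMap_injective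
    rw [hρ', specMap_comp, hρ]
  have h1 : condX K x (specMap R ψ ≫ t) = conjE (condX K (x₀ j) (𝟙 _)) ρ' (Pt.map ψ g) := by
    rw [condX_bc, hg, conjE_bc, e1]
  have h2 : Lsub bs (trunc n (condX K x (specMap R ψ ≫ t))) = Lsub bs (trunc n (condX K x' (specMap R ψ ≫ t))) := by
    rw [← Lw_eq K bs x _ _ rfl, ← Lw_eq K bs x' _ _ rfl]
    exact h _ _
  obtain ⟨I₁, hI₁⟩ := exists_isRep_condX K (x₀ j) (𝟙 _)
  obtain ⟨I₂, hI₂⟩ := exists_isRep_condX K (x₀ j') (𝟙 _)
  have h3 : condX K x (specMap R ψ ≫ t) = condX K x' (specMap R ψ ≫ t) := by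
    rw [h1, hg'] at h2 ⊢
    exact conj_eq_of_Lsub hI₁ hI₂ (hdet j j') (hdet j' j) bs ρ' _ _ h2
  refine ⟨C, inferInstance, inferInstance, specMap R ψ ≫ t, ?_, ⟨c, ?_⟩, ?_⟩
  · rw [Over.comp_left]
    infer_instance
  · rw [Over.comp_left, Scheme.Hom.comp_apply]
    rfl
  · apply eq_of_condX K
    rw [condX_map, condX_map, Category.id_comp, h3]

theorem surjective_fst {X Y Z : Scheme.{u}} (f : X ⟶ Z) (g : Y ⟶ Z) (h : ∀ x, f x ∈ Set.range g) :
    Surjective (pullback.fst f g) := by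
  refine ⟨fun x => ?_⟩
  obtain ⟨y, hy⟩ := h x
  obtain ⟨z, hz, -⟩ := Scheme.Pullback.exists_preimage_pullback (f := f) (g := g) x y hy.symm
  exact ⟨z, hz⟩

variable {V : Scheme.{u}} {w : V ⟶ Spec (CommRingCat.of R)}

/-- **Members of the class are determined by their submodules.** -/
theorem isInj [DecidableEq J] (hloc : 𝒬.IsLocal (fun {_ _ _} q => SubClass.EtCov q)) (he : Etale (SpecOver R R₀).hom)
    (hs : ∀ p : V, w p ∈ Set.range (SpecOver R R₀).hom) (hL : LocConj K x₀)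
    (hdet : ∀ i j, Detects (condX K (x₀ i) (𝟙 _)) (condX K (x₀ j) (𝟙 _)) n) : IsInj K 𝒬 bs w := by
  intro T₀ x x' h
  let T : Over (Spec (CommRingCat.of R)) := (Over.map w).obj T₀
  change 𝒬.subsF.obj (op ((Over.map v).obj T)) at x x'
  change ∀ (B : CommRingCat.{u}) (t : Spec B ⟶ T.left), _ at h
  have hF : RepDescent.IsEtSheaf ((Over.map v).op ⋙ 𝒬.subsF) :=
    RepDescent.isEtSheaf_restrict (𝒬.isEtSheaf_subsF hloc) v
  let T' : Over (Spec (CommRingCat.of R)) := Over.mk (pullback.fst T.hom (SpecOver R R₀).hom ≫ T.hom)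
  let f : T' ⟶ T := Over.homMk (pullback.fst T.hom (SpecOver R R₀).hom) rfl
  let t₀ : T' ⟶ SpecOver R R₀ := Over.homMk (pullback.snd T.hom (SpecOver R R₀).hom) pullback.condition.symm
  have hf1 : Etale f.left := inferInstanceAs (Etale (pullback.fst T.hom (SpecOver R R₀).hom))
  have hf2 : Surjective f.left := surjective_fst T.hom (SpecOver R R₀).hom fun t => by
    have e : T.hom t = w (T₀.hom t) := by
      rw [← Scheme.Hom.comp_apply]
      rfl
    rw [e]
    exact hs _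
  apply hF.injective f
  change 𝒬.subsF.map ((Over.map v).map f).op x = 𝒬.subsF.map ((Over.map v).map f).op x'
  have h' : ∀ (B : CommRingCat.{u}) (t : Spec B ⟶ T'.left),
      Lw K bs (𝒬.subsF.map ((Over.map v).map f).op x) t (t ≫ T'.hom) rfl =
        Lw K bs (𝒬.subsF.map ((Over.map v).map f).op x') t (t ≫ T'.hom) rfl := by
    intro B t
    rw [Lw_map, Lw_map]
    have h1 : Lw K bs x (t ≫ f.left) ((t ≫ f.left) ≫ T.hom) rfl =
      Lw K bs x' (t ≫ f.left) ((t ≫ f.left) ≫ T.hom) rfl := h B (t ≫ f.left)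
    rw [Lw_congr K bs x (t ≫ f.left) ((t ≫ f.left) ≫ T.hom) (t ≫ T'.hom) rfl (Category.assoc _ _ _),
      Lw_congr K bs x' (t ≫ f.left) ((t ≫ f.left) ≫ T.hom) (t ≫ T'.hom) rfl (Category.assoc _ _ _)] at h1
    exact h1
  have key := exists_etale_eq K bs hL hdet t₀ h'
  choose C c1 c2 t ht1 ht2 ht3 using key
  refine (hF (T := T') (fun τ : T'.left => @SpecOver R _ (C τ) (c1 τ) (c2 τ)) (fun τ => t τ) ht1
    (fun τ => ⟨τ, ht2 τ⟩) (fun τ => 𝒬.subsF.map ((Over.map v).map (t τ)).op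
      (𝒬.subsF.map ((Over.map v).map f).op x)) ?_).unique (fun τ => rfl) (fun τ => (ht3 τ).symm)
  intro i j W a b hab
  have e : ∀ (k : T'.left) (a : W ⟶ @SpecOver R _ (C k) (c1 k) (c2 k)),
      ((Over.map v).op ⋙ 𝒬.subsF).map a.op (𝒬.subsF.map ((Over.map v).map (t k)).op
      (𝒬.subsF.map ((Over.map v).map f).op x)) =
      ((Over.map v).op ⋙ 𝒬.subsF).map (a ≫ t k).op (𝒬.subsF.map ((Over.map v).map f).op x) := by
    intro k a
    rw [op_comp, Functor.map_comp]
    rfl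
  rw [e, e, hab]

/-- **All members of the class have the same rank.** -/
theorem hasRank [DecidableEq J] (he : Etale (SpecOver R R₀).hom) (hs : ∀ p : V, w p ∈ Set.range (SpecOver R R₀).hom)
    (hL : LocConj K x₀) (hd : ∀ j, IsQuotRank d (Lsub bs (trunc n (condX K (x₀ j) (𝟙 _))))) :
    HasRank K 𝒬 bs w d := by
  intro T₀ x B _ _ t
  let T : Over (Spec (CommRingCat.of R)) := (Over.map w).obj T₀
  change 𝒬.subsF.obj (op ((Over.map v).obj T)) at x
  change SpecOver R B ⟶ T at t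
  apply RankLoc.isQuotRank_of_local
  intro p
  let T' : Over (Spec (CommRingCat.of R)) :=
    Over.mk (pullback.fst (SpecOver R B).hom (SpecOver R R₀).hom ≫ (SpecOver R B).hom)
  let f : T' ⟶ SpecOver R B := Over.homMk (pullback.fst (SpecOver R B).hom (SpecOver R R₀).hom) rfl
  let t₀ : T' ⟶ SpecOver R R₀ :=
    Over.homMk (pullback.snd (SpecOver R B).hom (SpecOver R R₀).hom) pullback.condition.symm
  have hf1 : Etale f.left := inferInstanceAs (Etale (pullback.fst (SpecOver R B).hom (SpecOver R R₀).hom))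
  have hf2 : Surjective f.left := surjective_fst (SpecOver R B).hom (SpecOver R R₀).hom fun b => by
    have e : (SpecOver R B).hom b = w (T₀.hom (t.left b)) := by
      rw [← Over.w t, Scheme.Hom.comp_apply]
      change ((Over.map w).obj T₀).hom _ = _
      rw [← Scheme.Hom.comp_apply]
      rfl
    rw [e]
    exact hs _
  obtain ⟨τ, hτ⟩ := f.left.surjective p
  obtain ⟨C, _, _, s, hs1, ⟨c, hc⟩, ρ, hρ, g, j, hg⟩ := hL T' t₀ (𝒬.subsF.map ((Over.map v).map (f ≫ t)).op x) τ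
  obtain ⟨ψ, hψ⟩ := (specEquiv R).surjective (s ≫ f)
  change specMap R ψ = s ≫ f at hψ
  have hψe : Etale (specMap R ψ).left := by
    rw [hψ, Over.comp_left]
    infer_instance
  let _ : Algebra B C := ψ.toRingHom.toAlgebra
  have het : Algebra.Etale B C := by
    have h1 : Etale (Spec.map (CommRingCat.ofHom ψ.toRingHom)) := hψe
    have h2 := (HasRingHomProperty.Spec_iff (P := @Etale)).1 h1
    exact h2
  have hfl : Module.Flat B C := inferInstance
  refine ⟨C, inferInstance, inferInstance, hfl, inferInstance, ⟨c, ?_⟩, ?_⟩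
  · have h1 : (specMap R ψ).left c = p := by
      rw [hψ, Over.comp_left, Scheme.Hom.comp_apply, hc, hτ]
    exact h1
  · obtain ⟨I, hI⟩ := exists_isRep_condX K x t
    obtain ⟨I₀, hI₀⟩ := exists_isRep_condX K (x₀ j) (𝟙 _)
    have h1 := Lsub_bc (bs := bs) (IsRep.trunc hI n) ψ
    rw [← trunc_bc, ← condX_bc] at h1
    have h2 : bc (algebraMap B C) (Lsub bs (trunc n (condX K x t))) =
        Lsub bs (trunc n (condX K x (specMap R ψ ≫ t))) := h1.symm
    rw [h2]
    rw [condX_map] at hg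
    have h3 : specMap R ψ ≫ t = s ≫ f ≫ t := by rw [hψ, Category.assoc]
    rw [h3, hg]
    exact isQuotRank_conjE hI₀ bs (hd j) ρ g

end Groth.Agent.RedSub.H646.LocConj
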