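import Groth.Agent.RedSub.H646.DeltaSch
import Groth.Agent.Fga.Plucker489
import Groth.Agent.CycB.P1Sep
import Groth.Agent.Sga3B.RepDescent5

/-!
# Local representability of the functor of closed subgroups by a closed subscheme of a projective space
-/

set_option autoImplicit false
universe u

open CategoryTheory CategoryTheory.Limits AlgebraicGeometry Opposite MonoidalCategory CartesianMonoidalCategory
open Groth.Agent.Sga3B.Cell

namespace Groth.Agent.RedSub.H646.LocalRep

open Groth.Agent.RedSub.H647.SubF Groth.Agent.RedSub.H646.DeltaRing Groth.Agent.RedSub.H646.InfPt Groth.Agent.RedSub.H646.PtsRep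
  Groth.Agent.RedSub.H646.ClosedDesc Groth.Agent.RedSub.H646.DeltaSch Groth.Agent.Sga3B
open Groth.Agent.Fga.Grass

variable {S : Scheme.{u}} {R : Type u} [CommRing R] {v : Spec (CommRingCat.of R) ⟶ S} {G : Over S} [GrpObj G]
  {A : Type u} [CommRing A] [Algebra R A] [PtGrp R A] (K : AffChart v G A) (𝒬 : SubClass G)
  {n : ℕ} {J : Type} [Fintype J] (bs : Gen J R (Wn R A n)) {d : ℕ} {V : Scheme.{u}} {w : V ⟶ Spec (CommRingCat.of R)}

/-- **Local representability**: if the functor of subgroups of class `𝒬` is étale-locally on `V` represented by a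
proper scheme, it is represented by a closed subscheme of a projective space over `V`. -/
theorem exists_closed_rep [DecidableEq J] (hloc : 𝒬.IsLocal (fun {_ _ _} q => SubClass.EtCov q))
    (hr : HasRank K 𝒬 bs w d)
    (hi : IsInj K 𝒬 bs w) {V' : Scheme.{u}} (p : V' ⟶ V) [Etale p] [Surjective p] {A' : Over V'}
    (r' : ((Over.map p).op ⋙ (Over.map w).op ⋙ (Over.map v).op ⋙ 𝒬.subsF).RepresentableBy A')
    [IsProper A'.hom] :
    ∃ (N : ℕ) (Z : Over V) (i : Z.left ⟶ CohB1.ProjSpaceOver N V),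
      IsClosedImmersion i ∧ i ≫ CohB1.ProjSpaceOver.toBase N V = Z.hom ∧
      Nonempty (((Over.map w).op ⋙ (Over.map v).op ⋙ 𝒬.subsF).RepresentableBy Z) := by
  obtain ⟨Gr, r, -, -⟩ := exists_grass.{u} J d
  obtain ⟨N, c, hc⟩ := Groth.Agent.Fga.Plucker489.exists_plucker r
  let d₀ := inj K bs r hr c hi
  have hF : RepDescent.IsEtSheaf ((Over.map w).op ⋙ (Over.map v).op ⋙ 𝒬.subsF) :=
    RepDescent.isEtSheaf_restrict (RepDescent.isEtSheaf_restrict (𝒬.isEtSheaf_subsF hloc) v) w
  have hsep : IsSeparated (Over.mk (CohB1.ProjSpaceOver.toBase N V)).hom :=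
    Groth.Agent.CycB.P1Sep.isSeparated_toBase N V
  have hk : IsClosedImmersion (kMap d₀ p r').left := isClosedImmersion_kMap d₀ p r'
  obtain ⟨Z, i, hi', hZ⟩ := ClosedDesc.exists_closed_rep d₀ hF p r'
  exact ⟨N, Z, i.left, hi', Over.w i, hZ⟩

end Groth.Agent.RedSub.H646.LocalRep
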