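import Groth.Agent.RedSub.H646.ConjInf
import Groth.Agent.Sga3A.SmoothSection
import Mathlib.RingTheory.Finiteness.NilpotentKer

/-!
# The rank of the infinitesimal neighbourhoods of the unit in a smooth subgroup is locally constant
-/

set_option autoImplicit false

universe u

open TensorProduct
open Groth.Agent.Sga3B.Cell
open Groth.Agent.Fga.GrassBasic

namespace Groth.Agent.RedSub.H646.RankRing

open Groth.Agent.RedSub.H646.StabIdeal Groth.Agent.RedSub.H646.DeltaRing Groth.Agent.RedSub.H646.InfPt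
  Groth.Agent.RedSub.H646.ConjInf

/-- A projective quotient of `B^ι` has constant rank in a neighbourhood of each point. -/
theorem exists_isQuotRank {B : Type u} [CommRing B] {ι : Type} [Finite ι] (L : Submodule B (ι → B))
    [Module.Projective B ((ι → B) ⧸ L)] (q : PrimeSpectrum B) :
    ∃ g : B, g ∉ q.asIdeal ∧ ∃ d : ℕ, IsQuotRank d (bcAway g L) := by
  have hfp : Module.FinitePresentation B ((ι → B) ⧸ L) := Module.finitePresentation_of_projective _ _
  have h1 := Module.isLocallyConstant_rankAtStalk (R := B) (M := (ι → B) ⧸ L)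
  let d := Module.rankAtStalk ((ι → B) ⧸ L) q
  have h2 : IsOpen {p : PrimeSpectrum B | Module.rankAtStalk ((ι → B) ⧸ L) p = d} := h1.isOpen_fiber d
  obtain ⟨_, ⟨_, ⟨g, rfl⟩, rfl⟩, hqg, hg⟩ :=
    PrimeSpectrum.isBasis_basic_opens.exists_subset_of_mem_open
      (show q ∈ {p : PrimeSpectrum B | Module.rankAtStalk ((ι → B) ⧸ L) p = d} from rfl) h2
  refine ⟨g, hqg, d, ?_⟩
  have h3 := isBaseChange_qmap g L
  refine ⟨Module.Projective.of_equiv h3.equiv, fun p => ?_⟩
  rw [← Module.rankAtStalk_eq_of_equiv h3.equiv, Module.rankAtStalk_baseChange]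
  apply hg
  have h4 : PrimeSpectrum.comap (algebraMap B (Localization.Away g)) p ∈
      Set.range (PrimeSpectrum.comap (algebraMap B (Localization.Away g))) := ⟨p, rfl⟩
  rw [PrimeSpectrum.localization_away_comap_range (Localization.Away g) g] at h4
  exact h4

variable {R A : Type u} [CommRing R] [CommRing A] [Algebra R A] [PtGrp R A] {R₀ : Type u} [CommRing R₀] [Algebra R R₀]

theorem sub_mem {I : Ideal (R₀ ⊗[R] A)} (ε : ((R₀ ⊗[R] A) ⧸ I) →ₐ[R₀] R₀)
    (hε : ∀ a, ε (uR I a) = (1 : Pt R A R₀).hom a) (x : (R₀ ⊗[R] A) ⧸ I) :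
    x - uL I (ε x) ∈ (aug R A).map (uR I) := by
  obtain ⟨y, rfl⟩ := Ideal.Quotient.mk_surjective x
  induction y using TensorProduct.induction_on with
  | zero =>
    rw [map_zero, map_zero, map_zero, sub_zero]
    exact Ideal.zero_mem _
  | add a b ha hb =>
    rw [map_add, map_add, map_add, add_sub_add_comm]
    exact Ideal.add_mem _ ha hb
  | tmul b a =>
    have e1 : Ideal.Quotient.mk I (b ⊗ₜ[R] a) = uL I b * uR I a := by
      change _ = Ideal.Quotient.mk I (b ⊗ₜ[R] 1) * Ideal.Quotient.mk I (1 ⊗ₜ[R] a)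
      rw [← map_mul, Algebra.TensorProduct.tmul_mul_tmul, mul_one, one_mul]
    have e2 : ε (uL I b) = b := by
      have h1 : uL I b = algebraMap R₀ _ b := rfl
      rw [h1, AlgHom.commutes]
      rfl
    have e3 : uL I (ε (uL I b * uR I a)) = uL I b * uR I (algebraMap R A ((1 : Pt R A R).hom a)) := by
      rw [map_mul ε, e2, hε, one_hom_apply, map_mul, AlgHom.commutes, AlgHom.commutes]
    rw [e1, e3, ← mul_sub, ← map_sub]
    refine Ideal.mul_mem_left _ _ (Ideal.mem_map_of_mem _ ?_)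
    rw [aug, RingHom.mem_ker, map_sub]
    change (1 : Pt R A R).hom a - (1 : Pt R A R).hom (algebraMap R A ((1 : Pt R A R).hom a)) = 0
    rw [AlgHom.commutes]
    exact sub_self _

theorem exists_equiv_inf {E : Cond R A R₀} {I : Ideal (R₀ ⊗[R] A)} (hE : IsRep E I)
    (ε : ((R₀ ⊗[R] A) ⧸ I) →ₐ[R₀] R₀) (hε : ∀ a, ε (uR I a) = (1 : Pt R A R₀).hom a) {n : ℕ}
    {I' : Ideal (R₀ ⊗[R] Wn R A n)} (hT : IsRep (trunc n E) I') :
    Nonempty (((R₀ ⊗[R] Wn R A n) ⧸ I') ≃ₗ[R₀] (((R₀ ⊗[R] A) ⧸ I) ⧸ RingHom.ker ε ^ (n + 1))) := by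
  let O := (R₀ ⊗[R] A) ⧸ I
  let P := O ⧸ RingHom.ker ε ^ (n + 1)
  let mkP : O →ₐ[R] P := Ideal.Quotient.mkₐ R _
  have hker : (aug R A).map (uR I) ≤ RingHom.ker ε := by
    rw [Ideal.map_le_iff_le_comap]
    intro a ha
    rw [Ideal.mem_comap, RingHom.mem_ker]
    change ε (uR I a) = 0
    rw [hε, one_hom_apply]
    have h5 : (1 : Pt R A R).hom a = 0 := ha
    rw [h5, map_zero]
  have hinf : Inf n (Pt.mk (mkP.comp (uR I)) : Pt R A P) := by
    intro a ha
    change Ideal.Quotient.mk _ (uR I a) = 0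
    rw [Ideal.Quotient.eq_zero_iff_mem]
    have h1 : (aug R A ^ (n + 1)).map (uR I) ≤ RingHom.ker ε ^ (n + 1) := by
      rw [Ideal.map_pow]
      exact Ideal.pow_right_mono hker _
    exact h1 (Ideal.mem_map_of_mem _ ha)
  let γ : Wn R A n →ₐ[R] P := ofPt _ hinf
  have hEP : trunc n E P (mkP.comp (uL I)) γ := by
    have h0 : E P (mkP.comp (uL I)) (mkP.comp (uR I)) := hE.comp (C := O) (D := P) mkP (univ_rep hE)
    exact h0
  obtain ⟨f, hf1, hf2⟩ := exists_lift_of_rep hT hEP
  have hEQ : E ((R₀ ⊗[R] Wn R A n) ⧸ I') (uL I') (toPt (uR I')).hom := univ_rep hT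
  obtain ⟨g, hg1, hg2⟩ := exists_lift_of_rep hE hEQ
  have hgk : ∀ x ∈ RingHom.ker ε, g x ∈ (aug R A).map (toPt (uR I')).hom := by
    intro x hx
    have h1 := sub_mem ε hε x
    have h2 : ε x = 0 := hx
    rw [h2, map_zero, sub_zero] at h1
    have h3 : (aug R A).map (uR I) ≤ ((aug R A).map (toPt (uR I')).hom).comap g := by
      rw [Ideal.map_le_iff_le_comap]
      intro a ha
      have h4 : g (uR I a) = (toPt (uR I')).hom a := DFunLike.congr_fun hg2 a
      rw [Ideal.mem_comap, Ideal.mem_comap, h4]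
      exact Ideal.mem_map_of_mem _ ha
    exact h3 h1
  have hgz : ∀ x ∈ RingHom.ker ε ^ (n + 1), g x = 0 := by
    intro x hx
    have h2 : RingHom.ker ε ≤ ((aug R A).map (toPt (uR I')).hom).comap g.toRingHom := hgk
    have h3 : ((aug R A).map (toPt (uR I')).hom) ^ (n + 1) = ⊥ := by
      rw [← Ideal.map_pow, eq_bot_iff, Ideal.map_le_iff_le_comap]
      intro a ha
      exact inf_toPt (uR I') a ha
    have h4 := (Ideal.pow_right_mono h2 (n + 1)).trans (Ideal.le_comap_pow g.toRingHom (n + 1)) hx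
    rw [h3] at h4
    exact h4
  let g' : P →ₐ[R] ((R₀ ⊗[R] Wn R A n) ⧸ I') := Ideal.Quotient.liftₐ _ g hgz
  have hg' : g'.comp mkP = g := by
    apply AlgHom.ext
    intro x
    rfl
  have h1 : g'.comp f = AlgHom.id R _ := by
    apply quot_hom_ext (C := (R₀ ⊗[R] Wn R A n) ⧸ I')
    · rw [AlgHom.comp_assoc, hf1, ← AlgHom.comp_assoc, hg', hg1, AlgHom.id_comp]
    · rw [AlgHom.comp_assoc, hf2, AlgHom.id_comp]
      apply toPt_injective (C := (R₀ ⊗[R] Wn R A n) ⧸ I')
      apply Pt.ext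
      intro a
      change g (uR I a) = _
      exact DFunLike.congr_fun hg2 a
  have h2 : f.comp g = mkP := by
    apply quot_hom_ext (C := P)
    · rw [AlgHom.comp_assoc, hg1, hf1]
    · rw [AlgHom.comp_assoc, hg2]
      apply AlgHom.ext
      intro a
      have h3 : f ((toPt (uR I')).hom a) = γ (Ideal.Quotient.mk _ a) :=
        DFunLike.congr_fun hf2 (Ideal.Quotient.mk _ a)
      exact h3
  have hlin : ∀ (b : R₀) (x : (R₀ ⊗[R] Wn R A n) ⧸ I'), f (b • x) = b • f x := by
    intro b x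
    rw [smul_eq_uL, map_mul]
    have h3 : f (uL I' b) = algebraMap R₀ P b := DFunLike.congr_fun hf1 b
    rw [h3, ← Algebra.smul_def]
  exact ⟨{ toFun := f
           map_add' := map_add f
           map_smul' := hlin
           invFun := g'
           left_inv := fun x => DFunLike.congr_fun h1 x
           right_inv := fun x => by
            obtain ⟨y, rfl⟩ := Ideal.Quotient.mk_surjective x
            exact DFunLike.congr_fun h2 y }⟩

/-- **Local constancy of the rank.** -/
theorem exists_rank {E : Cond R A R₀} {I : Ideal (R₀ ⊗[R] A)} (hE : IsRep E I)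
    (h1 : E R₀ (AlgHom.id R R₀) (1 : Pt R A R₀).hom) [Algebra.Smooth R₀ ((R₀ ⊗[R] A) ⧸ I)] {n : ℕ} {J : Type}
    [Fintype J] (bs : Gen J R (Wn R A n)) (q : PrimeSpectrum R₀) :
    ∃ g : R₀, g ∉ q.asIdeal ∧ ∃ d : ℕ, IsQuotRank d (bcAway g (Lsub bs (trunc n E))) := by
  obtain ⟨ε, hε⟩ := exists_algHom hE R₀ (1 : Pt R A R₀) h1
  have hT := IsRep.trunc hE n
  obtain ⟨e⟩ := exists_equiv_inf hE ε hε hT
  have h2 : Module.Projective R₀ (((R₀ ⊗[R] A) ⧸ I) ⧸ RingHom.ker ε ^ (n + 1)) :=
    Groth.Agent.Sga3A.SmoothSection.projective_quotient_pow ε n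
  have h3 : Module.Projective R₀ ((J → R₀) ⧸ Lsub bs (trunc n E)) :=
    Module.Projective.of_equiv ((quotEquiv hT).trans e).symm
  exact exists_isQuotRank _ q

/-- The infinitesimal neighbourhoods of the unit are finite. -/
theorem finite_Wn [Algebra.FinitePresentation R A] (n : ℕ) : Module.Finite R (Wn R A n) := by
  have hle : aug R A ^ (n + 1) ≤ aug R A := Ideal.pow_le_self (Nat.succ_ne_zero n)
  let e : A →ₐ[R] R := (1 : Pt R A R).hom
  have he : RingHom.ker e = aug R A := rfl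
  have hs : Function.Surjective e := fun r => ⟨algebraMap R A r, by rw [AlgHom.commutes]; rfl⟩
  have hfg : (aug R A).FG := by
    have h1 := Algebra.FinitePresentation.ker_fG_of_surjective e hs
    rwa [← he]
  let f : Wn R A n →ₐ[R] R := Ideal.Quotient.liftₐ _ e fun a ha => hle ha
  have hk : RingHom.ker f = (aug R A).map (Ideal.Quotient.mk (aug R A ^ (n + 1))) := by
    ext x
    obtain ⟨a, rfl⟩ := Ideal.Quotient.mk_surjective x
    rw [Ideal.mem_map_iff_of_surjective _ Ideal.Quotient.mk_surjective]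
    constructor
    · intro h
      exact ⟨a, h, rfl⟩
    · rintro ⟨b, hb, h⟩
      rw [← h]
      exact hb
  refine Module.finite_of_surjective_of_ker_le_nilradical f (fun r => ⟨Ideal.Quotient.mk _ (algebraMap R A r), ?_⟩) ?_ ?_
  · exact e.commutes r
  · rw [hk]
    have h1 : ((aug R A).map (Ideal.Quotient.mk (aug R A ^ (n + 1)))) ^ (n + 1) = ⊥ := by
      rw [← Ideal.map_pow, Ideal.map_quotient_self]
    intro x hx
    rw [mem_nilradical]
    refine ⟨n + 1, ?_⟩
    have h2 := Ideal.pow_mem_pow hx (n + 1)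
    rwa [h1] at h2
  · rw [hk]
    exact hfg.map _

end Groth.Agent.RedSub.H646.RankRing
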