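import Groth.Agent.RedSub.H646.Perp
import Groth.Agent.RedSub.H646.LocConj
import Groth.Agent.RedSub.H646.RankRing
import Groth.Agent.RedSub.H646.LocalRep

/-!
# The functor of closed subgroups of class `𝒬` in a Grassmannian, without constancy of the rank

The submodule `L ⊆ B^J` attached to a member is replaced by `L ⊞ L^⊥ ⊆ B^(J ⊕ J)`.
-/

set_option autoImplicit false
universe u

open CategoryTheory CategoryTheory.Limits AlgebraicGeometry Opposite MonoidalCategory CartesianMonoidalCategory
  MonObj GrpObj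
open TensorProduct
open Groth.Agent.Sga3B.Cell

namespace Groth.Agent.RedSub.H646.DeltaAll

open Groth.Agent.RedSub.H647.SubPt Groth.Agent.RedSub.H647.SubF Groth.Agent.RedSub.H646.DeltaRing
  Groth.Agent.RedSub.H646.InfPt Groth.Agent.RedSub.H646.PtsRep Groth.Agent.RedSub.H646.ClosedDesc
  Groth.Agent.RedSub.H646.DeltaSch Groth.Agent.RedSub.H646.LocConj Groth.Agent.RedSub.H646.Perp
  Groth.Agent.RedSub.H646.ConjInf
  Groth.Agent.Sga3B Groth.Agent.Sga3B.BcPts Groth.Agent.Sga3B.MT
open Groth.Agent.Books.AffBridge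
open Groth.Agent.Fga.GrassBasic Groth.Agent.Fga.Grass Groth.Agent.Fga.RingFunBasic Groth.Agent.Fga.RingFunRep

section proj

theorem projective_bc {B C : Type u} [CommRing B] [CommRing C] {J : Type} [Finite J] (φ : B →+* C)
    (L : Submodule B (J → B)) (hL : Module.Projective B ((J → B) ⧸ L)) :
    Module.Projective C ((J → C) ⧸ bc φ L) := by
  let _ := φ.toAlgebra
  have h := isBaseChange_quotMap (C := C) (piMap B C J) (isBaseChange_piMap B C J) L
  exact Module.Projective.of_equiv h.equiv

theorem projective_of_away {B : Type u} [CommRing B] {J : Type} [Finite J] (L : Submodule B (J → B)) (s : Set B)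
    (hs : Ideal.span s = ⊤)
    (h : ∀ g ∈ s, Module.Projective (Localization.Away g) ((J → Localization.Away g) ⧸ bcAway g L)) :
    Module.Projective B ((J → B) ⧸ L) := by
  have hflat : Module.Flat B ((J → B) ⧸ L) := by
    apply Module.flat_of_isLocalized_span (S := B) (M := (J → B) ⧸ L) s hs
      (Mₛ := fun g => (J → Localization.Away g.1) ⧸ bcAway g.1 L) (fun g => qmap g.1 L)
    intro g
    have := h g.1 g.2
    have : Module.Flat (Localization.Away g.1) ((J → Localization.Away g.1) ⧸ bcAway g.1 L) := inferInstance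
    exact Module.Flat.trans B (Localization.Away g.1) _
  have hfp : Module.FinitePresentation B ((J → B) ⧸ L) := by
    apply Module.FinitePresentation.of_localizationSpan' s hs
      (Rₚ := fun g => Localization.Away g.1)
      (Mₚ := fun g => (J → Localization.Away g.1) ⧸ bcAway g.1 L) (fun g => qmap g.1 L)
    intro g
    have := h g.1 g.2
    exact Module.finitePresentation_of_projective _ _
  exact Module.Flat.projective_of_finitePresentation

/-- **Projectivity is local** for flat finitely presented maps. -/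
theorem projective_of_local {B : Type u} [CommRing B] {J : Type} [Finite J] (L : Submodule B (J → B))
    (h : ∀ p : PrimeSpectrum B, ∃ (C : Type u) (_ : CommRing C) (_ : Algebra B C), Module.Flat B C ∧
      Algebra.FinitePresentation B C ∧ p ∈ Set.range (PrimeSpectrum.comap (algebraMap B C)) ∧
      Module.Projective C ((J → C) ⧸ bc (algebraMap B C) L)) : Module.Projective B ((J → B) ⧸ L) := by
  have h1 : ∀ p : PrimeSpectrum B, ∃ f : B, f ∉ p.asIdeal ∧
      Module.Projective (Localization.Away f) ((J → Localization.Away f) ⧸ bcAway f L) := by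
    intro p
    obtain ⟨C, _, _, hfl, hfp, ⟨q, rfl⟩, h3⟩ := h p
    obtain ⟨g, hg, d, hd⟩ := RankRing.exists_isQuotRank (bc (algebraMap B C) L) q
    let D := Localization.Away g
    have i1 : IsScalarTower B C D := inferInstance
    have i2 : algebraMap B D = (algebraMap C D).comp (algebraMap B C) := IsScalarTower.algebraMap_eq B C D
    have hfl' : Module.Flat C D := IsLocalization.flat _ (Submonoid.powers g)
    have hfl'' : Module.Flat B D := Module.Flat.trans B C _
    have hfp' : Algebra.FinitePresentation C D := IsLocalization.Away.finitePresentation g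
    have hfp'' : Algebra.FinitePresentation B D := Algebra.FinitePresentation.trans B C D
    have hq : q ∈ Set.range (PrimeSpectrum.comap (algebraMap C D)) := by
      rw [PrimeSpectrum.localization_away_comap_range D g]
      exact hg
    obtain ⟨r, rfl⟩ := hq
    obtain ⟨f, hf, hf'⟩ := RankLoc.exists_away (d := d) L
      (PrimeSpectrum.comap (algebraMap B C) (PrimeSpectrum.comap (algebraMap C D) r)) D
      ⟨r, by rw [← PrimeSpectrum.comap_comp_apply, i2]⟩ (by
        have e : bc (algebraMap B D) L = bcAway g (bc (algebraMap B C) L) := by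
          rw [bcAway, ← bc_comp, i2]
        rw [e]
        exact hd)
    exact ⟨f, hf, hf'.proj⟩
  refine projective_of_away L
    {f | Module.Projective (Localization.Away f) ((J → Localization.Away f) ⧸ bcAway f L)} ?_ fun g hg => hg
  by_contra hne
  obtain ⟨m, hm, hsm⟩ := Ideal.exists_le_maximal _ hne
  obtain ⟨f, hf, hf'⟩ := h1 ⟨m, hm.isPrime⟩
  exact hf (hsm (Ideal.subset_span hf'))

/-- Conjugation does not change the coordinate rings. -/
theorem projective_conjE {R A : Type u} [CommRing R] [CommRing A] [Algebra R A] [PtGrp R A] {R₀ : Type u}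
    [CommRing R₀] [Algebra R R₀] {B : Type u} [CommRing B] [Algebra R B] {E : Cond R A R₀} {I : Ideal (R₀ ⊗[R] A)}
    (h : IsRep E I) {n : ℕ} {J : Type} [Fintype J] (bs : Gen J R (Wn R A n))
    (hd : Module.Projective R₀ ((J → R₀) ⧸ Lsub bs (trunc n E))) (ρ : R₀ →ₐ[R] B) (g : Pt R A B) :
    Module.Projective B ((J → B) ⧸ Lsub bs (trunc n (conjE E ρ g))) := by
  obtain ⟨I', hI'⟩ := exists_isRep_conjE h ρ g
  have h1 : Module.Projective B ((J → B) ⧸ Lsub bs (trunc n (E.bc ρ))) := by
    rw [trunc_bc, Lsub_bc (IsRep.trunc h n)]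
    exact projective_bc _ _ hd
  obtain ⟨e⟩ := exists_equiv (IsRep.trunc (h.bc ρ) n) (IsRep.trunc hI' n)
    (fun C _ _ φ γ => ofPt (Pt.map φ g * toPt γ * (Pt.map φ g)⁻¹) (inf_conj _ _ (inf_toPt γ)))
    (fun C _ _ φ γ => ofPt ((Pt.map φ g)⁻¹ * toPt γ * Pt.map φ g) (inf_conj' _ _ (inf_toPt γ)))
    (by
      intro C D _ _ _ _ χ φ γ
      apply toPt_injective
      change Pt.map (χ.comp φ) g * toPt (χ.comp γ) * (Pt.map (χ.comp φ) g)⁻¹ =
        Pt.map χ (Pt.map φ g * toPt γ * (Pt.map φ g)⁻¹)
      rw [toPt_comp, ← Pt.map_map, Pt.map_mul, Pt.map_mul, Pt.map_inv])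
    (by
      intro C D _ _ _ _ χ φ γ
      apply toPt_injective
      change (Pt.map (χ.comp φ) g)⁻¹ * toPt (χ.comp γ) * Pt.map (χ.comp φ) g =
        Pt.map χ ((Pt.map φ g)⁻¹ * toPt γ * Pt.map φ g)
      rw [toPt_comp, ← Pt.map_map, Pt.map_mul, Pt.map_mul, Pt.map_inv])
    (by
      intro C _ _ φ γ
      apply toPt_injective
      rw [toPt_ofPt, toPt_ofPt]
      group)
    (by
      intro C _ _ φ γ
      apply toPt_injective
      rw [toPt_ofPt, toPt_ofPt]
      group)
    (by
      intro C _ _ φ γ hE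
      have e : (Pt.map φ g)⁻¹ * (Pt.map φ g * toPt γ * (Pt.map φ g)⁻¹) * Pt.map φ g = toPt γ := by group
      have hE' : E C (φ.comp ρ) (toPt γ) := hE
      rw [← e] at hE'
      exact hE')
    (by
      intro C _ _ φ γ hE
      exact hE)
  exact Module.Projective.of_equiv ((quotEquiv (bs := bs) (IsRep.trunc (h.bc ρ) n)).trans
    (e.trans (quotEquiv (bs := bs) (IsRep.trunc hI' n)).symm))

end proj

variable {S : Scheme.{u}} {R : Type u} [CommRing R] {v : Spec (CommRingCat.of R) ⟶ S} {G : Over S} [GrpObj G]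
  {A : Type u} [CommRing A] [Algebra R A] [PtGrp R A] (K : AffChart v G A) (𝒬 : SubClass G)
  {n : ℕ} {J : Type} [Fintype J] [DecidableEq J] (bs : Gen J R (Wn R A n))

/-- The coordinate rings of the infinitesimal neighbourhoods are projective. -/
def ProjOf {𝒬 : SubClass G} {T : Over (Spec (CommRingCat.of R))} (x : 𝒬.subsF.obj (op ((Over.map v).obj T))) :
    Prop := ∀ (B : Type u) [CommRing B] [Algebra R B] (t : SpecOver R B ⟶ T),
  Module.Projective B ((J → B) ⧸ Lsub bs (trunc n (condX K x t)))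

/-- All members of the class over `w : V ⟶ Spec R` have projective infinitesimal neighbourhoods. -/
def HasProj {V : Scheme.{u}} (w : V ⟶ Spec (CommRingCat.of R)) : Prop :=
  ∀ (T : Over V) (x : 𝒬.subsF.obj (op ((Over.map v).obj ((Over.map w).obj T)))), ProjOf K bs x

variable {𝒬}

set_option linter.unusedSectionVars false

/-- The family of points of the Grassmannian. -/
noncomputable def gfam {T : Over (Spec (CommRingCat.of R))}
    (x : 𝒬.subsF.obj (op ((Over.map v).obj T))) (hr : ProjOf K bs x) :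
    Fam (grFun.{u} (J ⊕ J) (Fintype.card J)) T.left where
  q {B} t := ⟨dbl (Lw K bs x t (t ≫ T.hom) rfl), by
    let _ : Algebra R B := algOf (t ≫ T.hom)
    have := hr B (tOver t _ rfl)
    exact isQuotRank_dbl (Lsub bs (trunc n (condX K x (tOver t _ rfl))))⟩
  nat {B C} φ t := by
    apply Subtype.ext
    rw [grFun_map_val]
    have hp : Module.Projective B ((J → B) ⧸ Lw K bs x t (t ≫ T.hom) rfl) := by
      let _ : Algebra R B := algOf (t ≫ T.hom)
      exact hr B (tOver t _ rfl)
    refine Eq.trans ?_ (bc_dbl φ.hom (Lw K bs x t (t ≫ T.hom) rfl)).symm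
    refine congrArg dbl ?_
    refine Eq.trans ?_ (Lw_comp K bs x φ t (t ≫ T.hom) rfl)
    exact Lw_congr K bs x _ _ _ _ _

theorem gfam_map {T T' : Over (Spec (CommRingCat.of R))} (g : T' ⟶ T)
    (x : 𝒬.subsF.obj (op ((Over.map v).obj T))) (hr : ProjOf K bs x)
    (hr' : ProjOf K bs (𝒬.subsF.map ((Over.map v).map g).op x)) :
    gfam K bs (𝒬.subsF.map ((Over.map v).map g).op x) hr' = (gfam K bs x hr).pull g.left := by
  apply Fam.ext
  funext B t
  apply Subtype.ext
  refine congrArg dbl ?_
  refine (Lw_map K bs x g t (t ≫ T'.hom) rfl).trans ?_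
  exact Lw_congr K bs x _ _ _ _ _

section toGr

variable {Gr : Scheme.{u}} (r : Rep (grFun.{u} (J ⊕ J) (Fintype.card J)) Gr)

/-- the point of the Grassmannian given by a section -/
noncomputable def toGr {T : Over (Spec (CommRingCat.of R))} (x : 𝒬.subsF.obj (op ((Over.map v).obj T)))
    (hr : ProjOf K bs x) : T.left ⟶ Gr := (r.homEquiv T.left).symm (gfam K bs x hr)

theorem fam_toGr {T : Over (Spec (CommRingCat.of R))} (x : 𝒬.subsF.obj (op ((Over.map v).obj T)))
    (hr : ProjOf K bs x) : r.fam (toGr K bs r x hr) = gfam K bs x hr := (r.homEquiv T.left).apply_symm_apply _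

theorem toGr_map {T T' : Over (Spec (CommRingCat.of R))} (g : T' ⟶ T)
    (x : 𝒬.subsF.obj (op ((Over.map v).obj T))) (hr : ProjOf K bs x)
    (hr' : ProjOf K bs (𝒬.subsF.map ((Over.map v).map g).op x)) :
    toGr K bs r (𝒬.subsF.map ((Over.map v).map g).op x) hr' = g.left ≫ toGr K bs r x hr := by
  apply r.fam_injective
  rw [fam_toGr, r.fam_comp, fam_toGr, gfam_map K bs g x hr hr']

variable {V : Scheme.{u}} {w : V ⟶ Spec (CommRingCat.of R)} (hr : HasProj K 𝒬 bs w)

theorem toGr_injective (hi : IsInj K 𝒬 bs w) {T : Over V} :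
    Function.Injective (fun x : 𝒬.subsF.obj (op ((Over.map v).obj ((Over.map w).obj T))) =>
      toGr K bs r x (hr T x)) := by
  intro x x' h
  have h : toGr K bs r x (hr T x) = toGr K bs r x' (hr T x') := h
  have h1 : gfam K bs x (hr T x) = gfam K bs x' (hr T x') := by
    rw [← fam_toGr K bs r, h, fam_toGr]
  refine hi T x x' fun B t => ?_
  have h2 : (gfam K bs x (hr T x)).q t = (gfam K bs x' (hr T x')).q t := by rw [h1]
  exact dbl_injective (congrArg Subtype.val h2)

variable {N : ℕ} (c : Gr ⟶ CohB1.ProjSpace N (ULift.{u} ℤ)) [Mono c]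

/-- The injection into the points of projective space. -/
noncomputable def inj (hi : IsInj K 𝒬 bs w) : Inj ((Over.map w).op ⋙ (Over.map v).op ⋙ 𝒬.subsF)
    (Over.mk (CohB1.ProjSpaceOver.toBase N V)) where
  δ {T} x := Over.homMk (Groth.Agent.Fga.QT6a.toPS (toGr K bs r x (hr T x) ≫ c) T.hom)
    (Groth.Agent.Fga.QT6a.toPS_toBase _ _)
  nat {T T'} g x := by
    apply Over.OverMorphism.ext
    apply Groth.Agent.Fga.QT6a.PS_hom_ext
    · refine (Groth.Agent.Fga.QT6a.toPS_prZ _ _).trans ?_
      refine Eq.trans ?_ (Category.assoc _ _ _).symm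
      refine Eq.trans ?_ (congrArg (g.left ≫ ·) (Groth.Agent.Fga.QT6a.toPS_prZ _ _)).symm
      rw [← Category.assoc]
      congr 1
      exact toGr_map K bs r ((Over.map w).map g) x _ _
    · refine (Groth.Agent.Fga.QT6a.toPS_toBase _ _).trans ?_
      refine Eq.trans ?_ (Category.assoc _ _ _).symm
      refine Eq.trans ?_ (congrArg (g.left ≫ ·) (Groth.Agent.Fga.QT6a.toPS_toBase _ _)).symm
      exact (Over.w g).symm
  inj {T} x x' h := by
    apply toGr_injective K bs r hr hi
    change toGr K bs r x _ = toGr K bs r x' _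
    rw [← cancel_mono c]
    have h1 := congrArg (fun z => z.left ≫ Groth.Agent.Fga.QT6a.prZ N V) h
    exact (Groth.Agent.Fga.QT6a.toPS_prZ _ _).symm.trans (h1.trans (Groth.Agent.Fga.QT6a.toPS_prZ _ _))

end toGr

/-- **Local representability**: if the functor of subgroups of class `𝒬` is étale-locally on `V` represented by a
proper scheme, it is represented by a closed subscheme of a projective space over `V`. -/
theorem exists_closed_rep (𝒬 : SubClass G) {V : Scheme.{u}} {w : V ⟶ Spec (CommRingCat.of R)}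
    (hloc : 𝒬.IsLocal (fun {_ _ _} q => SubClass.EtCov q))
    (hr : HasProj K 𝒬 bs w)
    (hi : IsInj K 𝒬 bs w) {V' : Scheme.{u}} (p : V' ⟶ V) [Etale p] [Surjective p] {A' : Over V'}
    (r' : ((Over.map p).op ⋙ (Over.map w).op ⋙ (Over.map v).op ⋙ 𝒬.subsF).RepresentableBy A')
    [IsProper A'.hom] :
    ∃ (N : ℕ) (Z : Over V) (i : Z.left ⟶ CohB1.ProjSpaceOver N V),
      IsClosedImmersion i ∧ i ≫ CohB1.ProjSpaceOver.toBase N V = Z.hom ∧
      Nonempty (((Over.map w).op ⋙ (Over.map v).op ⋙ 𝒬.subsF).RepresentableBy Z) := by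
  obtain ⟨Gr, r, -, -⟩ := exists_grass.{u} (J ⊕ J) (Fintype.card J)
  obtain ⟨N, c, hc⟩ := Groth.Agent.Fga.Plucker489.exists_plucker r
  let d₀ := inj K bs r hr c hi
  have hF : RepDescent.IsEtSheaf ((Over.map w).op ⋙ (Over.map v).op ⋙ 𝒬.subsF) :=
    RepDescent.isEtSheaf_restrict (RepDescent.isEtSheaf_restrict (𝒬.isEtSheaf_subsF hloc) v) w
  have hsep : IsSeparated (Over.mk (CohB1.ProjSpaceOver.toBase N V)).hom :=
    Groth.Agent.CycB.P1Sep.isSeparated_toBase N V
  have hk : IsClosedImmersion (kMap d₀ p r').left := isClosedImmersion_kMap d₀ p r'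
  obtain ⟨Z, i, hi', hZ⟩ := ClosedDesc.exists_closed_rep d₀ hF p r'
  exact ⟨N, Z, i.left, hi', Over.w i, hZ⟩

/-- **All members of the class have projective infinitesimal neighbourhoods.** -/
theorem hasProj {V : Scheme.{u}} {w : V ⟶ Spec (CommRingCat.of R)} {R₀ : Type u} [CommRing R₀] [Algebra R R₀]
    {κ : Type*} {x₀ : κ → 𝒬.subsF.obj (op ((Over.map v).obj (SpecOver R R₀)))}
    (he : Etale (SpecOver R R₀).hom) (hs : ∀ p : V, w p ∈ Set.range (SpecOver R R₀).hom)
    (hL : LocConj K x₀)
    (hd : ∀ j, Module.Projective R₀ ((J → R₀) ⧸ Lsub bs (trunc n (condX K (x₀ j) (𝟙 _))))) :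
    HasProj K 𝒬 bs w := by
  intro T₀ x B _ _ t
  let T : Over (Spec (CommRingCat.of R)) := (Over.map w).obj T₀
  change 𝒬.subsF.obj (op ((Over.map v).obj T)) at x
  change SpecOver R B ⟶ T at t
  apply projective_of_local
  intro p
  let T' : Over (Spec (CommRingCat.of R)) :=
    Over.mk (pullback.fst (SpecOver R B).hom (SpecOver R R₀).hom ≫ (SpecOver R B).hom)
  let f : T' ⟶ SpecOver R B := Over.homMk (pullback.fst (SpecOver R B).hom (SpecOver R R₀).hom) rfl
  let t₀ : T' ⟶ SpecOver R R₀ :=
    Over.homMk (pullback.snd (SpecOver R B).hom (SpecOver R R₀).hom) pullback.condition.symm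
  have hf1 : Etale f.left := inferInstanceAs (Etale (pullback.fst (SpecOver R B).hom (SpecOver R R₀).hom))
  have hf2 : Surjective f.left := surjective_fst (SpecOver R B).hom (SpecOver R R₀).hom fun b => by
    have e : (SpecOver R B).hom b = w (T₀.hom (t.left b)) := by
      rw [← Over.w t, Scheme.Hom.comp_apply]
      change ((Over.map w).obj T₀).hom _ = _
      rw [← Scheme.Hom.comp_apply]
      rfl
    rw [e]
    exact hs _
  obtain ⟨τ, hτ⟩ := f.left.surjective p
  obtain ⟨C, _, _, s, hs1, ⟨c, hc⟩, ρ, hρ, g, j, hg⟩ := hL T' t₀ (𝒬.subsF.map ((Over.map v).map (f ≫ t)).op x) τ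
  obtain ⟨ψ, hψ⟩ := (specEquiv R).surjective (s ≫ f)
  change specMap R ψ = s ≫ f at hψ
  have hψe : Etale (specMap R ψ).left := by
    rw [hψ, Over.comp_left]
    infer_instance
  let _ : Algebra B C := ψ.toRingHom.toAlgebra
  have het : Algebra.Etale B C := by
    have h1 : Etale (Spec.map (CommRingCat.ofHom ψ.toRingHom)) := hψe
    have h2 := (HasRingHomProperty.Spec_iff (P := @Etale)).1 h1
    exact h2
  have hfl : Module.Flat B C := inferInstance
  refine ⟨C, inferInstance, inferInstance, hfl, inferInstance, ⟨c, ?_⟩, ?_⟩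
  · have h1 : (specMap R ψ).left c = p := by
      rw [hψ, Over.comp_left, Scheme.Hom.comp_apply, hc, hτ]
    exact h1
  · obtain ⟨I, hI⟩ := exists_isRep_condX K x t
    obtain ⟨I₀, hI₀⟩ := exists_isRep_condX K (x₀ j) (𝟙 _)
    have h1 := Lsub_bc (bs := bs) (IsRep.trunc hI n) ψ
    rw [← trunc_bc, ← condX_bc] at h1
    have h2 : bc (algebraMap B C) (Lsub bs (trunc n (condX K x t))) =
        Lsub bs (trunc n (condX K x (specMap R ψ ≫ t))) := h1.symm
    rw [h2]
    rw [condX_map] at hg
    have h3 : specMap R ψ ≫ t = s ≫ f ≫ t := by rw [hψ, Category.assoc]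
    rw [h3, hg]
    exact projective_conjE hI₀ bs (hd j) ρ g

end Groth.Agent.RedSub.H646.DeltaAll
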