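import Groth.Agent.Fga.GrassBasic
import Mathlib.LinearAlgebra.TensorProduct.Basis
import Mathlib.RingTheory.TensorProduct.Free
import Mathlib.RingTheory.TensorProduct.Maps

/-!
# Closed subfunctors of a finite free affine scheme as points of a Grassmannian

`W` a finite free `R`-algebra with basis `bs`, `B` an `R`-algebra.  A condition `E` on pairs `B → C`, `W → C` which is
represented by an ideal of `B ⊗ W` is the same as the submodule `Lsub bs E` of `B^ι`; this is compatible with base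
change.
-/

set_option autoImplicit false

universe u

open TensorProduct
open Groth.Agent.Fga.GrassBasic

namespace Groth.Agent.RedSub.H646.DeltaRing

variable {R W : Type u} [CommRing R] [CommRing W] [Algebra R W] {ι : Type} [Fintype ι]
variable {B C D : Type u} [CommRing B] [Algebra R B] [CommRing C] [Algebra R C] [CommRing D] [Algebra R D]

/-- Conditions on pairs of points `B → C`, `W → C`. -/
abbrev Cond (R W B : Type u) [CommRing R] [CommRing W] [Algebra R W] [CommRing B] [Algebra R B] : Type (u + 1) :=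
  ∀ (C : Type u) [CommRing C] [Algebra R C], (B →ₐ[R] C) → (W →ₐ[R] C) → Prop

/-- The map `B ⊗ W → C` defined by two points. -/
abbrev lft (φ : B →ₐ[R] C) (γ : W →ₐ[R] C) : B ⊗[R] W →ₐ[R] C :=
  Algebra.TensorProduct.lift φ γ (fun _ _ => Commute.all _ _)

/-- The condition is represented by an ideal of `B ⊗ W`. -/
def IsRep (E : Cond R W B) (I : Ideal (B ⊗[R] W)) : Prop :=
  ∀ (C : Type u) [CommRing C] [Algebra R C] (φ : B →ₐ[R] C) (γ : W →ₐ[R] C), E C φ γ ↔ ∀ x ∈ I, lft φ γ x = 0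

theorem comp_lft (χ : C →ₐ[R] D) (φ : B →ₐ[R] C) (γ : W →ₐ[R] C) (x : B ⊗[R] W) :
    lft (χ.comp φ) (χ.comp γ) x = χ (lft φ γ x) := by
  induction x using TensorProduct.induction_on with
  | zero => rw [map_zero, map_zero, map_zero]
  | tmul b w =>
    rw [Algebra.TensorProduct.lift_tmul, Algebra.TensorProduct.lift_tmul, map_mul]
    rfl
  | add a b ha hb => rw [map_add, map_add, map_add, ha, hb]

theorem IsRep.comp {E : Cond R W B} {I : Ideal (B ⊗[R] W)} (h : IsRep E I) (χ : C →ₐ[R] D) {φ : B →ₐ[R] C}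
    {γ : W →ₐ[R] C} (hE : E C φ γ) : E D (χ.comp φ) (χ.comp γ) := by
  rw [h]
  intro x hx
  rw [comp_lft, (h C φ γ).1 hE x hx, map_zero]

/-- The condition over `C` deduced from a condition over `B`. -/
def Cond.bc (E : Cond R W B) (ψ : B →ₐ[R] C) : Cond R W C := fun D _ _ φ γ => E D (φ.comp ψ) γ

/-- The map `B ⊗ W → C ⊗ W`. -/
abbrev tmap (W : Type u) [CommRing W] [Algebra R W] (ψ : B →ₐ[R] C) : B ⊗[R] W →ₐ[R] C ⊗[R] W :=
  Algebra.TensorProduct.map ψ (AlgHom.id R W)

theorem lft_tmap (ψ : B →ₐ[R] C) (φ : C →ₐ[R] D) (γ : W →ₐ[R] D) (x : B ⊗[R] W) :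
    lft φ γ (tmap W ψ x) = lft (φ.comp ψ) γ x := by
  induction x using TensorProduct.induction_on with
  | zero => rw [map_zero, map_zero, map_zero]
  | tmul b w =>
    rw [Algebra.TensorProduct.map_tmul, Algebra.TensorProduct.lift_tmul, Algebra.TensorProduct.lift_tmul]
    rfl
  | add a b ha hb => rw [map_add, map_add, map_add, ha, hb]

theorem IsRep.bc {E : Cond R W B} {I : Ideal (B ⊗[R] W)} (h : IsRep E I) (ψ : B →ₐ[R] C) :
    IsRep (E.bc ψ) (I.map (tmap W ψ)) := by
  intro D _ _ φ γ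
  rw [Cond.bc, h]
  constructor
  · intro h1
    have h2 : I.map (tmap W ψ) ≤ RingHom.ker (lft φ γ) := by
      rw [Ideal.map_le_iff_le_comap]
      intro x hx
      rw [Ideal.mem_comap, RingHom.mem_ker, lft_tmap]
      exact h1 x hx
    exact fun x hx => h2 hx
  · intro h1 x hx
    rw [← lft_tmap]
    exact h1 _ (Ideal.mem_map_of_mem _ hx)

/-- the universal point of `B` -/
def uL (I : Ideal (B ⊗[R] W)) : B →ₐ[R] (B ⊗[R] W) ⧸ I :=
  (Ideal.Quotient.mkₐ R I).comp Algebra.TensorProduct.includeLeft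

/-- the universal point of `W` -/
def uR (I : Ideal (B ⊗[R] W)) : W →ₐ[R] (B ⊗[R] W) ⧸ I :=
  (Ideal.Quotient.mkₐ R I).comp Algebra.TensorProduct.includeRight

theorem lft_u (I : Ideal (B ⊗[R] W)) (x : B ⊗[R] W) : lft (uL I) (uR I) x = Ideal.Quotient.mk I x := by
  rw [uL, uR, comp_lft]
  have : lft (Algebra.TensorProduct.includeLeft : B →ₐ[R] B ⊗[R] W)
      (Algebra.TensorProduct.includeRight : W →ₐ[R] B ⊗[R] W) x = x := by
    induction x using TensorProduct.induction_on with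
    | zero => rw [map_zero]
    | tmul b w =>
      rw [Algebra.TensorProduct.lift_tmul, Algebra.TensorProduct.includeLeft_apply,
        Algebra.TensorProduct.includeRight_apply, Algebra.TensorProduct.tmul_mul_tmul, one_mul, mul_one]
    | add a b ha hb => rw [map_add, ha, hb]
  rw [this]
  rfl

theorem univ_rep {E : Cond R W B} {I : Ideal (B ⊗[R] W)} (h : IsRep E I) : E _ (uL I) (uR I) :=
  (h _ _ _).2 fun x hx => by
    rw [lft_u]
    exact Ideal.Quotient.eq_zero_iff_mem.2 hx

theorem exists_lift_of_rep {E : Cond R W B} {I : Ideal (B ⊗[R] W)} (h : IsRep E I) {φ : B →ₐ[R] C} {γ : W →ₐ[R] C}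
    (hE : E C φ γ) : ∃ f : ((B ⊗[R] W) ⧸ I) →ₐ[R] C, f.comp (uL I) = φ ∧ f.comp (uR I) = γ := by
  refine ⟨Ideal.Quotient.liftₐ I (lft φ γ) ((h C φ γ).1 hE), ?_, ?_⟩
  · apply AlgHom.ext
    intro b
    change lft φ γ (b ⊗ₜ[R] 1) = _
    rw [Algebra.TensorProduct.lift_tmul, map_one, mul_one]
  · apply AlgHom.ext
    intro b
    change lft φ γ (1 ⊗ₜ[R] b) = _
    rw [Algebra.TensorProduct.lift_tmul, map_one, one_mul]

theorem quot_hom_ext {I : Ideal (B ⊗[R] W)} {f g : ((B ⊗[R] W) ⧸ I) →ₐ[R] C} (h1 : f.comp (uL I) = g.comp (uL I))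
    (h2 : f.comp (uR I) = g.comp (uR I)) : f = g := by
  apply AlgHom.ext
  intro x
  obtain ⟨y, rfl⟩ := Ideal.Quotient.mk_surjective x
  rw [← lft_u, ← comp_lft, ← comp_lft, h1, h2]

/-- A finite generating family of the `R`-module `W`. -/
structure Gen (ι : Type) (R W : Type u) [CommRing R] [CommRing W] [Algebra R W] where
  /-- the family -/
  toFun : ι → W
  span_eq : Submodule.span R (Set.range toFun) = ⊤

instance : CoeFun (Gen ι R W) (fun _ => ι → W) := ⟨Gen.toFun⟩

theorem exists_gen (R W : Type u) [CommRing R] [CommRing W] [Algebra R W] [Module.Finite R W] :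
    ∃ k : ℕ, Nonempty (Gen (Fin k) R W) := by
  obtain ⟨k, w, hw⟩ := Module.Finite.exists_fin (R := R) (M := W)
  exact ⟨k, ⟨⟨w, hw⟩⟩⟩

variable (bs : Gen ι R W)

/-- `v ↦ ∑ v_i ⊗ w_i`. -/
noncomputable def tw (B : Type u) [CommRing B] [Algebra R B] : (ι → B) →ₗ[B] B ⊗[R] W :=
  ∑ i, (LinearMap.toSpanSingleton B (B ⊗[R] W) ((1 : B) ⊗ₜ[R] bs i)).comp (LinearMap.proj i)

theorem tw_apply (v : ι → B) : tw bs B v = ∑ i, v i ⊗ₜ[R] bs i := by
  rw [tw, LinearMap.sum_apply]
  apply Finset.sum_congr rfl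
  intro i _
  rw [LinearMap.comp_apply, LinearMap.toSpanSingleton_apply, LinearMap.proj_apply, TensorProduct.smul_tmul',
    smul_eq_mul, mul_one]

theorem tw_surjective : Function.Surjective (tw bs B) := by
  classical
  rw [← LinearMap.range_eq_top, eq_top_iff]
  rintro x -
  induction x using TensorProduct.induction_on with
  | zero => exact Submodule.zero_mem _
  | add a b ha hb => exact Submodule.add_mem _ ha hb
  | tmul b w =>
    have hw : w ∈ Submodule.span R (Set.range bs.toFun) := by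
      rw [bs.span_eq]
      exact Submodule.mem_top
    induction hw using Submodule.span_induction with
    | mem w hw =>
      obtain ⟨i, rfl⟩ := hw
      refine ⟨Pi.single i b, ?_⟩
      rw [tw_apply, Finset.sum_eq_single i]
      · rw [Pi.single_eq_same]
      · intro j _ hj
        rw [Pi.single_eq_of_ne hj, TensorProduct.zero_tmul]
      · intro hi
        exact absurd (Finset.mem_univ i) hi
    | zero => rw [TensorProduct.tmul_zero]; exact Submodule.zero_mem _
    | add a c _ _ ha hc => rw [TensorProduct.tmul_add]; exact Submodule.add_mem _ ha hc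
    | smul r a _ ha =>
      have e : b ⊗ₜ[R] (r • a) = (algebraMap R B r) • (b ⊗ₜ[R] a) := by
        rw [← TensorProduct.smul_tmul, TensorProduct.smul_tmul', smul_eq_mul, Algebra.smul_def]
      rw [e]
      exact Submodule.smul_mem _ _ ha

theorem lft_tw (φ : B →ₐ[R] C) (γ : W →ₐ[R] C) (v : ι → B) : lft φ γ (tw bs B v) = ∑ i, φ (v i) * γ (bs i) := by
  rw [tw_apply, map_sum]
  apply Finset.sum_congr rfl
  intro i _
  rw [Algebra.TensorProduct.lift_tmul]

theorem tmap_tw (ψ : B →ₐ[R] C) (v : ι → B) : tmap W ψ (tw bs B v) = tw bs C (fun i => ψ (v i)) := by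
  rw [tw_apply, tw_apply, map_sum]
  rfl

/-- The kernel of `tw` is compatible with base change. -/
theorem ker_tw_le (ψ : B →ₐ[R] C) : LinearMap.ker (tw bs C) ≤
    Fga.GrassBasic.bc (ψ : B →+* C) (LinearMap.ker (tw bs B)) := by
  classical
  intro w hw
  let f : (ι → R) →ₗ[R] W := ∑ i, (LinearMap.toSpanSingleton R W (bs i)).comp (LinearMap.proj i)
  have hf : ∀ v : ι → R, f v = ∑ i, v i • bs i := fun v => by
    rw [LinearMap.sum_apply]
    rfl
  have hex : Function.Exact ((LinearMap.ker f).subtype.lTensor C) (f.lTensor C) := by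
    refine lTensor_exact C (LinearMap.exact_subtype_ker_map f) ?_
    rw [← LinearMap.range_eq_top, eq_top_iff, ← bs.span_eq, Submodule.span_le]
    rintro _ ⟨i, rfl⟩
    refine ⟨Pi.single i 1, ?_⟩
    rw [hf, Finset.sum_eq_single i]
    · rw [Pi.single_eq_same, one_smul]
    · intro j _ hj
      rw [Pi.single_eq_of_ne hj, zero_smul]
    · intro hi
      exact absurd (Finset.mem_univ i) hi
  let x : C ⊗[R] (ι → R) := ∑ i, w i ⊗ₜ[R] (Pi.single i (1 : R))
  have hx : f.lTensor C x = 0 := by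
    rw [map_sum]
    have h1 : tw bs C w = 0 := hw
    rw [tw_apply] at h1
    rw [← h1]
    apply Finset.sum_congr rfl
    intro i _
    rw [LinearMap.lTensor_tmul]
    congr 1
    rw [hf, Finset.sum_eq_single i]
    · rw [Pi.single_eq_same, one_smul]
    · intro j _ hj
      rw [Pi.single_eq_of_ne hj, zero_smul]
    · intro hi
      exact absurd (Finset.mem_univ i) hi
  obtain ⟨y, hy⟩ := (hex x).1 hx
  let g : C ⊗[R] (ι → R) →ₗ[R] (ι → C) :=
    TensorProduct.lift (LinearMap.mk₂ R (fun (c : C) (r : ι → R) => fun i => r i • c)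
      (by intro c c' r; funext i; exact smul_add _ _ _)
      (by intro a c r; funext i; exact smul_comm _ _ _)
      (by intro c r r'; funext i; exact add_smul _ _ _)
      (by intro a c r; funext i; exact mul_smul _ _ _))
  have hg : g x = w := by
    rw [map_sum]
    funext j
    rw [Finset.sum_apply, Finset.sum_eq_single j]
    · change (Pi.single j (1 : R) : ι → R) j • w j = w j
      rw [Pi.single_eq_same, one_smul]
    · intro i _ hi
      change (Pi.single i (1 : R) : ι → R) j • w i = 0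
      rw [Pi.single_eq_of_ne (Ne.symm hi), zero_smul]
    · intro hi
      exact absurd (Finset.mem_univ j) hi
  rw [← hg, ← hy]
  clear hy hx hg
  clear_value x
  clear x hw
  induction y using TensorProduct.induction_on with
  | zero => rw [map_zero, map_zero]; exact Submodule.zero_mem _
  | add a b ha hb => rw [map_add, map_add]; exact Submodule.add_mem _ ha hb
  | tmul c r =>
    have e : g ((LinearMap.ker f).subtype.lTensor C (c ⊗ₜ[R] r)) =
        c • (fun i => (ψ : B →+* C) (algebraMap R B (r.1 i))) := by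
      funext i
      change r.1 i • c = c * ψ (algebraMap R B (r.1 i))
      rw [AlgHom.commutes, Algebra.smul_def, mul_comm]
    rw [e]
    refine Submodule.smul_mem _ _ (mem_bc_of_mem (ψ : B →+* C) (v := fun i => algebraMap R B (r.1 i)) ?_)
    rw [LinearMap.mem_ker, tw_apply]
    have h1 : f r.1 = 0 := r.2
    rw [hf] at h1
    have h2 := congrArg (fun z : W => (1 : B) ⊗ₜ[R] z) h1
    simp only [TensorProduct.tmul_sum, TensorProduct.tmul_zero] at h2
    rw [← h2]
    apply Finset.sum_congr rfl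
    intro i _
    rw [← TensorProduct.smul_tmul, Algebra.smul_def, mul_one]

/-- The submodule of `B^ι` of relations satisfied by the points of `E`. -/
def Lsub (E : Cond R W B) : Submodule B (ι → B) where
  carrier := {v | ∀ (C : Type u) [CommRing C] [Algebra R C] (φ : B →ₐ[R] C) (γ : W →ₐ[R] C), E C φ γ →
    ∑ i, φ (v i) * γ (bs i) = 0}
  add_mem' {v w} hv hw := by
    intro C _ _ φ γ h
    have h1 := hv C φ γ h
    have h2 := hw C φ γ h
    simp only [Pi.add_apply, map_add, add_mul, Finset.sum_add_distrib]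
    rw [h1, h2, add_zero]
  zero_mem' := by
    intro C _ _ φ γ h
    simp
  smul_mem' b v hv := by
    intro C _ _ φ γ h
    have h1 := hv C φ γ h
    simp only [Pi.smul_apply, smul_eq_mul, map_mul, mul_assoc]
    rw [← Finset.mul_sum, h1, mul_zero]

theorem mem_Lsub {E : Cond R W B} {v : ι → B} : v ∈ Lsub bs E ↔ ∀ (C : Type u) [CommRing C] [Algebra R C]
    (φ : B →ₐ[R] C) (γ : W →ₐ[R] C), E C φ γ → ∑ i, φ (v i) * γ (bs i) = 0 := Iff.rfl

variable {bs}

theorem mem_Lsub_iff {E : Cond R W B} {I : Ideal (B ⊗[R] W)} (h : IsRep E I) (v : ι → B) :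
    v ∈ Lsub bs E ↔ tw bs B v ∈ I := by
  constructor
  · intro hv
    have h1 := hv _ (uL I) (uR I) (univ_rep h)
    rw [← lft_tw, lft_u] at h1
    exact Ideal.Quotient.eq_zero_iff_mem.1 h1
  · intro hv C _ _ φ γ hE
    rw [← lft_tw]
    exact (h C φ γ).1 hE _ hv

theorem iff_Lsub {E : Cond R W B} {I : Ideal (B ⊗[R] W)} (h : IsRep E I) (φ : B →ₐ[R] C) (γ : W →ₐ[R] C) :
    E C φ γ ↔ ∀ v ∈ Lsub bs E, ∑ i, φ (v i) * γ (bs i) = 0 := by
  constructor
  · intro hE v hv
    exact hv C φ γ hE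
  · intro hv
    rw [h]
    intro x hx
    obtain ⟨v, rfl⟩ := tw_surjective bs x
    rw [lft_tw]
    exact hv v ((mem_Lsub_iff h v).2 hx)

/-- The submodule determines the condition. -/
theorem iff_of_Lsub_eq {E E' : Cond R W B} {I I' : Ideal (B ⊗[R] W)} (h : IsRep E I) (h' : IsRep E' I')
    (he : Lsub bs E = Lsub bs E') (φ : B →ₐ[R] C) (γ : W →ₐ[R] C) : E C φ γ ↔ E' C φ γ := by
  rw [iff_Lsub (bs := bs) h, iff_Lsub (bs := bs) h', he]

/-- The extension of an ideal of `B ⊗ W` to `C ⊗ W` is generated by it as a `C`-module. -/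
theorem map_le_span (I : Ideal (B ⊗[R] W)) (ψ : B →ₐ[R] C) {x : C ⊗[R] W} (hx : x ∈ I.map (tmap W ψ)) :
    x ∈ Submodule.span C ((tmap W ψ) '' (I : Set (B ⊗[R] W))) := by
  have h1 : ∀ x ∈ Submodule.span C ((tmap W ψ) '' (I : Set (B ⊗[R] W))), ∀ r : C ⊗[R] W,
      r * x ∈ Submodule.span C ((tmap W ψ) '' (I : Set (B ⊗[R] W))) := by
    intro x hx
    induction hx using Submodule.span_induction with
    | mem x hx =>
      obtain ⟨y, hy, rfl⟩ := hx
      intro r
      induction r using TensorProduct.induction_on with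
      | zero => rw [zero_mul]; exact Submodule.zero_mem _
      | tmul c w =>
        have e : (c ⊗ₜ[R] w) * tmap W ψ y = c • tmap W ψ ((1 ⊗ₜ[R] w) * y) := by
          rw [map_mul, Algebra.TensorProduct.map_tmul, map_one, Algebra.smul_def, ← mul_assoc]
          congr 1
          rw [Algebra.TensorProduct.algebraMap_apply, Algebra.TensorProduct.tmul_mul_tmul, one_mul]
          simp
        rw [e]
        exact Submodule.smul_mem _ _ (Submodule.subset_span ⟨_, I.mul_mem_left _ hy, rfl⟩)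
      | add a b ha hb => rw [add_mul]; exact Submodule.add_mem _ ha hb
    | zero => intro r; rw [mul_zero]; exact Submodule.zero_mem _
    | add a b _ _ ha hb => intro r; rw [mul_add]; exact Submodule.add_mem _ (ha r) (hb r)
    | smul c a _ ha =>
      intro r
      rw [mul_smul_comm]
      exact Submodule.smul_mem _ _ (ha r)
  have hx' : x ∈ Ideal.span ((tmap W ψ) '' (I : Set (B ⊗[R] W))) := hx
  clear hx
  induction hx' using Submodule.span_induction with
  | mem x hx => exact Submodule.subset_span hx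
  | zero => exact Submodule.zero_mem _
  | add a b _ _ ha hb => exact Submodule.add_mem _ ha hb
  | smul r a _ ha => exact h1 _ ha r

/-- Compatibility with base change. -/
theorem Lsub_bc {E : Cond R W B} {I : Ideal (B ⊗[R] W)} (h : IsRep E I) (ψ : B →ₐ[R] C) :
    Lsub bs (E.bc ψ) = Fga.GrassBasic.bc (ψ : B →+* C) (Lsub bs E) := by
  apply le_antisymm
  · intro w hw
    rw [mem_Lsub_iff (h.bc ψ)] at hw
    have h1 := map_le_span I ψ hw
    have h2 : Submodule.span C ((tmap W ψ) '' (I : Set (B ⊗[R] W))) ≤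
        (Fga.GrassBasic.bc (ψ : B →+* C) (Lsub bs E)).map (tw bs C) := by
      rw [Submodule.span_le]
      rintro _ ⟨y, hy, rfl⟩
      obtain ⟨v, rfl⟩ := tw_surjective bs y
      rw [tmap_tw]
      exact Submodule.mem_map_of_mem (mem_bc_of_mem (ψ : B →+* C) ((mem_Lsub_iff h v).2 hy))
    obtain ⟨w', hw', he⟩ := h2 h1
    have h3 : w - w' ∈ LinearMap.ker (tw bs C) := by
      rw [LinearMap.mem_ker, map_sub, he, sub_self]
    have h4 : LinearMap.ker (tw bs B) ≤ Lsub bs E := by
      intro z hz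
      rw [mem_Lsub_iff h, LinearMap.mem_ker.1 hz]
      exact I.zero_mem
    have h5 := bc_mono (ψ : B →+* C) h4 (ker_tw_le bs ψ h3)
    have h6 := Submodule.add_mem _ h5 hw'
    rwa [sub_add_cancel] at h6
  · rw [bc_le_iff]
    intro v hv D _ _ φ γ hE
    exact hv D (φ.comp ψ) γ hE

/-- The quotient of `B^ι` is the coordinate ring. -/
noncomputable def quotEquiv {E : Cond R W B} {I : Ideal (B ⊗[R] W)} (h : IsRep E I) :
    ((ι → B) ⧸ Lsub bs E) ≃ₗ[B] ((B ⊗[R] W) ⧸ I) :=
  (Submodule.quotEquivOfEq (Lsub bs E) (LinearMap.ker ((Ideal.Quotient.mkₐ B I).toLinearMap.comp (tw bs B))) (by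
    ext v
    rw [mem_Lsub_iff h, LinearMap.mem_ker]
    exact Ideal.Quotient.eq_zero_iff_mem.symm)).trans
    (LinearMap.quotKerEquivOfSurjective _ (by
      intro x
      obtain ⟨y, rfl⟩ := Ideal.Quotient.mk_surjective x
      obtain ⟨v, rfl⟩ := tw_surjective bs y
      exact ⟨v, rfl⟩))

theorem isQuotRank_of_equiv {V V' : Type u} [AddCommGroup V] [AddCommGroup V'] [Module B V] [Module B V'] {d : ℕ}
    {L : Submodule B V} {L' : Submodule B V'} (e : (V ⧸ L) ≃ₗ[B] (V' ⧸ L')) (h : IsQuotRank d L) : IsQuotRank d L' := by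
  have := h.proj
  refine ⟨Module.Projective.of_equiv e, fun p => ?_⟩
  rw [← Module.rankAtStalk_eq_of_equiv e]
  exact h.rank p

theorem smul_eq_uL {I : Ideal (B ⊗[R] W)} (b : B) (x : (B ⊗[R] W) ⧸ I) : b • x = uL I b * x := by
  obtain ⟨y, rfl⟩ := Ideal.Quotient.mk_surjective x
  have e : b • y = (b ⊗ₜ[R] (1 : W)) * y := by
    rw [Algebra.smul_def]
    rfl
  change Ideal.Quotient.mk I (b • y) = Ideal.Quotient.mk I (b ⊗ₜ[R] (1 : W)) * Ideal.Quotient.mk I y
  rw [e, map_mul]

/-- A natural automorphism of the points of `W` carrying `E` to `E'` gives an isomorphism of coordinate rings. -/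
theorem exists_equiv {E E' : Cond R W B} {I I' : Ideal (B ⊗[R] W)} (h : IsRep E I) (h' : IsRep E' I')
    (T T' : ∀ (C : Type u) [CommRing C] [Algebra R C], (B →ₐ[R] C) → (W →ₐ[R] C) → (W →ₐ[R] C))
    (hT : ∀ (C D : Type u) [CommRing C] [Algebra R C] [CommRing D] [Algebra R D] (χ : C →ₐ[R] D) (φ : B →ₐ[R] C)
      (γ : W →ₐ[R] C), T D (χ.comp φ) (χ.comp γ) = χ.comp (T C φ γ))
    (hT' : ∀ (C D : Type u) [CommRing C] [Algebra R C] [CommRing D] [Algebra R D] (χ : C →ₐ[R] D) (φ : B →ₐ[R] C)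
      (γ : W →ₐ[R] C), T' D (χ.comp φ) (χ.comp γ) = χ.comp (T' C φ γ))
    (h1 : ∀ (C : Type u) [CommRing C] [Algebra R C] (φ : B →ₐ[R] C) (γ : W →ₐ[R] C), T C φ (T' C φ γ) = γ)
    (h2 : ∀ (C : Type u) [CommRing C] [Algebra R C] (φ : B →ₐ[R] C) (γ : W →ₐ[R] C), T' C φ (T C φ γ) = γ)
    (hE : ∀ (C : Type u) [CommRing C] [Algebra R C] (φ : B →ₐ[R] C) (γ : W →ₐ[R] C), E C φ γ → E' C φ (T C φ γ))
    (hE' : ∀ (C : Type u) [CommRing C] [Algebra R C] (φ : B →ₐ[R] C) (γ : W →ₐ[R] C), E' C φ γ → E C φ (T' C φ γ)) :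
    Nonempty (((B ⊗[R] W) ⧸ I) ≃ₗ[B] ((B ⊗[R] W) ⧸ I')) := by
  obtain ⟨f, hf1, hf2⟩ := exists_lift_of_rep h (hE' _ _ _ (univ_rep h'))
  obtain ⟨g, hg1, hg2⟩ := exists_lift_of_rep h' (hE _ _ _ (univ_rep h))
  have hgf : g.comp f = AlgHom.id R _ := by
    apply quot_hom_ext
    · rw [AlgHom.comp_assoc, hf1, hg1]
      rfl
    · rw [AlgHom.comp_assoc, hf2, ← hT', hg1, hg2, h2]
      rfl
  have hfg : f.comp g = AlgHom.id R _ := by
    apply quot_hom_ext
    · rw [AlgHom.comp_assoc, hg1, hf1]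
      rfl
    · rw [AlgHom.comp_assoc, hg2, ← hT, hf1, hf2, h1]
      rfl
  have hfB : ∀ (b : B) (x : (B ⊗[R] W) ⧸ I), f (b • x) = b • f x := by
    intro b x
    rw [smul_eq_uL, smul_eq_uL, map_mul]
    congr 1
    exact DFunLike.congr_fun hf1 b
  exact ⟨{ toFun := f
           map_add' := map_add f
           map_smul' := hfB
           invFun := g
           left_inv := fun x => DFunLike.congr_fun hgf x
           right_inv := fun x => DFunLike.congr_fun hfg x }⟩

theorem isQuotRank_of_conj {E E' : Cond R W B} {I I' : Ideal (B ⊗[R] W)} (h : IsRep E I) (h' : IsRep E' I')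
    (T T' : ∀ (C : Type u) [CommRing C] [Algebra R C], (B →ₐ[R] C) → (W →ₐ[R] C) → (W →ₐ[R] C))
    (hT : ∀ (C D : Type u) [CommRing C] [Algebra R C] [CommRing D] [Algebra R D] (χ : C →ₐ[R] D) (φ : B →ₐ[R] C)
      (γ : W →ₐ[R] C), T D (χ.comp φ) (χ.comp γ) = χ.comp (T C φ γ))
    (hT' : ∀ (C D : Type u) [CommRing C] [Algebra R C] [CommRing D] [Algebra R D] (χ : C →ₐ[R] D) (φ : B →ₐ[R] C)
      (γ : W →ₐ[R] C), T' D (χ.comp φ) (χ.comp γ) = χ.comp (T' C φ γ))
    (h1 : ∀ (C : Type u) [CommRing C] [Algebra R C] (φ : B →ₐ[R] C) (γ : W →ₐ[R] C), T C φ (T' C φ γ) = γ)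
    (h2 : ∀ (C : Type u) [CommRing C] [Algebra R C] (φ : B →ₐ[R] C) (γ : W →ₐ[R] C), T' C φ (T C φ γ) = γ)
    (hE : ∀ (C : Type u) [CommRing C] [Algebra R C] (φ : B →ₐ[R] C) (γ : W →ₐ[R] C), E C φ γ → E' C φ (T C φ γ))
    (hE' : ∀ (C : Type u) [CommRing C] [Algebra R C] (φ : B →ₐ[R] C) (γ : W →ₐ[R] C), E' C φ γ → E C φ (T' C φ γ))
    {d : ℕ} (hd : IsQuotRank d (Lsub bs E)) : IsQuotRank d (Lsub bs E') := by
  obtain ⟨e⟩ := exists_equiv h h' T T' hT hT' h1 h2 hE hE'
  exact isQuotRank_of_equiv ((quotEquiv h).trans (e.trans (quotEquiv h').symm)) hd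

end Groth.Agent.RedSub.H646.DeltaRing
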