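import Groth.Agent.RedSub.H646.PtsRep
import Groth.Agent.RedSub.H646.ClosedDesc
import Groth.Agent.Fga.Grass
import Groth.Agent.Fga.QT6a

/-!
# The functor of closed subgroups of class `𝒬` in a Grassmannian

`v : Spec R ⟶ S`, `K : AffChart v G A`, `bs` a basis of `A / I ^ (n + 1)`.  If all members have rank `d` (`HasRank`),
a section `x` of `𝒬.subsF` over `T : Over (Spec R)` defines a morphism `T ⟶ Gr`; if members are determined by their
submodules (`IsInj`), this gives `Inj ((Over.map w).op ⋙ (Over.map v).op ⋙ 𝒬.subsF) (P^N_V)` (`w : V ⟶ Spec R`).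
-/

set_option autoImplicit false
universe u

open CategoryTheory CategoryTheory.Limits AlgebraicGeometry Opposite MonoidalCategory CartesianMonoidalCategory
  MonObj GrpObj
open TensorProduct
open Groth.Agent.Sga3B.Cell

namespace Groth.Agent.RedSub.H646.DeltaSch

open Groth.Agent.RedSub.H647.SubPt Groth.Agent.RedSub.H647.SubF Groth.Agent.RedSub.H646.DeltaRing
  Groth.Agent.RedSub.H646.InfPt Groth.Agent.RedSub.H646.PtsRep Groth.Agent.RedSub.H646.ClosedDesc
  Groth.Agent.Sga3B Groth.Agent.Sga3B.BcPts Groth.Agent.Sga3B.MT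
open Groth.Agent.Books.AffBridge
open Groth.Agent.Fga.GrassBasic Groth.Agent.Fga.Grass Groth.Agent.Fga.RingFunBasic Groth.Agent.Fga.RingFunRep

section ptx

variable {S : Scheme.{u}} {G : Over S} [GrpObj G] (𝒬 : SubClass G)

/-- The point `(y, γ)` lies in the subgroup given by the section `x`. -/
def PtX {T : Over S} (x : 𝒬.subsF.obj (op T)) {X : Scheme.{u}} (y : X ⟶ T.left) (γ : X ⟶ G.left) : Prop :=
  ∃ (H : Over T.left) (_ : GrpObj H) (h : H ⟶ Red.bc T.hom G) (hQ : 𝒬.Q T.hom h), 𝒬.ofSub hQ = x ∧ Pt h y γ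

variable {𝒬}

theorem ptX_ofSub {T : Over S} {H : Over T.left} [GrpObj H] {h : H ⟶ Red.bc T.hom G} (hQ : 𝒬.Q T.hom h)
    {X : Scheme.{u}} (y : X ⟶ T.left) (γ : X ⟶ G.left) : PtX 𝒬 (𝒬.ofSub hQ) y γ ↔ Pt h y γ := by
  constructor
  · rintro ⟨H', _, h', hQ', e, hp⟩
    exact ((𝒬.ofSub_eq_iff hQ' hQ).1 e X y γ).1 hp
  · intro hp
    exact ⟨H, _, h, hQ, rfl, hp⟩

theorem ptX_map {T T' : Over S} (g : T' ⟶ T) (x : 𝒬.subsF.obj (op T)) {X : Scheme.{u}} (y : X ⟶ T'.left)
    (γ : X ⟶ G.left) : PtX 𝒬 (𝒬.subsF.map g.op x) y γ ↔ PtX 𝒬 x (y ≫ g.left) γ := by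
  obtain ⟨H, _, h, hQ, rfl⟩ := 𝒬.exists_ofSub x
  obtain ⟨H', _, h', hQ', e⟩ := 𝒬.exists_ofSub (𝒬.subsF.map g.op (𝒬.ofSub hQ))
  rw [← e, ptX_ofSub, ptX_ofSub]
  exact (𝒬.map_ofSub_eq_iff g hQ hQ').1 e.symm X y γ

theorem ext_ptX {T : Over S} {x x' : 𝒬.subsF.obj (op T)}
    (h : ∀ (X : Scheme.{u}) (y : X ⟶ T.left) (γ : X ⟶ G.left), PtX 𝒬 x y γ ↔ PtX 𝒬 x' y γ) : x = x' := by
  obtain ⟨H, _, k, hQ, rfl⟩ := 𝒬.exists_ofSub x
  obtain ⟨H', _, k', hQ', rfl⟩ := 𝒬.exists_ofSub x'
  rw [𝒬.ofSub_eq_iff]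
  intro X y γ
  rw [← ptX_ofSub hQ, ← ptX_ofSub hQ']
  exact h X y γ

end ptx

variable {S : Scheme.{u}} {R : Type u} [CommRing R] {v : Spec (CommRingCat.of R) ⟶ S} {G : Over S} [GrpObj G]
  {A : Type u} [CommRing A] [Algebra R A] [PtGrp R A] (K : AffChart v G A) (𝒬 : SubClass G)
  {n : ℕ} {J : Type} [Fintype J] [DecidableEq J] (bs : Gen J R (Wn R A n)) {d : ℕ}

section condX

variable {𝒬} {T : Over (Spec (CommRingCat.of R))} (x : 𝒬.subsF.obj (op ((Over.map v).obj T)))

/-- The condition on ring-valued points defined by a section. -/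
def condX {B : Type u} [CommRing B] [Algebra R B] (t : SpecOver R B ⟶ T) : Cond R A B := fun C _ _ φ c =>
  PtX 𝒬 x ((specMap R φ).left ≫ t.left) (K.pt C (Pt.mk c)).left

theorem condX_ofSub {H : Over T.left} [GrpObj H] {h : H ⟶ Red.bc (T.hom ≫ v) G} (hQ : 𝒬.Q (T.hom ≫ v) h)
    {B : Type u} [CommRing B] [Algebra R B] (t : SpecOver R B ⟶ T) :
    condX K (𝒬.ofSub (T := (Over.map v).obj T) hQ) t = cond K h t := by
  funext C _ _ φ c
  exact propext (ptX_ofSub (T := (Over.map v).obj T) hQ _ _)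

theorem exists_isRep_condX {B : Type u} [CommRing B] [Algebra R B] (t : SpecOver R B ⟶ T) :
    ∃ I : Ideal (B ⊗[R] A), IsRep (condX K x t) I := by
  obtain ⟨H, _, h, hQ, rfl⟩ := 𝒬.exists_ofSub x
  have hQ' : 𝒬.Q (T.hom ≫ v) h := hQ
  have := 𝒬.isClosedImmersion hQ'
  have e := condX_ofSub K hQ' t
  obtain ⟨I, hI⟩ := exists_isRep K h t
  refine ⟨I, ?_⟩
  rw [← e] at hI
  exact hI

theorem condX_bc {B C : Type u} [CommRing B] [Algebra R B] [CommRing C] [Algebra R C] (t : SpecOver R B ⟶ T)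
    (ψ : B →ₐ[R] C) : condX K x (specMap R ψ ≫ t) = (condX K x t).bc ψ := by
  funext D _ _ φ c
  have h1 : (specMap R φ).left ≫ (specMap R ψ ≫ t).left = (specMap R (φ.comp ψ)).left ≫ t.left := by
    rw [specMap_comp, Over.comp_left, Over.comp_left, Category.assoc]
  exact congrArg (fun z => PtX 𝒬 x z (K.pt D (Pt.mk c)).left) h1

theorem condX_map {T' : Over (Spec (CommRingCat.of R))} (g : T' ⟶ T) {B : Type u} [CommRing B] [Algebra R B]
    (t : SpecOver R B ⟶ T') : condX K (𝒬.subsF.map ((Over.map v).map g).op x) t = condX K x (t ≫ g) := by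
  funext D _ _ φ c
  refine propext ((ptX_map ((Over.map v).map g) x _ _).trans (iff_of_eq ?_))
  exact congrArg (fun z => PtX 𝒬 x z (K.pt D (Pt.mk c)).left) (Category.assoc _ _ _)

end condX

/-- The section has rank `d`. -/
def RankOf {𝒬 : SubClass G} {T : Over (Spec (CommRingCat.of R))} (x : 𝒬.subsF.obj (op ((Over.map v).obj T))) (d : ℕ) :
    Prop := ∀ (B : Type u) [CommRing B] [Algebra R B] (t : SpecOver R B ⟶ T),
  IsQuotRank d (Lsub bs (trunc n (condX K x t)))

/-- All members of the class over `w : V ⟶ Spec R` have rank `d`. -/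
def HasRank {V : Scheme.{u}} (w : V ⟶ Spec (CommRingCat.of R)) (d : ℕ) : Prop :=
  ∀ (T : Over V) (x : 𝒬.subsF.obj (op ((Over.map v).obj ((Over.map w).obj T)))), RankOf K bs x d

/-- the algebra structure given by a morphism -/
@[reducible] noncomputable def algOf {B : CommRingCat.{u}} (w : Spec B ⟶ Spec (CommRingCat.of R)) : Algebra R B :=
  (Spec.preimage w).hom.toAlgebra

/-- the morphism over `Spec R` -/
noncomputable def tOver {T : Over (Spec (CommRingCat.of R))} {B : CommRingCat.{u}} (t : Spec B ⟶ T.left)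
    (w : Spec B ⟶ Spec (CommRingCat.of R)) (hw : t ≫ T.hom = w) : letI := algOf w; SpecOver R B ⟶ T :=
  letI := algOf w
  Over.homMk t (by
    change t ≫ T.hom = Spec.map (Spec.preimage w)
    rw [hw, Spec.map_preimage])

variable {𝒬}

set_option linter.unusedSectionVars false

/-- the submodule attached to a point -/
noncomputable def Lw {T : Over (Spec (CommRingCat.of R))} (x : 𝒬.subsF.obj (op ((Over.map v).obj T)))
    {B : CommRingCat.{u}} (t : Spec B ⟶ T.left) (w : Spec B ⟶ Spec (CommRingCat.of R)) (hw : t ≫ T.hom = w) :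
    Submodule B (J → B) := letI := algOf w; Lsub bs (trunc n (condX K x (tOver t w hw)))

theorem Lw_congr {T : Over (Spec (CommRingCat.of R))} (x : 𝒬.subsF.obj (op ((Over.map v).obj T)))
    {B : CommRingCat.{u}} (t : Spec B ⟶ T.left) (w w' : Spec B ⟶ Spec (CommRingCat.of R)) (hw : t ≫ T.hom = w)
    (hw' : t ≫ T.hom = w') : Lw K bs x t w hw = Lw K bs x t w' hw' := by
  have : w = w' := hw.symm.trans hw'
  subst this
  rfl

variable (𝒬) in
/-- Members of the class over `w : V ⟶ Spec R` are determined by their submodules. -/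
def IsInj {V : Scheme.{u}} (w : V ⟶ Spec (CommRingCat.of R)) : Prop :=
  ∀ (T : Over V) (x x' : 𝒬.subsF.obj (op ((Over.map v).obj ((Over.map w).obj T)))),
  (∀ (B : CommRingCat.{u}) (t : Spec B ⟶ ((Over.map w).obj T).left),
    Lw K bs x t (t ≫ ((Over.map w).obj T).hom) rfl = Lw K bs x' t (t ≫ ((Over.map w).obj T).hom) rfl) → x = x'

theorem Lw_map {T T' : Over (Spec (CommRingCat.of R))} (x : 𝒬.subsF.obj (op ((Over.map v).obj T))) (g : T' ⟶ T)
    {B : CommRingCat.{u}} (t : Spec B ⟶ T'.left) (w : Spec B ⟶ Spec (CommRingCat.of R)) (hw : t ≫ T'.hom = w) :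
    Lw K bs (𝒬.subsF.map ((Over.map v).map g).op x) t w hw =
      Lw K bs x (t ≫ g.left) w (by rw [Category.assoc, Over.w, hw]) := by
  let _ := algOf w
  change Lsub bs (trunc n (condX K _ (tOver t w hw))) = Lsub bs (trunc n (condX K _ _))
  rw [condX_map]
  rfl

theorem Lw_comp {T : Over (Spec (CommRingCat.of R))} (x : 𝒬.subsF.obj (op ((Over.map v).obj T)))
    {B C : CommRingCat.{u}} (φ : B ⟶ C) (t : Spec B ⟶ T.left) (w : Spec B ⟶ Spec (CommRingCat.of R))
    (hw : t ≫ T.hom = w) :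
    Lw K bs x (Spec.map φ ≫ t) (Spec.map φ ≫ w) (by rw [Category.assoc, hw]) = bc φ.hom (Lw K bs x t w hw) := by
  let _ : Algebra R B := algOf w
  let _ : Algebra R C := algOf (Spec.map φ ≫ w)
  have hpre : Spec.preimage (Spec.map φ ≫ w) = Spec.preimage w ≫ φ := by
    apply Spec.map_injective
    rw [Spec.map_comp, Spec.map_preimage, Spec.map_preimage]
  let ψ : B →ₐ[R] C := { φ.hom with
    commutes' := fun r => by
      change φ.hom ((Spec.preimage w).hom r) = (Spec.preimage (Spec.map φ ≫ w)).hom r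
      rw [hpre]
      rfl }
  obtain ⟨I, hI⟩ := exists_isRep_condX K x (tOver t w hw)
  have h1 := Lsub_bc (bs := bs) (IsRep.trunc hI n) ψ
  rw [← trunc_bc, ← condX_bc] at h1
  exact h1

/-- The family of points of the Grassmannian. -/
noncomputable def gfam {T : Over (Spec (CommRingCat.of R))}
    (x : 𝒬.subsF.obj (op ((Over.map v).obj T))) (hr : RankOf K bs x d) : Fam (grFun.{u} J d) T.left where
  q {B} t := ⟨Lw K bs x t (t ≫ T.hom) rfl, by
    let _ : Algebra R B := algOf (t ≫ T.hom)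
    exact hr B (tOver t _ rfl)⟩
  nat {B C} φ t := by
    apply Subtype.ext
    rw [grFun_map_val]
    refine Eq.trans ?_ (Lw_comp K bs x φ t (t ≫ T.hom) rfl)
    exact Lw_congr K bs x _ _ _ _ _

theorem gfam_map {T T' : Over (Spec (CommRingCat.of R))} (g : T' ⟶ T)
    (x : 𝒬.subsF.obj (op ((Over.map v).obj T))) (hr : RankOf K bs x d)
    (hr' : RankOf K bs (𝒬.subsF.map ((Over.map v).map g).op x) d) :
    gfam K bs (𝒬.subsF.map ((Over.map v).map g).op x) hr' = (gfam K bs x hr).pull g.left := by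
  apply Fam.ext
  funext B t
  apply Subtype.ext
  refine (Lw_map K bs x g t (t ≫ T'.hom) rfl).trans ?_
  exact Lw_congr K bs x _ _ _ _ _

section toGr

variable {Gr : Scheme.{u}} (r : Rep (grFun.{u} J d) Gr)

/-- the point of the Grassmannian given by a section -/
noncomputable def toGr {T : Over (Spec (CommRingCat.of R))} (x : 𝒬.subsF.obj (op ((Over.map v).obj T)))
    (hr : RankOf K bs x d) : T.left ⟶ Gr := (r.homEquiv T.left).symm (gfam K bs x hr)

theorem fam_toGr {T : Over (Spec (CommRingCat.of R))} (x : 𝒬.subsF.obj (op ((Over.map v).obj T)))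
    (hr : RankOf K bs x d) : r.fam (toGr K bs r x hr) = gfam K bs x hr := (r.homEquiv T.left).apply_symm_apply _

theorem toGr_map {T T' : Over (Spec (CommRingCat.of R))} (g : T' ⟶ T)
    (x : 𝒬.subsF.obj (op ((Over.map v).obj T))) (hr : RankOf K bs x d)
    (hr' : RankOf K bs (𝒬.subsF.map ((Over.map v).map g).op x) d) :
    toGr K bs r (𝒬.subsF.map ((Over.map v).map g).op x) hr' = g.left ≫ toGr K bs r x hr := by
  apply r.fam_injective
  rw [fam_toGr, r.fam_comp, fam_toGr, gfam_map K bs g x hr hr']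

variable {V : Scheme.{u}} {w : V ⟶ Spec (CommRingCat.of R)} (hr : HasRank K 𝒬 bs w d)

theorem toGr_injective (hi : IsInj K 𝒬 bs w) {T : Over V} :
    Function.Injective (fun x : 𝒬.subsF.obj (op ((Over.map v).obj ((Over.map w).obj T))) =>
      toGr K bs r x (hr T x)) := by
  intro x x' h
  have h : toGr K bs r x (hr T x) = toGr K bs r x' (hr T x') := h
  have h1 : gfam K bs x (hr T x) = gfam K bs x' (hr T x') := by
    rw [← fam_toGr K bs r, h, fam_toGr]
  refine hi T x x' fun B t => ?_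
  have h2 : (gfam K bs x (hr T x)).q t = (gfam K bs x' (hr T x')).q t := by rw [h1]
  exact congrArg Subtype.val h2

variable {N : ℕ} (c : Gr ⟶ CohB1.ProjSpace N (ULift.{u} ℤ)) [Mono c]

/-- The injection into the points of projective space. -/
noncomputable def inj (hi : IsInj K 𝒬 bs w) : Inj ((Over.map w).op ⋙ (Over.map v).op ⋙ 𝒬.subsF)
    (Over.mk (CohB1.ProjSpaceOver.toBase N V)) where
  δ {T} x := Over.homMk (Groth.Agent.Fga.QT6a.toPS (toGr K bs r x (hr T x) ≫ c) T.hom)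
    (Groth.Agent.Fga.QT6a.toPS_toBase _ _)
  nat {T T'} g x := by
    apply Over.OverMorphism.ext
    apply Groth.Agent.Fga.QT6a.PS_hom_ext
    · refine (Groth.Agent.Fga.QT6a.toPS_prZ _ _).trans ?_
      refine Eq.trans ?_ (Category.assoc _ _ _).symm
      refine Eq.trans ?_ (congrArg (g.left ≫ ·) (Groth.Agent.Fga.QT6a.toPS_prZ _ _)).symm
      rw [← Category.assoc]
      congr 1
      exact toGr_map K bs r ((Over.map w).map g) x _ _
    · refine (Groth.Agent.Fga.QT6a.toPS_toBase _ _).trans ?_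
      refine Eq.trans ?_ (Category.assoc _ _ _).symm
      refine Eq.trans ?_ (congrArg (g.left ≫ ·) (Groth.Agent.Fga.QT6a.toPS_toBase _ _)).symm
      exact (Over.w g).symm
  inj {T} x x' h := by
    apply toGr_injective K bs r hr hi
    change toGr K bs r x _ = toGr K bs r x' _
    rw [← cancel_mono c]
    have h1 := congrArg (fun z => z.left ≫ Groth.Agent.Fga.QT6a.prZ N V) h
    exact (Groth.Agent.Fga.QT6a.toPS_prZ _ _).symm.trans (h1.trans (Groth.Agent.Fga.QT6a.toPS_prZ _ _))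

end toGr

end Groth.Agent.RedSub.H646.DeltaSch
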