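import Groth.Agent.RedSub.H646.LocalBor
import Groth.Agent.RedSub.H642.GeomInt
import Groth.Agent.RedSub.H648.TypeR
import Groth.Agent.Redsub.H644.BorelClosed
import Groth.Agent.Sga3B.Parab.BorelMain165
import Groth.Agent.Sga3B.Parab.PbAll910
import Groth.Agent.Sga3B.Parab.PbK1
import Mathlib.AlgebraicGeometry.Morphisms.LocalFlatDescent

/-!
# The scheme of Borel subgroups of a reductive group scheme is smooth and projective
-/

set_option autoImplicit false
universe u

open CategoryTheory CategoryTheory.Limits AlgebraicGeometry Opposite MonoidalCategory CartesianMonoidalCategory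
  MonObj GrpObj

namespace Groth.Agent.RedSub.H646.Final

open Groth.Agent.Sga3B Groth.Agent.Books.AffBridge
open Groth.Agent.RedSub.H647.SubF Groth.Agent.RedSub.H660.Classes Groth.Agent.RedSub.H646.Glob

variable {S : Scheme.{u}} {G : Over S} [GrpObj G]

/-- The quotient by a Borel subgroup represents the functor of Borel subgroups and is proper and smooth. -/
theorem exists_rep (hG : Red.IsReductive G) {X : Scheme.{u}} (f : X ⟶ S) {H : Over X} [GrpObj H]
    (h : H ⟶ Red.bc f G) (hh : Red.IsBorel h) :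
    ∃ (A' : Over X) (q : Red.bc f G ⟶ A'),
      Nonempty (((Over.map f).op ⋙ (good_isBorel.toClass hG).subsF).RepresentableBy A') ∧ IsProper A'.hom ∧
      Smooth A'.hom ∧ Surjective q.left := by
  obtain ⟨Q, q, h1, h2, h3, -⟩ := Groth.Agent.RedSub.H672.ParProper.exists_quotient
    (RedBcAny636.isReductive_bc f hG) h (RedSub.H645.BorelEt.isParabolic_of_isBorel hh)
  exact ⟨Q, q, representableBy_borel hG f h hh q h1, h3, h2, h1.1⟩

/-- Étale-locally there is a Borel subgroup. -/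
theorem exists_etale (hG : Red.IsReductive G) (s : S) :
    ∃ (V : Scheme.{u}) (v : V ⟶ S), Etale v ∧ s ∈ Set.range v ∧ ∃ (H : Over V) (_ : GrpObj H) (h : H ⟶ Red.bc v G),
      Red.IsBorel h := by
  obtain ⟨V, v, hv, hs, B, _, b, hb⟩ := Parab.BorelMain165.main
    (Parab.PbK1.dynK1 (fun K _ _ => Parab.PbAll.k1 K)) G hG s
  exact ⟨V, v, hv, hs, B, inferInstance, b, hb⟩

/-- Étale-locally on an affine base there is a Borel subgroup over an étale algebra. -/
theorem exists_borel_specOver (hG : Red.IsReductive G) {R : Type u} [CommRing R] (v : Spec (CommRingCat.of R) ⟶ S)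
    (p : Spec (CommRingCat.of R)) :
    ∃ (R₀ : Type u) (_ : CommRing R₀) (_ : Algebra R R₀), Etale (SpecOver R R₀).hom ∧
      p ∈ Set.range (SpecOver R R₀).hom ∧ ∃ (B₀ : Over (SpecOver R R₀).left) (_ : GrpObj B₀)
        (b₀ : B₀ ⟶ Red.bc ((SpecOver R R₀).hom ≫ v) G), Red.IsBorel b₀ := by
  obtain ⟨B, _, v', hv', hp, T, _, i, -, -, P, gP, b, hb, -⟩ := Parab.BorelMain165.exists_isBorel_etale
    (Parab.PbK1.dynK1 (fun K _ _ => Parab.PbAll.k1 K)) (Red.bc v G) (RedBcAny636.isReductive_bc v hG) p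
  obtain ⟨φ, rfl⟩ : ∃ φ, Spec.map φ = v' := ⟨Spec.preimage v', Spec.map_preimage v'⟩
  let _ : Algebra R B := φ.hom.toAlgebra
  exact ⟨B, inferInstance, inferInstance, hv', hp, P, gP, SubClass.down v b,
    (good_isBorel.down_iff v b).2 hb⟩

/-- Zariski-locally the functor of Borel subgroups is represented by a closed subscheme of a projective space. -/
theorem exists_good (hG : Red.IsReductive G) (s : S) :
    ∃ (V : Scheme.{u}) (j : V ⟶ S), IsOpenImmersion j ∧ s ∈ Set.range j ∧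
      GoodAt (good_isBorel.toClass hG).subsF j := by
  obtain ⟨W, hW, hsW, -⟩ := exists_isAffineOpen_mem_and_subset (x := s) (U := ⊤) trivial
  let v : Spec Γ(S, W) ⟶ S := hW.fromSpec
  have hvo : IsOpenImmersion v := hW.isOpenImmersion_fromSpec
  have hsv : s ∈ Set.range v := by
    rw [hW.range_fromSpec]
    exact hsW
  obtain ⟨p, rfl⟩ := hsv
  obtain ⟨R₀, _, _, he, ⟨q, hq⟩, B₀, _, b₀, hb₀⟩ := exists_borel_specOver hG (R := Γ(S, W)) v p
  have h1 : IsAffineHom G.hom := hG.1
  have h2 : Smooth G.hom := hG.2.1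
  obtain ⟨V, hV, hgood⟩ := LocalBor.exists_local (good_isBorel.toClass hG) (good_isBorel.toClass_isLocal hG) v he b₀ hb₀
    hb₀.2.2.1 (fun s => (hb₀.2.2.2 s).2.2.2.1) (fun {_} _ _ _ K {_} _ _ x₁ => BorelConj.locConj_borel K hG x₁)
    (fun {_} f {_} _ h hh => by
      obtain ⟨A', q, h3, h4, -⟩ := exists_rep hG f h hh
      exact ⟨A', h3, h4⟩) q
  refine ⟨V, V.ι ≫ v, inferInstance, ⟨⟨_, hV⟩, ?_⟩, hgood⟩
  rw [Scheme.Hom.comp_apply, ← hq]
  rfl

/-- **The scheme of Borel subgroups.** -/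
theorem main (hG : Red.IsReductive G) :
    ∃ (M : Over S) (H : Over M.left) (_ : GrpObj H) (h : H ⟶ Red.bc M.hom G), RedSub.RepresentsBor G M H h ∧
      Smooth M.hom ∧ IsProper M.hom ∧ RedSub.IsLocallyProjective M ∧
      ∀ s : S, IsIntegral (Red.geomFibre s M).left := by
  let 𝒬 := good_isBorel.toClass hG
  obtain ⟨M, ⟨rM⟩, hprop, hproj⟩ := exists_global (𝒬.isEtSheaf_subsF (good_isBorel.toClass_isLocal hG))
    (exists_good hG)
  have hsm : Smooth M.hom := 𝒬.prop_of_representableBy @Smooth rM fun s => by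
    obtain ⟨V, v, h1, h2, H, _, h, hh⟩ := exists_etale hG s
    obtain ⟨A', q, h3, h4, h5, -⟩ := exists_rep hG v h hh
    exact ⟨V, v, h1, h2, A', h3, h5⟩
  obtain ⟨H, _, h, hM⟩ := 𝒬.exists_represents rM
  refine ⟨M, H, inferInstance, h, ⟨?_, ?_⟩, hsm, hprop, hproj, ?_⟩
  · exact RedSub.H648.TypeR.isBorelSub_of_isBorel (RedBcAny636.isReductive_bc M.hom hG) hM.1
  · intro S' f H' _ h' hh'
    exact hM.2 S' f H' h' (Groth.Agent.Redsub.H644.BorelClosed.isBorel_of_isBorelSub
      (RedBcAny636.isReductive_bc f hG) hh')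
  · refine RedSub.H642.GeomInt.isIntegral_geomFibre G hG M hsm fun s => ?_
    obtain ⟨V, v, h1, h2, H, _, h, hh⟩ := exists_etale hG s
    obtain ⟨A', q, ⟨r⟩, h4, h5, h6⟩ := exists_rep hG v h hh
    let e : A' ≅ Red.bc v M := r.uniqueUpToIso (RepDescent.repBC v rM)
    refine ⟨V, v, h1, h2, q ≫ e.hom, ?_⟩
    have h7 : IsIso e.hom.left := inferInstanceAs (IsIso ((Over.forget _).map e.hom))
    rw [Over.comp_left]
    infer_instance

end Groth.Agent.RedSub.H646.Final
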