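import Groth.Agent.Sga3B.RepDescent9
import Groth.Agent.Dix.ProjProper
import Groth.Prelude.Def_RedSub

/-!
# Gluing: representability by a locally projective scheme is local on the base
-/

set_option autoImplicit false

universe u

open CategoryTheory CategoryTheory.Limits AlgebraicGeometry Opposite

namespace Groth.Agent.RedSub.H646.Glob

open Groth.Agent.Sga3B Groth.Agent.Sga3B.RepDescent

variable {S : Scheme.{u}}

/-- `Over.map` of a composition. -/
noncomputable def mapIso {V W : Scheme.{u}} (f : W ⟶ V) (g : V ⟶ S) (h : W ⟶ S) (w : f ≫ g = h) (T : Over W) :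
    (Over.map h).obj T ≅ (Over.map g).obj ((Over.map f).obj T) :=
  Over.isoMk (Iso.refl _) (by
    change 𝟙 _ ≫ (T.hom ≫ f) ≫ g = T.hom ≫ h
    rw [Category.id_comp, ← w, Category.assoc])

/-- `Over.map` of a composition. -/
noncomputable def mapOpIso {V W : Scheme.{u}} (f : W ⟶ V) (g : V ⟶ S) (h : W ⟶ S) (w : f ≫ g = h)
    (F : (Over S)ᵒᵖ ⥤ Type u) : (Over.map f).op ⋙ (Over.map g).op ⋙ F ≅ (Over.map h).op ⋙ F :=
  NatIso.ofComponents (fun T => F.mapIso (mapIso f g h w T.unop).op) (by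
    intro T T' φ
    change F.map _ ≫ F.map _ = F.map _ ≫ F.map _
    rw [← F.map_comp, ← F.map_comp]
    congr 1)

/-- A representable presheaf has an atlas. -/
noncomputable def atlasOfRep {F : (Over S)ᵒᵖ ⥤ Type u} {W : Over S} (r : F.RepresentableBy W) : Atlas F where
  ι := PUnit.{u + 1}
  W _ := W
  w _ := r.homEquiv (𝟙 W)
  injective _ R m m' h := by
    apply r.homEquiv.injective
    have e : ∀ m : R ⟶ W, F.map m.op (r.homEquiv (𝟙 W)) = r.homEquiv m := fun m => by
      rw [← r.homEquiv_comp, Category.comp_id]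
    rw [← e, ← e]
    exact h
  opens _ _ _ := ⊤
  exists_iff T y _ R g := by
    refine ⟨fun _ _ _ => trivial, fun _ => ⟨r.homEquiv.symm (F.map g.op y), ?_⟩⟩
    rw [← r.homEquiv_comp, Category.comp_id, Equiv.apply_symm_apply]
  cover _ _ _ := ⟨PUnit.unit, trivial⟩

/-- `F` is represented over `V` by a closed subscheme of a projective space. -/
def GoodAt (F : (Over S)ᵒᵖ ⥤ Type u) {V : Scheme.{u}} (j : V ⟶ S) : Prop :=
  ∃ (N : ℕ) (Z : Over V) (i : Z.left ⟶ CohB1.ProjSpaceOver N V), IsClosedImmersion i ∧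
    i ≫ CohB1.ProjSpaceOver.toBase N V = Z.hom ∧ Nonempty (((Over.map j).op ⋙ F).RepresentableBy Z)

/-- **Gluing.** -/
theorem exists_global {F : (Over S)ᵒᵖ ⥤ Type u} (hF : IsEtSheaf F)
    (h : ∀ s : S, ∃ (V : Scheme.{u}) (j : V ⟶ S), IsOpenImmersion j ∧ s ∈ Set.range j ∧ GoodAt F j) :
    ∃ M : Over S, Nonempty (F.RepresentableBy M) ∧ IsProper M.hom ∧ RedSub.IsLocallyProjective M := by
  choose S' j hj hs n Z i hi hin r using h
  have hr : ∀ s, Set.range (j s) = Set.range (j s).opensRange.ι := fun s => by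
    rw [Scheme.Opens.range_ι]
    rfl
  let k : ∀ s, ((j s).opensRange : Scheme.{u}) ≅ S' s := fun s =>
    (IsOpenImmersion.isoOfRangeEq (j s) (j s).opensRange.ι (hr s)).symm
  have hk : ∀ s, (k s).hom ≫ j s = (j s).opensRange.ι := fun s =>
    IsOpenImmersion.isoOfRangeEq_inv_fac _ _ (hr s)
  have ha : ∀ s, Nonempty (Atlas ((Over.map (j s).opensRange.ι).op ⋙ F)) := by
    intro s
    obtain ⟨r₀⟩ := r s
    exact ⟨atlasOfRep ((repBC (k s).hom r₀).ofIso (mapOpIso (k s).hom (j s) _ (hk s) F))⟩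
  obtain ⟨M, ⟨rM⟩⟩ := exists_representableBy_of_atlas (Atlas.glue (fun s => (j s).opensRange)
    (fun s => ⟨s, hs s⟩) fun s => (ha s).some) hF
  have key : ∀ s : S, ∃ e : (Red.bc (j s) M).left ⟶ CohB1.ProjSpaceOver (n s) (S' s),
        IsClosedImmersion e ∧ e ≫ CohB1.ProjSpaceOver.toBase (n s) (S' s) = (Red.bc (j s) M).hom := by
    intro s
    obtain ⟨r₀⟩ := r s
    have := hi s
    let ε : Red.bc (j s) M ≅ Z s := (repBC (j s) rM).uniqueUpToIso r₀
    have h1 : IsIso ε.hom.left := inferInstanceAs (IsIso ((Over.forget _).map ε.hom))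
    refine ⟨ε.hom.left ≫ i s, inferInstance, ?_⟩
    rw [Category.assoc, hin]
    exact Over.w ε.hom
  choose e he hen using key
  let 𝒰 : S.OpenCover :=
    { I₀ := S
      X := S'
      f := j
      mem₀ := by
        rw [Scheme.presieve₀_mem_precoverage_iff]
        exact ⟨fun s => ⟨s, hs s⟩, fun s => hj s⟩ }
  refine ⟨M, ⟨rM⟩, ?_, ?_⟩
  · refine IsZariskiLocalAtTarget.of_openCover (P := @IsProper) 𝒰 fun s => ?_
    have h1 : IsProper (e s ≫ CohB1.ProjSpaceOver.toBase (n s) (S' s)) := inferInstance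
    rw [hen s] at h1
    exact h1
  · intro s
    have := hj s
    have := he s
    refine ⟨(j s).opensRange, hs s, n s, ?_⟩
    let a : pullback M.hom (j s).opensRange.ι ⟶ pullback M.hom (j s) :=
      pullback.map _ _ _ _ (𝟙 _) (k s).hom (𝟙 _) (by simp) (by rw [hk, Category.comp_id])
    have ha : a ≫ pullback.snd M.hom (j s) = pullback.snd M.hom (j s).opensRange.ι ≫ (k s).hom :=
      pullback.lift_snd _ _ _
    have hai : IsIso a := inferInstance
    have hmi : IsIso (Dix.ProjProper.mapBase (n s) (k s).inv) :=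
      MorphismProperty.of_isPullback (P := MorphismProperty.isomorphisms Scheme)
        (Dix.ProjProper.isPullback_mapBase (n s) (k s).inv).flip inferInstance
    refine ⟨a ≫ e s ≫ Dix.ProjProper.mapBase (n s) (k s).inv, inferInstance, ?_⟩
    rw [Category.assoc, Category.assoc, Dix.ProjProper.mapBase_toBase, ← Category.assoc (e s), hen s]
    change a ≫ pullback.snd M.hom (j s) ≫ (k s).inv = _
    rw [← Category.assoc, ha, Category.assoc, Iso.hom_inv_id, Category.comp_id]
    rfl

end Groth.Agent.RedSub.H646.Glob
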