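import Groth.Agent.RedSub.H646.StabIdeal
import Groth.Agent.RedSub.H646.DeltaRing

/-!
# Infinitesimal neighbourhoods of the unit: points, conjugation, truncation of conditions
-/

set_option autoImplicit false

universe u

open TensorProduct
open Groth.Agent.Sga3B.Cell

namespace Groth.Agent.RedSub.H646.InfPt

open Groth.Agent.RedSub.H646.StabIdeal Groth.Agent.RedSub.H646.DeltaRing

variable {R A : Type u} [CommRing R] [CommRing A] [Algebra R A] [PtGrp R A]
variable {B C : Type u} [CommRing B] [Algebra R B] [CommRing C] [Algebra R C]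

/-- The point `c` lies in the `n`-th infinitesimal neighbourhood of the unit. -/
def Inf (n : ℕ) (c : Pt R A C) : Prop := Kill (aug R A ^ (n + 1)) c

theorem Inf.map {n : ℕ} {c : Pt R A B} (hc : Inf n c) (φ : B →ₐ[R] C) : Inf n (Pt.map φ c) := Kill.map hc φ

theorem one_hom_apply (a : A) : (1 : Pt R A C).hom a = algebraMap R C ((1 : Pt R A R).hom a) := by
  have h := Pt.map_one (A := A) (Algebra.ofId R C)
  rw [← h, Pt.map_hom_apply]
  rfl

theorem map_mk_eq_one (c : Pt R A C) (I : Ideal C) (h : (aug R A).map c.hom ≤ I) :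
    Pt.map (Ideal.Quotient.mkₐ R I) c = 1 := by
  apply Pt.ext
  intro a
  rw [Pt.map_hom_apply, one_hom_apply]
  have h1 : a - algebraMap R A ((1 : Pt R A R).hom a) ∈ aug R A := by
    rw [aug, RingHom.mem_ker, map_sub]
    change (1 : Pt R A R).hom a - (1 : Pt R A R).hom (algebraMap R A ((1 : Pt R A R).hom a)) = 0
    rw [AlgHom.commutes]
    exact sub_self _
  have h2 : c.hom (a - algebraMap R A ((1 : Pt R A R).hom a)) ∈ I := h (Ideal.mem_map_of_mem _ h1)
  rw [map_sub, AlgHom.commutes] at h2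
  have h3 := Ideal.Quotient.eq.2 h2
  change Ideal.Quotient.mk I (c.hom a) = _
  rw [h3]
  rfl

theorem inf_conj {n : ℕ} (g c : Pt R A C) (hc : Inf n c) : Inf n (g * c * g⁻¹) := by
  let I : Ideal C := (aug R A).map c.hom
  have h1 : Pt.map (Ideal.Quotient.mkₐ R I) (g * c * g⁻¹) = 1 := by
    rw [Pt.map_mul, Pt.map_mul, Pt.map_inv, map_mk_eq_one c I le_rfl]
    group
  have h2 : (aug R A).map (g * c * g⁻¹).hom ≤ I := by
    rw [Ideal.map_le_iff_le_comap]
    intro a ha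
    have h3 := congrArg (fun z : Pt R A (C ⧸ I) => z.hom a) h1
    simp only [Pt.map_hom_apply] at h3
    rw [one_hom_apply] at h3
    have h4 : (1 : Pt R A R).hom a = 0 := ha
    rw [h4, map_zero] at h3
    rw [Ideal.mem_comap]
    exact (Ideal.Quotient.eq_zero_iff_mem (I := I)).1 h3
  have h5 : (aug R A ^ (n + 1)).map c.hom = ⊥ := by
    rw [eq_bot_iff, Ideal.map_le_iff_le_comap]
    intro a ha
    exact hc a ha
  have h6 : (aug R A ^ (n + 1)).map (g * c * g⁻¹).hom ≤ ⊥ := by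
    rw [Ideal.map_pow, ← h5, Ideal.map_pow]
    exact Ideal.pow_right_mono h2 _
  intro a ha
  exact h6 (Ideal.mem_map_of_mem _ ha)

theorem inf_conj' {n : ℕ} (g c : Pt R A C) (hc : Inf n c) : Inf n (g⁻¹ * c * g) := by
  have h := inf_conj g⁻¹ c hc
  rwa [inv_inv] at h

/-- The coordinate ring of the infinitesimal neighbourhood. -/
abbrev Wn (R A : Type u) [CommRing R] [CommRing A] [Algebra R A] [PtGrp R A] (n : ℕ) : Type u :=
  A ⧸ aug R A ^ (n + 1)

/-- a point of the neighbourhood as a point of `A` -/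
def toPt {n : ℕ} (γ : Wn R A n →ₐ[R] C) : Pt R A C := Pt.mk (γ.comp (Ideal.Quotient.mkₐ R _))

theorem inf_toPt {n : ℕ} (γ : Wn R A n →ₐ[R] C) : Inf n (toPt γ) := by
  intro a ha
  change γ (Ideal.Quotient.mk _ a) = 0
  rw [Ideal.Quotient.eq_zero_iff_mem.2 ha, map_zero]

/-- a point in the neighbourhood as a point of `Wn` -/
def ofPt {n : ℕ} (c : Pt R A C) (hc : Inf n c) : Wn R A n →ₐ[R] C := Ideal.Quotient.liftₐ _ c.hom hc

@[simp] theorem toPt_ofPt {n : ℕ} (c : Pt R A C) (hc : Inf n c) : toPt (ofPt c hc) = c := rfl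

theorem toPt_injective {n : ℕ} : Function.Injective (toPt (n := n) : (Wn R A n →ₐ[R] C) → Pt R A C) := by
  intro γ γ' h
  apply AlgHom.ext
  intro x
  obtain ⟨a, rfl⟩ := Ideal.Quotient.mk_surjective x
  exact congrArg (fun z : Pt R A C => z.hom a) h

theorem toPt_comp {n : ℕ} (χ : B →ₐ[R] C) (γ : Wn R A n →ₐ[R] B) : toPt (χ.comp γ) = Pt.map χ (toPt γ) := rfl

/-- truncation of a condition on points of `A` -/
def trunc (n : ℕ) (E : Cond R A B) : Cond R (Wn R A n) B := fun C _ _ φ γ => E C φ (toPt γ)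

theorem IsRep.trunc {E : Cond R A B} {I : Ideal (B ⊗[R] A)} (h : IsRep E I) (n : ℕ) :
    IsRep (trunc n E) (I.map (Algebra.TensorProduct.map (AlgHom.id R B)
      (Ideal.Quotient.mkₐ R (aug R A ^ (n + 1))))) := by
  intro C _ _ φ γ
  have key : ∀ x : B ⊗[R] A, lft φ γ (Algebra.TensorProduct.map (AlgHom.id R B)
      (Ideal.Quotient.mkₐ R (aug R A ^ (n + 1))) x) = lft φ (toPt γ) x := by
    intro x
    induction x using TensorProduct.induction_on with
    | zero => rw [map_zero, map_zero, map_zero]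
    | tmul b a =>
      rw [Algebra.TensorProduct.map_tmul, Algebra.TensorProduct.lift_tmul, Algebra.TensorProduct.lift_tmul]
      rfl
    | add a b ha hb => rw [map_add, map_add, map_add, ha, hb]
  change E C φ (toPt γ) ↔ _
  rw [h]
  constructor
  · intro h1
    have h2 : I.map (Algebra.TensorProduct.map (AlgHom.id R B)
      (Ideal.Quotient.mkₐ R (aug R A ^ (n + 1)))) ≤ RingHom.ker (lft φ γ) := by
      rw [Ideal.map_le_iff_le_comap]
      intro x hx
      rw [Ideal.mem_comap, RingHom.mem_ker, key]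
      exact h1 x hx
    exact fun x hx => h2 hx
  · intro h1 x hx
    rw [← key]
    exact h1 _ (Ideal.mem_map_of_mem _ hx)

theorem trunc_bc (n : ℕ) (E : Cond R A B) (ψ : B →ₐ[R] C) : trunc n (E.bc ψ) = (trunc n E).bc ψ := rfl

/-- The conjugate by `g` of the condition `E` (over `R₀`), as a condition over `B`. -/
def conjE {R₀ : Type u} [CommRing R₀] [Algebra R R₀] (E : Cond R A R₀) (ρ : R₀ →ₐ[R] B) (g : Pt R A B) :
    Cond R A B := fun C _ _ φ c => E C (φ.comp ρ) ((Pt.map φ g)⁻¹ * Pt.mk c * Pt.map φ g)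

theorem exists_isRep_conjE {R₀ : Type u} [CommRing R₀] [Algebra R R₀] {E : Cond R A R₀} {I : Ideal (R₀ ⊗[R] A)}
    (h : IsRep E I) (ρ : R₀ →ₐ[R] B) (g : Pt R A B) : ∃ I' : Ideal (B ⊗[R] A), IsRep (conjE E ρ g) I' := by
  let gD : Pt R A (B ⊗[R] A) := Pt.map Algebra.TensorProduct.includeLeft g
  let aD : Pt R A (B ⊗[R] A) := Pt.mk Algebra.TensorProduct.includeRight
  let x : Pt R A (B ⊗[R] A) := gD⁻¹ * aD * gD
  let κ : R₀ ⊗[R] A →ₐ[R] B ⊗[R] A := lft ((Algebra.TensorProduct.includeLeft).comp ρ) x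
  refine ⟨I.map κ, fun C _ _ φ c => ?_⟩
  have e1 : (lft φ c).comp (Algebra.TensorProduct.includeLeft : B →ₐ[R] B ⊗[R] A) = φ :=
    Algebra.TensorProduct.lift_comp_includeLeft _ _ _
  have e2 : Pt.map (lft φ c) aD = Pt.mk c :=
    Algebra.TensorProduct.lift_comp_includeRight φ c (fun _ _ => Commute.all _ _)
  have e3 : Pt.map (lft φ c) x = (Pt.map φ g)⁻¹ * Pt.mk c * Pt.map φ g := by
    simp only [x, Pt.map_mul, Pt.map_inv, e2, gD, Pt.map_map, e1]
  have e4 : ∀ y, lft φ c (κ y) = lft (φ.comp ρ) ((Pt.map φ g)⁻¹ * Pt.mk c * Pt.map φ g) y := by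
    intro y
    rw [← comp_lft]
    have e5 : (lft φ c).comp ((Algebra.TensorProduct.includeLeft : B →ₐ[R] B ⊗[R] A).comp ρ) = φ.comp ρ := by
      rw [← AlgHom.comp_assoc, e1]
    rw [e5, ← e3]
    rfl
  change E C (φ.comp ρ) _ ↔ _
  rw [h]
  constructor
  · intro h1
    have h2 : I.map κ ≤ RingHom.ker (lft φ c) := by
      rw [Ideal.map_le_iff_le_comap]
      intro y hy
      rw [Ideal.mem_comap, RingHom.mem_ker, e4]
      exact h1 y hy
    exact fun y hy => h2 hy
  · intro h1 y hy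
    rw [← e4]
    exact h1 _ (Ideal.mem_map_of_mem _ hy)

open Groth.Agent.Fga.GrassBasic in
/-- Conjugation does not change the rank. -/
theorem isQuotRank_conjE {R₀ : Type u} [CommRing R₀] [Algebra R R₀] {E : Cond R A R₀} {I : Ideal (R₀ ⊗[R] A)}
    (h : IsRep E I) {n : ℕ} {ι : Type} [Fintype ι] (bs : Gen ι R (Wn R A n)) {d : ℕ}
    (hd : IsQuotRank d (Lsub bs (trunc n E))) (ρ : R₀ →ₐ[R] B) (g : Pt R A B) :
    IsQuotRank d (Lsub bs (trunc n (conjE E ρ g))) := by
  obtain ⟨I', hI'⟩ := exists_isRep_conjE h ρ g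
  have h1 : IsQuotRank d (Lsub bs (trunc n (E.bc ρ))) := by
    rw [trunc_bc, Lsub_bc (IsRep.trunc h n)]
    exact hd.bc _
  refine isQuotRank_of_conj (bs := bs) (IsRep.trunc (h.bc ρ) n) (IsRep.trunc hI' n)
    (fun C _ _ φ γ => ofPt (Pt.map φ g * toPt γ * (Pt.map φ g)⁻¹) (inf_conj _ _ (inf_toPt γ)))
    (fun C _ _ φ γ => ofPt ((Pt.map φ g)⁻¹ * toPt γ * Pt.map φ g) (inf_conj' _ _ (inf_toPt γ)))
    ?_ ?_ ?_ ?_ ?_ ?_ h1
  · intro C D _ _ _ _ χ φ γ
    apply toPt_injective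
    change Pt.map (χ.comp φ) g * toPt (χ.comp γ) * (Pt.map (χ.comp φ) g)⁻¹ =
      Pt.map χ (Pt.map φ g * toPt γ * (Pt.map φ g)⁻¹)
    rw [toPt_comp, ← Pt.map_map, Pt.map_mul, Pt.map_mul, Pt.map_inv]
  · intro C D _ _ _ _ χ φ γ
    apply toPt_injective
    change (Pt.map (χ.comp φ) g)⁻¹ * toPt (χ.comp γ) * Pt.map (χ.comp φ) g =
      Pt.map χ ((Pt.map φ g)⁻¹ * toPt γ * Pt.map φ g)
    rw [toPt_comp, ← Pt.map_map, Pt.map_mul, Pt.map_mul, Pt.map_inv]
  · intro C _ _ φ γ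
    apply toPt_injective
    rw [toPt_ofPt, toPt_ofPt]
    group
  · intro C _ _ φ γ
    apply toPt_injective
    rw [toPt_ofPt, toPt_ofPt]
    group
  · intro C _ _ φ γ hE
    have e : (Pt.map φ g)⁻¹ * (Pt.map φ g * toPt γ * (Pt.map φ g)⁻¹) * Pt.map φ g = toPt γ := by group
    have hE' : E C (φ.comp ρ) (toPt γ) := hE
    rw [← e] at hE'
    exact hE'
  · intro C _ _ φ γ hE
    exact hE

end Groth.Agent.RedSub.H646.InfPt
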