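import Groth.Agent.RedSub.H646.SubAlg
import Groth.Agent.RedSub.H646.RankRing
import Groth.Agent.RedSub.H646.BorelConj
import Groth.Agent.RedSub.H646.LocalRep
import Groth.Agent.RedSub.H646.Glob
import Groth.Agent.RedSub.H672.ParProper

/-!
# Local projectivity of the scheme of Borel subgroups
-/

set_option autoImplicit false
universe u

open CategoryTheory CategoryTheory.Limits AlgebraicGeometry Opposite MonoidalCategory CartesianMonoidalCategory
  MonObj GrpObj
open TensorProduct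
open Groth.Agent.Sga3B.Cell

namespace Groth.Agent.RedSub.H646.LocalBor

open Groth.Agent.RedSub.H647.SubPt Groth.Agent.RedSub.H647.SubF Groth.Agent.RedSub.H646.DeltaRing
  Groth.Agent.RedSub.H646.InfPt Groth.Agent.RedSub.H646.PtsRep Groth.Agent.RedSub.H646.DeltaSch
  Groth.Agent.RedSub.H646.LocConj Groth.Agent.RedSub.H646.ConjInf Groth.Agent.RedSub.H646.SubAlg
  Groth.Agent.RedSub.H646.Glob
  Groth.Agent.Sga3B Groth.Agent.Sga3B.BcPts Groth.Agent.Sga3B.MT
open Groth.Agent.Books.AffBridge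
open Groth.Agent.Fga.GrassBasic

variable {S : Scheme.{u}} {R : Type u} [CommRing R]

/-- An affine scheme over `Spec R` is the spectrum of an algebra. -/
theorem exists_specOver (X : Over (Spec (CommRingCat.of R))) [IsAffine X.left] :
    ∃ (A : Type u) (_ : CommRing A) (_ : Algebra R A), Nonempty (X ≅ SpecOver R A) := by
  let A := Γ(X.left, ⊤)
  let φ : CommRingCat.of R ⟶ A := Spec.preimage (X.left.isoSpec.inv ≫ X.hom)
  let _ : Algebra R A := φ.hom.toAlgebra
  refine ⟨A, inferInstance, inferInstance, ⟨Over.isoMk X.left.isoSpec ?_⟩⟩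
  change X.left.isoSpec.hom ≫ Spec.map φ = X.hom
  rw [Spec.map_preimage, Iso.hom_inv_id_assoc]

theorem smooth_of_iso {X : Over (Spec (CommRingCat.of R))} [Smooth X.hom] {A : Type u} [CommRing A] [Algebra R A]
    (e : X ≅ SpecOver R A) : Algebra.Smooth R A := by
  have h0 : IsIso e.inv.left := inferInstanceAs (IsIso ((Over.forget _).map e.inv))
  have h3 : Smooth (SpecOver R A).hom := by
    rw [← Over.w e.inv]
    infer_instance
  have h1 : Smooth (Spec.map (CommRingCat.ofHom (algebraMap R A))) := h3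
  have h2 := (HasRingHomProperty.Spec_iff (P := @Smooth)).1 h1
  exact RingHom.smooth_algebraMap.1 h2

theorem detects_bc {A : Type u} [CommRing A] [Algebra R A] [PtGrp R A] {R₀ R₁ : Type u} [CommRing R₀] [Algebra R R₀]
    [CommRing R₁] [Algebra R R₁] {E E' : Cond R A R₀} {n : ℕ} (h : Detects E E' n) (ρ₁ : R₀ →ₐ[R] R₁) :
    Detects (E.bc ρ₁) (E'.bc ρ₁) n :=
  fun B _ _ ρ g hg => h B (ρ.comp ρ₁) g hg

variable {G : Over S} [GrpObj G] {R₀ : Type u} [CommRing R₀] [Algebra R R₀]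

/-- A model: `R₁` étale over `R`, a section over `Spec R₁` with detection and constant rank. -/
theorem exists_model (𝒬 : SubClass G) [IsAffineHom G.hom] [Smooth G.hom] (v : Spec (CommRingCat.of R) ⟶ S)
    (he : Etale (SpecOver R R₀).hom) {B₀ : Over (SpecOver R R₀).left} [GrpObj B₀]
    (b₀ : B₀ ⟶ Red.bc ((SpecOver R R₀).hom ≫ v) G) (hQ : 𝒬.Q ((SpecOver R R₀).hom ≫ v) b₀)
    (hs : Smooth B₀.hom) (hc : ∀ s, ConnectedSpace (Red.geomFibre s B₀).left) (q : Spec (CommRingCat.of R₀)) :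
    ∃ (A : Type u) (_ : CommRing A) (_ : Algebra R A) (_ : PtGrp R A) (K : AffChart v G A) (n : ℕ)
      (k : ℕ) (bs : Gen (Fin k) R (Wn R A n)) (d : ℕ) (R₁ : Type u) (_ : CommRing R₁) (_ : Algebra R R₁)
      (x₁ : 𝒬.subsF.obj (op ((Over.map v).obj (SpecOver R R₁)))),
      Etale (SpecOver R R₁).hom ∧ (SpecOver R R₀).hom q ∈ Set.range (SpecOver R R₁).hom ∧
      Detects (condX K x₁ (𝟙 _)) (condX K x₁ (𝟙 _)) n ∧
      IsQuotRank d (Lsub bs (trunc n (condX K x₁ (𝟙 _)))) := by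
  have hmon : IsMonHom b₀ := 𝒬.isMonHom hQ
  have hcl : IsClosedImmersion b₀.left := 𝒬.isClosedImmersion hQ
  have hpa : IsAffineHom (pullback.snd G.hom v) := MorphismProperty.pullback_snd _ _ inferInstance
  have haf : IsAffine (Red.bc v G).left := isAffine_of_isAffineHom (pullback.snd G.hom v)
  have hsm : Smooth (Red.bc v G).hom := inferInstanceAs (Smooth (pullback.snd G.hom v))
  obtain ⟨A, _, _, ⟨e⟩⟩ := exists_specOver (Red.bc v G)
  have hA : Algebra.Smooth R A := smooth_of_iso e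
  let _ : PtGrp R A := ptGrpOf e
  let K : AffChart v G A := AffChart.ofIso e
  let x₀ : 𝒬.subsF.obj (op ((Over.map v).obj (SpecOver R R₀))) :=
    𝒬.ofSub (T := (Over.map v).obj (SpecOver R R₀)) hQ
  have hx₀ : condX K x₀ (𝟙 _) = cond K b₀ (𝟙 _) := condX_ofSub K hQ (𝟙 _)
  obtain ⟨I, hI⟩ := exists_isRep K b₀ (𝟙 _)
  have hs' : Smooth (sH B₀) := hs
  have haf' : IsAffineHom (sH B₀) := by
    have h1 : sH B₀ = b₀.left ≫ pullback.snd G.hom ((SpecOver R R₀).hom ≫ v) := (left_snd b₀).symm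
    have h2 : IsAffineHom (pullback.snd G.hom ((SpecOver R R₀).hom ≫ v)) :=
      MorphismProperty.pullback_snd _ _ inferInstance
    have h3 : IsAffineHom b₀.left := inferInstance
    rw [h1]
    exact MorphismProperty.comp_mem @IsAffineHom _ _ h3 h2
  have hint : ∀ (L : Type u) [Field L] [IsAlgClosed L] (ξ : Spec (CommRingCat.of L) ⟶ Spec (CommRingCat.of R₀)),
      IsIntegral (pullback (sH B₀) ξ) := by
    intro L _ _ ξ
    have h1 : IsAffineHom B₀.hom := haf'
    exact Parab.IrrFib.isIntegral_fibre B₀ hc ξ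
  have hafB : IsAffine B₀.left := isAffine_of_isAffineHom (sH B₀)
  obtain ⟨n, hn⟩ := exists_detects_of K b₀ haf' hI hs' hint
  have hfin := RankRing.finite_Wn (R := R) (A := A) n
  obtain ⟨k, ⟨bs⟩⟩ := exists_gen R (Wn R A n)
  have hO := smooth_quot K b₀ hI hs'
  obtain ⟨g, hg, d, hd⟩ := RankRing.exists_rank hI (cond_one K b₀) bs q
  let R₁ := Localization.Away g
  let ρ₁ : R₀ →ₐ[R] R₁ := IsScalarTower.toAlgHom R R₀ R₁
  let x₁ : 𝒬.subsF.obj (op ((Over.map v).obj (SpecOver R R₁))) :=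
    𝒬.subsF.map ((Over.map v).map (specMap R ρ₁)).op x₀
  have hx₁ : condX K x₁ (𝟙 _) = (cond K b₀ (𝟙 _)).bc ρ₁ := by
    rw [condX_map, Category.id_comp, ← hx₀, ← condX_bc, Category.comp_id]
  have hopen : IsOpenImmersion (specMap R ρ₁).left :=
    inferInstanceAs (IsOpenImmersion (Spec.map (CommRingCat.ofHom (algebraMap R₀ (Localization.Away g)))))
  have hw : (SpecOver R R₁).hom = (specMap R ρ₁).left ≫ (SpecOver R R₀).hom := (Over.w (specMap R ρ₁)).symm
  refine ⟨A, inferInstance, inferInstance, inferInstance, K, n, k, bs, d, R₁, inferInstance, inferInstance, x₁,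
    ?_, ?_, ?_, ?_⟩
  · rw [hw]
    infer_instance
  · have h1 : q ∈ Set.range (PrimeSpectrum.comap (algebraMap R₀ (Localization.Away g))) := by
      rw [PrimeSpectrum.localization_away_comap_range (Localization.Away g) g]
      exact hg
    obtain ⟨q', hq'⟩ := h1
    refine ⟨q', ?_⟩
    rw [hw, Scheme.Hom.comp_apply]
    exact congrArg _ hq'
  · rw [hx₁]
    exact detects_bc hn ρ₁
  · rw [hx₁, trunc_bc, Lsub_bc (IsRep.trunc hI n)]
    exact hd

/-- Lifting an étale morphism to its open image. -/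
theorem exists_lift_image {X Y : Scheme.{u}} (f : X ⟶ Y) [Etale f] :
    ∃ (V : Y.Opens) (p : X ⟶ (V : Scheme.{u})), (V : Set Y) = Set.range f ∧ Etale p ∧ Surjective p ∧ p ≫ V.ι = f := by
  let O : Y.Opens := ⟨Set.range f, f.isOpenMap.isOpen_range⟩
  let q : X ⟶ (O : Scheme.{u}) := RepDescent.liftU O f subset_rfl
  have hq : q ≫ O.ι = f := RepDescent.liftU_ι _ _ _
  have hqe : Etale q := by
    have h1 : Etale (q ≫ O.ι) := by rw [hq]; infer_instance
    exact Etale.of_comp q O.ι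
  have hqs : Surjective q := ⟨by
    rintro ⟨_, x, rfl⟩
    refine ⟨x, ?_⟩
    apply O.ι.isOpenEmbedding.injective
    rw [← Scheme.Hom.comp_apply, hq]
    rfl⟩
  exact ⟨O, q, rfl, hqe, hqs, hq⟩

/-- **Local representability by a closed subscheme of a projective space.** -/
theorem exists_local (𝒬 : SubClass G) (hloc : 𝒬.IsLocal (fun {_ _ _} q => SubClass.EtCov q))
    [IsAffineHom G.hom] [Smooth G.hom] (v : Spec (CommRingCat.of R) ⟶ S)
    (he : Etale (SpecOver R R₀).hom) {B₀ : Over (SpecOver R R₀).left} [GrpObj B₀]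
    (b₀ : B₀ ⟶ Red.bc ((SpecOver R R₀).hom ≫ v) G) (hQ : 𝒬.Q ((SpecOver R R₀).hom ≫ v) b₀)
    (hs : Smooth B₀.hom) (hc : ∀ s, ConnectedSpace (Red.geomFibre s B₀).left)
    (hconj : ∀ {A : Type u} [CommRing A] [Algebra R A] [PtGrp R A] (K : AffChart v G A) {R₁ : Type u} [CommRing R₁]
      [Algebra R R₁] (x₁ : 𝒬.subsF.obj (op ((Over.map v).obj (SpecOver R R₁)))),
      LocConj.LocConj K (fun _ : Unit => x₁))
    (hrep : ∀ {X : Scheme.{u}} (f : X ⟶ S) {H : Over X} [GrpObj H] (h : H ⟶ Red.bc f G), 𝒬.Q f h →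
      ∃ A' : Over X, Nonempty (((Over.map f).op ⋙ 𝒬.subsF).RepresentableBy A') ∧ IsProper A'.hom)
    (q : Spec (CommRingCat.of R₀)) :
    ∃ V : (Spec (CommRingCat.of R)).Opens, (SpecOver R R₀).hom q ∈ V ∧ GoodAt 𝒬.subsF (V.ι ≫ v) := by
  obtain ⟨A, _, _, _, K, n, k, bs, d, R₁, _, _, x₁, he₁, hq, hn, hd⟩ := exists_model 𝒬 v he b₀ hQ hs hc q
  obtain ⟨V, p, hV, hpe, hps, hpV⟩ := exists_lift_image (SpecOver R R₁).hom
  have hrange : ∀ x : V, V.ι x ∈ Set.range (SpecOver R R₁).hom := by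
    intro x
    rw [← hV]
    exact x.2
  have hL := hconj K x₁
  have hi : IsInj K 𝒬 bs V.ι := isInj K bs hloc he₁ hrange hL fun _ _ => hn
  have hr : HasRank K 𝒬 bs V.ι d := hasRank K bs he₁ hrange hL fun _ => hd
  obtain ⟨B₁, _, b₁, hQ₁, -⟩ := 𝒬.exists_ofSub x₁
  obtain ⟨A', ⟨r⟩, hA'⟩ := hrep ((SpecOver R R₁).hom ≫ v) b₁ hQ₁
  let r' := (r.ofIso (mapOpIso (SpecOver R R₁).hom v _ rfl 𝒬.subsF).symm).ofIso
    (mapOpIso p V.ι (SpecOver R R₁).hom hpV ((Over.map v).op ⋙ 𝒬.subsF)).symm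
  obtain ⟨N, Z, i, hi', hiZ, ⟨rZ⟩⟩ := LocalRep.exists_closed_rep K 𝒬 bs hloc hr hi p r'
  refine ⟨V, ?_, N, Z, i, hi', hiZ, ⟨rZ.ofIso (mapOpIso V.ι v _ rfl 𝒬.subsF)⟩⟩
  change _ ∈ (V : Set (Spec (CommRingCat.of R)))
  rw [hV]
  exact hq

end Groth.Agent.RedSub.H646.LocalBor
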