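import Groth.Agent.RedSub.H646.DeltaAll
import Groth.Agent.RedSub.H646.LocalBor

/-!
# Local projectivity of the functor of subgroups of a class with finitely many local models
-/

set_option autoImplicit false
universe u

open CategoryTheory CategoryTheory.Limits AlgebraicGeometry Opposite MonoidalCategory CartesianMonoidalCategory
  MonObj GrpObj
open TensorProduct
open Groth.Agent.Sga3B.Cell

namespace Groth.Agent.RedSub.H646.LocalAll

open Groth.Agent.RedSub.H647.SubPt Groth.Agent.RedSub.H647.SubF Groth.Agent.RedSub.H646.DeltaRing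
  Groth.Agent.RedSub.H646.InfPt Groth.Agent.RedSub.H646.PtsRep Groth.Agent.RedSub.H646.DeltaSch
  Groth.Agent.RedSub.H646.LocConj Groth.Agent.RedSub.H646.ConjInf Groth.Agent.RedSub.H646.SubAlg
  Groth.Agent.RedSub.H646.Glob Groth.Agent.RedSub.H646.LocalBor Groth.Agent.RedSub.H646.DeltaAll
  Groth.Agent.Sga3B Groth.Agent.Sga3B.BcPts Groth.Agent.Sga3B.MT
open Groth.Agent.Books.AffBridge
open Groth.Agent.Fga.GrassBasic

variable {S : Scheme.{u}} {R : Type u} [CommRing R] {R₀ : Type u} [CommRing R₀] [Algebra R R₀]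

/-- **Projectivity of the infinitesimal neighbourhoods.** -/
theorem projective_Lsub {A : Type u} [CommRing A] [Algebra R A] [PtGrp R A] {E : Cond R A R₀}
    {I : Ideal (R₀ ⊗[R] A)} (hE : IsRep E I)
    (h1 : E R₀ (AlgHom.id R R₀) (1 : Pt R A R₀).hom) [Algebra.Smooth R₀ ((R₀ ⊗[R] A) ⧸ I)] {n : ℕ} {J : Type}
    [Fintype J] (bs : Gen J R (Wn R A n)) : Module.Projective R₀ ((J → R₀) ⧸ Lsub bs (trunc n E)) := by
  obtain ⟨ε, hε⟩ := exists_algHom hE R₀ (1 : Pt R A R₀) h1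
  have hT := IsRep.trunc hE n
  obtain ⟨e⟩ := RankRing.exists_equiv_inf hE ε hε hT
  have h2 : Module.Projective R₀ (((R₀ ⊗[R] A) ⧸ I) ⧸ RingHom.ker ε ^ (n + 1)) :=
    Groth.Agent.Sga3A.SmoothSection.projective_quotient_pow ε n
  exact Module.Projective.of_equiv ((quotEquiv hT).trans e).symm

variable {G : Over S} [GrpObj G]

theorem exists_models (𝒬 : SubClass G) [IsAffineHom G.hom] [Smooth G.hom] (v : Spec (CommRingCat.of R) ⟶ S)
    {κ : Type*} [Finite κ] {B₀ : κ → Over (SpecOver R R₀).left} [∀ k, GrpObj (B₀ k)]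
    (b₀ : ∀ k, B₀ k ⟶ Red.bc ((SpecOver R R₀).hom ≫ v) G) (hQ : ∀ k, 𝒬.Q ((SpecOver R R₀).hom ≫ v) (b₀ k))
    (hs : ∀ k, Smooth (B₀ k).hom) (hc : ∀ k s, ConnectedSpace (Red.geomFibre s (B₀ k)).left) :
    ∃ (A : Type u) (_ : CommRing A) (_ : Algebra R A) (_ : PtGrp R A) (K : AffChart v G A) (n : ℕ)
      (m : ℕ) (bs : Gen (Fin m) R (Wn R A n)),
      (∀ i j, Detects (condX K (𝒬.ofSub (T := (Over.map v).obj (SpecOver R R₀)) (hQ i)) (𝟙 _))
        (condX K (𝒬.ofSub (T := (Over.map v).obj (SpecOver R R₀)) (hQ j)) (𝟙 _)) n) ∧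
      ∀ i, Module.Projective R₀ ((Fin m → R₀) ⧸
        Lsub bs (trunc n (condX K (𝒬.ofSub (T := (Over.map v).obj (SpecOver R R₀)) (hQ i)) (𝟙 _)))) := by
  have hpa : IsAffineHom (pullback.snd G.hom v) := MorphismProperty.pullback_snd _ _ inferInstance
  have haf : IsAffine (Red.bc v G).left := isAffine_of_isAffineHom (pullback.snd G.hom v)
  have hsm : Smooth (Red.bc v G).hom := inferInstanceAs (Smooth (pullback.snd G.hom v))
  obtain ⟨A, _, _, ⟨e⟩⟩ := exists_specOver (Red.bc v G)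
  have hA : Algebra.Smooth R A := smooth_of_iso e
  let _ : PtGrp R A := ptGrpOf e
  let K : AffChart v G A := AffChart.ofIso e
  have hmon : ∀ k, IsMonHom (b₀ k) := fun k => 𝒬.isMonHom (hQ k)
  have hcl : ∀ k, IsClosedImmersion (b₀ k).left := fun k => 𝒬.isClosedImmersion (hQ k)
  have hcond : ∀ k, condX K (𝒬.ofSub (T := (Over.map v).obj (SpecOver R R₀)) (hQ k)) (𝟙 _) =
      cond K (b₀ k) (𝟙 _) := fun k => condX_ofSub K (hQ k) (𝟙 _)
  have hI : ∀ k, ∃ I : Ideal (R₀ ⊗[R] A), IsRep (cond K (b₀ k) (𝟙 _)) I := fun k => exists_isRep K (b₀ k) (𝟙 _)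
  choose I hI using hI
  have hs' : ∀ k, Smooth (sH (B₀ k)) := hs
  have haf' : ∀ k, IsAffineHom (sH (B₀ k)) := by
    intro k
    have h1 : sH (B₀ k) = (b₀ k).left ≫ pullback.snd G.hom ((SpecOver R R₀).hom ≫ v) := (left_snd (b₀ k)).symm
    have h2 : IsAffineHom (pullback.snd G.hom ((SpecOver R R₀).hom ≫ v)) :=
      MorphismProperty.pullback_snd _ _ inferInstance
    have h3 : IsAffineHom (b₀ k).left := inferInstance
    rw [h1]
    exact MorphismProperty.comp_mem @IsAffineHom _ _ h3 h2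
  have hint : ∀ (k : κ) (L : Type u) [Field L] [IsAlgClosed L]
      (ξ : Spec (CommRingCat.of L) ⟶ Spec (CommRingCat.of R₀)), IsIntegral (pullback (sH (B₀ k)) ξ) := by
    intro k L _ _ ξ
    have h1 : IsAffineHom (B₀ k).hom := haf' k
    exact Parab.IrrFib.isIntegral_fibre (B₀ k) (hc k) ξ
  have hafB : ∀ k, IsAffine (B₀ k).left := fun k =>
    have := haf' k
    isAffine_of_isAffineHom (sH (B₀ k))
  have hO : ∀ k, Algebra.Smooth R₀ ((R₀ ⊗[R] A) ⧸ I k) := fun k => smooth_quot K (b₀ k) (hI k) (hs' k)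
  have hdet : ∀ ij : κ × κ, ∃ n : ℕ, Detects (cond K (b₀ ij.1) (𝟙 _)) (cond K (b₀ ij.2) (𝟙 _)) n := by
    rintro ⟨i, j⟩
    have := hO i
    have := hO j
    exact exists_detects (hI i) (hI j) fg_of_smooth (cond_one K (b₀ i)) fun L _ _ _ =>
      connected_quot K (b₀ i) (haf' i) (hI i) (hs' i) (hint i) L
  choose ν hν using hdet
  obtain ⟨n, hn⟩ := (Set.finite_range ν).bddAbove
  have hfin := RankRing.finite_Wn (R := R) (A := A) n
  obtain ⟨m, ⟨bs⟩⟩ := exists_gen R (Wn R A n)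
  refine ⟨A, inferInstance, inferInstance, inferInstance, K, n, m, bs, fun i j => ?_, fun i => ?_⟩
  · rw [hcond i, hcond j]
    exact (hν (i, j)).mono (hn ⟨(i, j), rfl⟩)
  · have := hO i
    rw [hcond i]
    exact projective_Lsub (hI i) (cond_one K (b₀ i)) bs

/-- **Local representability by a closed subscheme of a projective space**, finitely many models over an étale affine
scheme `Spec R₀ → Spec R`; the open subset is the image of `Spec R₀`. -/
theorem exists_open (𝒬 : SubClass G) (hloc : 𝒬.IsLocal (fun {_ _ _} q => SubClass.EtCov q))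
    [IsAffineHom G.hom] [Smooth G.hom] (v : Spec (CommRingCat.of R) ⟶ S)
    (he : Etale (SpecOver R R₀).hom) {κ : Type*} [Finite κ] {B₀ : κ → Over (SpecOver R R₀).left}
    [∀ k, GrpObj (B₀ k)]
    (b₀ : ∀ k, B₀ k ⟶ Red.bc ((SpecOver R R₀).hom ≫ v) G) (hQ : ∀ k, 𝒬.Q ((SpecOver R R₀).hom ≫ v) (b₀ k))
    (hs : ∀ k, Smooth (B₀ k).hom) (hc : ∀ k s, ConnectedSpace (Red.geomFibre s (B₀ k)).left)
    (hconj : ∀ {A : Type u} [CommRing A] [Algebra R A] [PtGrp R A] (K : AffChart v G A),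
      LocConj.LocConj K (fun k => 𝒬.ofSub (T := (Over.map v).obj (SpecOver R R₀)) (hQ k)))
    (hrep : ∃ A' : Over (SpecOver R R₀).left,
      Nonempty (((Over.map ((SpecOver R R₀).hom ≫ v)).op ⋙ 𝒬.subsF).RepresentableBy A') ∧ IsProper A'.hom) :
    ∃ V : (Spec (CommRingCat.of R)).Opens, (V : Set (Spec (CommRingCat.of R))) = Set.range (SpecOver R R₀).hom ∧
      GoodAt 𝒬.subsF (V.ι ≫ v) := by
  obtain ⟨A, _, _, _, K, n, m, bs, hn, hd⟩ := exists_models 𝒬 v b₀ hQ hs hc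
  obtain ⟨V, p, hV, hpe, hps, hpV⟩ := exists_lift_image (SpecOver R R₀).hom
  have hrange : ∀ x : V, V.ι x ∈ Set.range (SpecOver R R₀).hom := by
    intro x
    rw [← hV]
    exact x.2
  have hL := hconj K
  have hi : IsInj K 𝒬 bs V.ι := isInj K bs hloc he hrange hL hn
  have hr : HasProj K 𝒬 bs V.ι := hasProj K bs he hrange hL hd
  obtain ⟨A', ⟨r⟩, hA'⟩ := hrep
  let r' := (r.ofIso (mapOpIso (SpecOver R R₀).hom v _ rfl 𝒬.subsF).symm).ofIso
    (mapOpIso p V.ι (SpecOver R R₀).hom hpV ((Over.map v).op ⋙ 𝒬.subsF)).symm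
  obtain ⟨N, Z, i, hi', hiZ, ⟨rZ⟩⟩ := DeltaAll.exists_closed_rep K bs 𝒬 hloc hr hi p r'
  exact ⟨V, hV, N, Z, i, hi', hiZ, ⟨rZ.ofIso (mapOpIso V.ι v _ rfl 𝒬.subsF)⟩⟩

/-- **Local projectivity**, finitely many models. -/
theorem exists_local_all (𝒬 : SubClass G) (hloc : 𝒬.IsLocal (fun {_ _ _} q => SubClass.EtCov q))
    [IsAffineHom G.hom] [Smooth G.hom] (v : Spec (CommRingCat.of R) ⟶ S)
    (he : Etale (SpecOver R R₀).hom) {κ : Type*} [Finite κ] {B₀ : κ → Over (SpecOver R R₀).left}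
    [∀ k, GrpObj (B₀ k)]
    (b₀ : ∀ k, B₀ k ⟶ Red.bc ((SpecOver R R₀).hom ≫ v) G) (hQ : ∀ k, 𝒬.Q ((SpecOver R R₀).hom ≫ v) (b₀ k))
    (hs : ∀ k, Smooth (B₀ k).hom) (hc : ∀ k s, ConnectedSpace (Red.geomFibre s (B₀ k)).left)
    (hconj : ∀ {A : Type u} [CommRing A] [Algebra R A] [PtGrp R A] (K : AffChart v G A),
      LocConj.LocConj K (fun k => 𝒬.ofSub (T := (Over.map v).obj (SpecOver R R₀)) (hQ k)))
    (hrep : ∃ A' : Over (SpecOver R R₀).left,
      Nonempty (((Over.map ((SpecOver R R₀).hom ≫ v)).op ⋙ 𝒬.subsF).RepresentableBy A') ∧ IsProper A'.hom)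
    (s : Spec (CommRingCat.of R)) (hs' : s ∈ Set.range (SpecOver R R₀).hom) :
    ∃ V : (Spec (CommRingCat.of R)).Opens, s ∈ V ∧ GoodAt 𝒬.subsF (V.ι ≫ v) := by
  obtain ⟨V, hV, hg⟩ := exists_open 𝒬 hloc v he b₀ hQ hs hc hconj hrep
  refine ⟨V, ?_, hg⟩
  change s ∈ (V : Set (Spec (CommRingCat.of R)))
  rw [hV]
  exact hs'

end Groth.Agent.RedSub.H646.LocalAll
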