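import Groth.Agent.Fga.GrassBasic
import Mathlib.LinearAlgebra.Matrix.Rank
import Mathlib.LinearAlgebra.Matrix.DotProduct

/-!
# A submodule and its orthogonal

For `L ⊆ B^J` with projective quotient, `dbl L = L ⊞ L^⊥ ⊆ B^(J ⊕ J)` has projective quotient of constant rank `|J|`,
is compatible with base change and determines `L`.
-/

set_option autoImplicit false
set_option linter.unusedSectionVars false

universe u

open Groth.Agent.Fga.GrassBasic Matrix

namespace Groth.Agent.RedSub.H646.Perp

variable {B C : Type u} [CommRing B] [CommRing C] {J J' : Type} [Fintype J] [Fintype J']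

/-- The orthogonal of a submodule of `B^J`. -/
def perp (L : Submodule B (J → B)) : Submodule B (J → B) where
  carrier := {v | ∀ u ∈ L, v ⬝ᵥ u = 0}
  add_mem' {v w} hv hw := by
    intro u hu
    rw [add_dotProduct, hv u hu, hw u hu, add_zero]
  zero_mem' := by
    intro u _
    rw [zero_dotProduct]
  smul_mem' b v hv := by
    intro u hu
    rw [smul_dotProduct, hv u hu, smul_zero]

theorem mem_perp {L : Submodule B (J → B)} {v : J → B} : v ∈ perp L ↔ ∀ u ∈ L, v ⬝ᵥ u = 0 := Iff.rfl

/-- The external sum. -/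
def esum (L : Submodule B (J → B)) (M : Submodule B (J' → B)) : Submodule B (J ⊕ J' → B) :=
  L.comap (LinearMap.funLeft B B Sum.inl) ⊓ M.comap (LinearMap.funLeft B B Sum.inr)

theorem mem_esum {L : Submodule B (J → B)} {M : Submodule B (J' → B)} {w : J ⊕ J' → B} :
    w ∈ esum L M ↔ (w ∘ Sum.inl) ∈ L ∧ (w ∘ Sum.inr) ∈ M := Iff.rfl

/-- The double. -/
def dbl (L : Submodule B (J → B)) : Submodule B (J ⊕ J → B) := esum L (perp L)

theorem elim_mem_esum {L : Submodule B (J → B)} {M : Submodule B (J' → B)} {x : J → B} {y : J' → B} :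
    Sum.elim x y ∈ esum L M ↔ x ∈ L ∧ y ∈ M := by
  rw [mem_esum, Sum.elim_comp_inl, Sum.elim_comp_inr]

theorem dbl_injective {L L' : Submodule B (J → B)} (h : dbl L = dbl L') : L = L' := by
  ext x
  have h1 : (Sum.elim x 0 : J ⊕ J → B) ∈ dbl L ↔ (Sum.elim x 0 : J ⊕ J → B) ∈ dbl L' := by rw [h]
  rw [dbl, dbl, elim_mem_esum, elim_mem_esum] at h1
  constructor
  · intro hx
    exact (h1.1 ⟨hx, Submodule.zero_mem _⟩).1
  · intro hx
    exact (h1.2 ⟨hx, Submodule.zero_mem _⟩).1

/-- Base change of an external sum. -/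
theorem bc_esum (φ : B →+* C) (L : Submodule B (J → B)) (M : Submodule B (J' → B)) :
    bc φ (esum L M) = esum (bc φ L) (bc φ M) := by
  apply le_antisymm
  · rw [bc_le_iff]
    intro w hw
    exact ⟨mem_bc_of_mem φ hw.1, mem_bc_of_mem φ hw.2⟩
  · intro w hw
    let il : (J → C) →ₗ[C] (J ⊕ J' → C) :=
      { toFun := fun x => Sum.elim x 0
        map_add' := fun x y => by ext (i | i) <;> simp
        map_smul' := fun c x => by ext (i | i) <;> simp }
    let ir : (J' → C) →ₗ[C] (J ⊕ J' → C) :=
      { toFun := fun x => Sum.elim 0 x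
        map_add' := fun x y => by ext (i | i) <;> simp
        map_smul' := fun c x => by ext (i | i) <;> simp }
    have hl : bc φ L ≤ (bc φ (esum L M)).comap il := by
      rw [bc_le_iff]
      intro x hx
      have h1 : (Sum.elim x 0 : J ⊕ J' → B) ∈ esum L M := elim_mem_esum.2 ⟨hx, Submodule.zero_mem _⟩
      have h2 := mem_bc_of_mem φ h1
      have h3 : (fun i => φ ((Sum.elim x 0 : J ⊕ J' → B) i)) = il (fun i => φ (x i)) := by
        ext (i | i)
        · rfl
        · exact map_zero φ
      rw [h3] at h2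
      exact h2
    have hr : bc φ M ≤ (bc φ (esum L M)).comap ir := by
      rw [bc_le_iff]
      intro x hx
      have h1 : (Sum.elim 0 x : J ⊕ J' → B) ∈ esum L M := elim_mem_esum.2 ⟨Submodule.zero_mem _, hx⟩
      have h2 := mem_bc_of_mem φ h1
      have h3 : (fun i => φ ((Sum.elim 0 x : J ⊕ J' → B) i)) = ir (fun i => φ (x i)) := by
        ext (i | i)
        · exact map_zero φ
        · rfl
      rw [h3] at h2
      exact h2
    have h1 : il (w ∘ Sum.inl) ∈ bc φ (esum L M) := hl hw.1
    have h2 : ir (w ∘ Sum.inr) ∈ bc φ (esum L M) := hr hw.2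
    have h3 := Submodule.add_mem _ h1 h2
    have h4 : il (w ∘ Sum.inl) + ir (w ∘ Sum.inr) = w := by
      ext (i | i)
      · change w (Sum.inl i) + 0 = _
        rw [add_zero]
      · change 0 + w (Sum.inr i) = _
        rw [zero_add]
    rwa [h4] at h3

/-- The quotient by an external sum. -/
noncomputable def quotEsum (L : Submodule B (J → B)) (M : Submodule B (J' → B)) :
    ((J ⊕ J' → B) ⧸ esum L M) ≃ₗ[B] (((J → B) ⧸ L) × ((J' → B) ⧸ M)) :=
  (Submodule.quotEquivOfEq (esum L M) (LinearMap.ker
    ((L.mkQ.comp (LinearMap.funLeft B B Sum.inl)).prod (M.mkQ.comp (LinearMap.funLeft B B Sum.inr)))) (by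
      rw [LinearMap.ker_prod, LinearMap.ker_comp, LinearMap.ker_comp, Submodule.ker_mkQ, Submodule.ker_mkQ]
      rfl)).trans
    (LinearMap.quotKerEquivOfSurjective _ (by
      rintro ⟨x, y⟩
      obtain ⟨x, rfl⟩ := Submodule.mkQ_surjective _ x
      obtain ⟨y, rfl⟩ := Submodule.mkQ_surjective _ y
      exact ⟨Sum.elim x y, rfl⟩))

section idem

variable [DecidableEq J] {N : Matrix J J B}

theorem ker_eq_range (hN : N * N = N) : LinearMap.ker N.mulVecLin = LinearMap.range (1 - N).mulVecLin := by
  ext v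
  rw [LinearMap.mem_ker, LinearMap.mem_range, mulVecLin_apply]
  constructor
  · intro hv
    refine ⟨v, ?_⟩
    rw [mulVecLin_apply, sub_mulVec, one_mulVec, hv, sub_zero]
  · rintro ⟨w, rfl⟩
    rw [mulVecLin_apply, mulVec_mulVec, mul_sub, mul_one, hN, sub_self, zero_mulVec]

theorem bc_range (φ : B →+* C) (N : Matrix J J B) :
    bc φ (LinearMap.range N.mulVecLin) = LinearMap.range (N.map φ).mulVecLin := by
  have key : ∀ x : J → B, (fun i => φ ((N *ᵥ x) i)) = (N.map φ) *ᵥ (fun i => φ (x i)) := by
    intro x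
    ext i
    exact RingHom.map_mulVec φ N x i
  apply le_antisymm
  · rw [bc_le_iff]
    rintro _ ⟨x, rfl⟩
    rw [mulVecLin_apply, key]
    exact ⟨_, rfl⟩
  · rintro _ ⟨w, rfl⟩
    have h1 : w = ∑ j, w j • (Pi.single j (1 : C) : J → C) := by
      ext i
      rw [Finset.sum_apply, Finset.sum_eq_single i]
      · rw [Pi.smul_apply, Pi.single_eq_same, smul_eq_mul, mul_one]
      · intro j _ hj
        rw [Pi.smul_apply, Pi.single_eq_of_ne (Ne.symm hj), smul_zero]
      · intro hi
        exact absurd (Finset.mem_univ i) hi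
    rw [h1, map_sum]
    refine Submodule.sum_mem _ fun j _ => ?_
    rw [map_smul]
    refine Submodule.smul_mem _ _ ?_
    have h2 : (Pi.single j (1 : C) : J → C) = fun i => φ ((Pi.single j (1 : B) : J → B) i) := by
      ext i
      by_cases h : i = j
      · subst h
        rw [Pi.single_eq_same, Pi.single_eq_same, map_one]
      · rw [Pi.single_eq_of_ne h, Pi.single_eq_of_ne h, map_zero]
    rw [mulVecLin_apply, h2, ← key]
    exact mem_bc_of_mem φ ⟨_, rfl⟩

theorem map_idem (φ : B →+* C) (hN : N * N = N) : N.map φ * N.map φ = N.map φ := by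
  rw [← Matrix.map_mul, hN]

theorem map_one_sub (φ : B →+* C) (N : Matrix J J B) : (1 - N).map φ = 1 - N.map φ := by
  rw [Matrix.map_sub φ (map_sub φ), Matrix.map_one φ (map_zero φ) (map_one φ)]

theorem one_sub_idem (hN : N * N = N) : (1 - N) * (1 - N) = 1 - N := by
  rw [mul_sub, mul_one, sub_mul, one_mul, hN, sub_self, sub_zero]

theorem transpose_idem (hN : N * N = N) : Nᵀ * Nᵀ = Nᵀ := by
  rw [← transpose_mul, hN]

theorem bc_ker (φ : B →+* C) (hN : N * N = N) :
    bc φ (LinearMap.ker N.mulVecLin) = LinearMap.ker (N.map φ).mulVecLin := by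
  rw [ker_eq_range hN, bc_range, map_one_sub, ker_eq_range (map_idem φ hN)]

theorem perp_ker (hN : N * N = N) :
    perp (LinearMap.ker N.mulVecLin) = LinearMap.ker (1 - Nᵀ).mulVecLin := by
  ext v
  rw [mem_perp, ker_eq_range hN, LinearMap.mem_ker, mulVecLin_apply]
  have h0 : (1 - Nᵀ) *ᵥ v = v ᵥ* (1 - N) := by
    rw [← mulVec_transpose, transpose_sub, transpose_one]
  rw [h0]
  constructor
  · intro h
    apply dotProduct_eq_zero
    intro w
    rw [← dotProduct_mulVec]
    exact h _ ⟨w, rfl⟩
  · rintro h _ ⟨w, rfl⟩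
    rw [mulVecLin_apply, dotProduct_mulVec, h, zero_dotProduct]

theorem projective_quot (hN : N * N = N) : Module.Projective B ((J → B) ⧸ LinearMap.ker N.mulVecLin) := by
  refine Module.Projective.of_split ((LinearMap.ker N.mulVecLin).liftQ N.mulVecLin le_rfl)
    (LinearMap.ker N.mulVecLin).mkQ ?_
  apply Submodule.linearMap_qext
  refine LinearMap.ext fun v => ?_
  change (Submodule.Quotient.mk (N *ᵥ v) : (J → B) ⧸ LinearMap.ker N.mulVecLin) = Submodule.Quotient.mk v
  rw [Submodule.Quotient.eq, LinearMap.mem_ker, map_sub, mulVecLin_apply, mulVecLin_apply, mulVec_mulVec, hN,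
    sub_self]

theorem rank_quot (hN : N * N = N) (p : PrimeSpectrum B) :
    Module.rankAtStalk (R := B) ((J → B) ⧸ LinearMap.ker N.mulVecLin) p =
      (N.map (algebraMap B p.asIdeal.ResidueField)).rank := by
  have := projective_quot hN
  let k := p.asIdeal.ResidueField
  rw [Module.rankAtStalk_eq]
  have h1 := isBaseChange_quotMap (C := k) (piMap B k J) (isBaseChange_piMap B k J) (LinearMap.ker N.mulVecLin)
  have h2 : Submodule.span k (piMap B k J '' (LinearMap.ker N.mulVecLin : Set (J → B))) =
      LinearMap.ker (N.map (algebraMap B k)).mulVecLin := bc_ker (algebraMap B k) hN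
  rw [rank, ← LinearEquiv.finrank_eq (LinearMap.quotKerEquivRange (N.map (algebraMap B k)).mulVecLin), ← h2]
  exact LinearEquiv.finrank_eq h1.equiv

end idem

/-- A submodule with projective quotient is the kernel of an idempotent. -/
theorem exists_idem [DecidableEq J] (L : Submodule B (J → B)) [Module.Projective B ((J → B) ⧸ L)] :
    ∃ N : Matrix J J B, N * N = N ∧ LinearMap.ker N.mulVecLin = L := by
  obtain ⟨s, hs⟩ := Module.projective_lifting_property L.mkQ LinearMap.id L.mkQ_surjective
  have hs' : ∀ x, L.mkQ (s x) = x := fun x => LinearMap.congr_fun hs x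
  let N := LinearMap.toMatrix' (s.comp L.mkQ)
  have hN : N.mulVecLin = s.comp L.mkQ := by
    rw [← Matrix.toLin'_apply', Matrix.toLin'_toMatrix']
  refine ⟨N, ?_, ?_⟩
  · apply Matrix.toLin'.injective
    rw [Matrix.toLin'_mul, Matrix.toLin'_apply', hN]
    refine LinearMap.ext fun v => ?_
    change s (L.mkQ (s (L.mkQ v))) = s (L.mkQ v)
    rw [hs']
  · rw [hN]
    ext v
    rw [LinearMap.mem_ker, LinearMap.comp_apply]
    constructor
    · intro h
      have h1 := congrArg L.mkQ h
      rw [hs', map_zero, Submodule.mkQ_apply, Submodule.Quotient.mk_eq_zero] at h1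
      exact h1
    · intro h
      have h1 : L.mkQ v = 0 := by
        rw [Submodule.mkQ_apply, Submodule.Quotient.mk_eq_zero]
        exact h
      rw [h1, map_zero]

theorem bc_perp (φ : B →+* C) (L : Submodule B (J → B)) [Module.Projective B ((J → B) ⧸ L)] :
    bc φ (perp L) = perp (bc φ L) := by
  classical
  obtain ⟨N, hN, rfl⟩ := exists_idem L
  rw [perp_ker hN, bc_ker φ (one_sub_idem (transpose_idem hN)), bc_ker φ hN, perp_ker (map_idem φ hN), map_one_sub,
    transpose_map]

theorem bc_dbl (φ : B →+* C) (L : Submodule B (J → B)) [Module.Projective B ((J → B) ⧸ L)] :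
    bc φ (dbl L) = dbl (bc φ L) := by
  rw [dbl, bc_esum, bc_perp, dbl]

/-- **The double has a projective quotient of constant rank `|J|`.** -/
theorem isQuotRank_dbl (L : Submodule B (J → B)) [Module.Projective B ((J → B) ⧸ L)] :
    IsQuotRank (Fintype.card J) (dbl L) := by
  classical
  obtain ⟨N, hN, hL⟩ := exists_idem L
  have hp := perp_ker hN
  rw [hL] at hp
  have hN' := one_sub_idem (transpose_idem hN)
  have h1 : Module.Projective B ((J → B) ⧸ perp L) := by
    rw [hp]
    exact projective_quot hN'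
  have e := quotEsum L (perp L)
  refine ⟨Module.Projective.of_equiv e.symm, fun p => ?_⟩
  change Module.rankAtStalk ((J ⊕ J → B) ⧸ esum L (perp L)) p = _
  rw [Module.rankAtStalk_eq_of_equiv e, Module.rankAtStalk_prod, Pi.add_apply]
  let k := p.asIdeal.ResidueField
  let N' : Matrix J J k := N.map (algebraMap B k)
  have hk : N' * N' = N' := map_idem _ hN
  have e1 : Module.rankAtStalk ((J → B) ⧸ L) p = N'.rank := by
    subst hL
    exact rank_quot hN p
  have e2 : Module.rankAtStalk ((J → B) ⧸ perp L) p = (1 - N').rank := by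
    have h3 : Module.rankAtStalk ((J → B) ⧸ perp L) p =
        Module.rankAtStalk ((J → B) ⧸ LinearMap.ker (1 - Nᵀ).mulVecLin) p := by rw [hp]
    rw [h3, rank_quot hN' p, map_one_sub, ← rank_transpose (1 - N'), transpose_sub, transpose_one, transpose_map]
  rw [e1, e2]
  have h4 := LinearMap.finrank_range_add_finrank_ker N'.mulVecLin
  rw [ker_eq_range hk, Module.finrank_fintype_fun_eq_card] at h4
  exact h4

end Groth.Agent.RedSub.H646.Perp
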