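import Groth.Agent.Fga.GrassBasic
import Mathlib.RingTheory.Finiteness.Descent
import Mathlib.RingTheory.Flat.FaithfullyFlat.Algebra
import Mathlib.Algebra.Module.FinitePresentation
import Mathlib.RingTheory.Flat.EquationalCriterion

/-!
# Faithfully flat descent of finite projective modules and of `IsQuotRank`
-/

set_option autoImplicit false

universe u

open TensorProduct
open Groth.Agent.Fga.GrassBasic

namespace Groth.Agent.RedSub.H646.ProjDesc

variable {B C : Type u} [CommRing B] [CommRing C] [Algebra B C]

theorem finitePresentation_of_faithfullyFlat [Module.FaithfullyFlat B C] (M : Type u) [AddCommGroup M] [Module B M]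
    [Module.Finite B M] [Module.FinitePresentation C (C ⊗[B] M)] : Module.FinitePresentation B M := by
  obtain ⟨n, f, hf⟩ := Module.Finite.exists_fin' B M
  let K : Submodule B (Fin n → B) := LinearMap.ker f
  let g : C ⊗[B] (Fin n → B) →ₗ[C] C ⊗[B] M := TensorProduct.AlgebraTensorModule.lTensor C C f
  have hg : Function.Surjective g := LinearMap.lTensor_surjective C hf
  have hfg : (LinearMap.ker g).FG := Module.FinitePresentation.fg_ker g hg
  let k : C ⊗[B] K →ₗ[C] C ⊗[B] (Fin n → B) := TensorProduct.AlgebraTensorModule.lTensor C C K.subtype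
  have hk : Function.Injective k :=
    Module.Flat.lTensor_preserves_injective_linearMap K.subtype K.injective_subtype
  have hex : Function.Exact (K.subtype.lTensor C) (f.lTensor C) :=
    Module.Flat.lTensor_exact C (LinearMap.exact_subtype_ker_map f)
  have hr : LinearMap.range k = LinearMap.ker g := by
    ext x
    exact (hex x).symm
  have : Module.Finite C (C ⊗[B] K) := by
    have h1 : Module.Finite C (LinearMap.range k) := by
      rw [hr, Module.Finite.iff_fg]
      exact hfg
    exact Module.Finite.equiv (LinearEquiv.ofInjective k hk).symm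
  have h2 : Module.Finite B K := Module.Finite.of_finite_tensorProduct_of_faithfullyFlat C
  exact Module.finitePresentation_of_surjective f hf (Module.Finite.iff_fg.1 h2)

theorem projective_of_faithfullyFlat [Module.FaithfullyFlat B C] (M : Type u) [AddCommGroup M] [Module B M]
    [Module.Finite B M] [Module.Projective C (C ⊗[B] M)] : Module.Projective B M := by
  have : Module.FinitePresentation C (C ⊗[B] M) := Module.finitePresentation_of_projective _ _
  have h1 : Module.FinitePresentation B M := finitePresentation_of_faithfullyFlat (C := C) M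
  have h2 : Module.Flat B M := Module.Flat.of_flat_tensorProduct B M C
  exact Module.Flat.projective_of_finitePresentation

theorem isQuotRank_of_faithfullyFlat' [Module.FaithfullyFlat B C] {ι : Type} [Finite ι] {d : ℕ}
    (L : Submodule B (ι → B)) (h : IsQuotRank d (bc (algebraMap B C) L)) : IsQuotRank d L := by
  rw [bc_eq_span] at h
  have h1 := isBaseChange_quotMap (C := C) (piMap B C ι) (isBaseChange_piMap B C ι) L
  have hp := h.proj
  have hp' : Module.Projective C (C ⊗[B] ((ι → B) ⧸ L)) := Module.Projective.of_equiv h1.equiv.symm
  have hproj : Module.Projective B ((ι → B) ⧸ L) := projective_of_faithfullyFlat (C := C) _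
  refine ⟨hproj, fun p => ?_⟩
  obtain ⟨q, hq⟩ := PrimeSpectrum.comap_surjective_of_faithfullyFlat (A := B) (B := C) p
  rw [← hq, ← Module.rankAtStalk_baseChange, Module.rankAtStalk_eq_of_equiv h1.equiv]
  exact h.rank q

theorem isQuotRank_of_faithfullyFlat {B C : Type u} [CommRing B] [CommRing C] {ι : Type} [Finite ι] {d : ℕ}
    (ψ : B →+* C) (hψ : ψ.FaithfullyFlat) (L : Submodule B (ι → B)) (h : IsQuotRank d (bc ψ L)) :
    IsQuotRank d L := by
  let _ : Algebra B C := ψ.toAlgebra
  have : Module.FaithfullyFlat B C := hψ
  exact isQuotRank_of_faithfullyFlat' (C := C) L h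

end Groth.Agent.RedSub.H646.ProjDesc
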