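import Groth.Agent.RedSub.H647.SubF
import Groth.Agent.RedSub.H646.InfPt
import Groth.Agent.Books.AffBridge

/-!
# Closed subgroups of base changes of an affine group, in terms of ring-valued points

`AffChart v G A`: `v : Spec R ⟶ S`, the points of `G` over `R`-algebras are the points of `A`.  For a closed
subscheme `h` of `G_T`, `T` over `Spec R`, and `t : Spec B ⟶ T`, the condition `cond K h t : Cond R A B` (on `C`, `B → C`,
`A → C`) is represented by an ideal of `B ⊗ A`.
-/

set_option autoImplicit false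
universe u

open CategoryTheory CategoryTheory.Limits AlgebraicGeometry Opposite MonoidalCategory CartesianMonoidalCategory
  MonObj GrpObj
open TensorProduct
open Groth.Agent.Sga3B.Cell

namespace Groth.Agent.RedSub.H646.PtsRep

open Groth.Agent.RedSub.H647.SubPt Groth.Agent.RedSub.H647.SubF Groth.Agent.RedSub.H646.DeltaRing
  Groth.Agent.RedSub.H646.InfPt Groth.Agent.Sga3B Groth.Agent.Sga3B.BcPts Groth.Agent.Sga3B.MT
open Groth.Agent.Books.AffBridge

/-- Points of a closed subscheme of an affine scheme. -/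
theorem exists_ideal_of_isClosedImmersion {D : Type u} [CommRing D] {Z : Scheme.{u}}
    (i : Z ⟶ Spec (CommRingCat.of D)) [IsClosedImmersion i] :
    ∃ I : Ideal D, ∀ (C : Type u) [CommRing C] (θ : D →+* C),
      (∃ z : Spec (CommRingCat.of C) ⟶ Z, z ≫ i = Spec.map (CommRingCat.ofHom θ)) ↔ ∀ x ∈ I, θ x = 0 := by
  obtain ⟨I, e, he⟩ := IsClosedImmersion.Spec_iff.1 ‹IsClosedImmersion i›
  refine ⟨I, fun C _ θ => ⟨?_, ?_⟩⟩
  · rintro ⟨z, hz⟩ x hx
    rw [he] at hz
    obtain ⟨ψ, hψ⟩ : ∃ ψ, z ≫ e.hom = Spec.map ψ := ⟨Spec.preimage _, (Spec.map_preimage _).symm⟩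
    rw [← Category.assoc, hψ, ← Spec.map_comp] at hz
    have h1 := Spec.map_injective hz
    have h2 : θ x = ψ.hom (Ideal.Quotient.mk I x) := by
      have := congrArg (fun q => q.hom x) h1
      exact this.symm
    rw [h2, Ideal.Quotient.eq_zero_iff_mem.2 hx, map_zero]
  · intro h
    refine ⟨Spec.map (CommRingCat.ofHom (Ideal.Quotient.lift I θ h)) ≫ e.inv, ?_⟩
    rw [he, Category.assoc, Iso.inv_hom_id_assoc, ← Spec.map_comp]
    congr 1

variable {S : Scheme.{u}} {R : Type u} [CommRing R] (v : Spec (CommRingCat.of R) ⟶ S) (G : Over S) [GrpObj G]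
  (A : Type u) [CommRing A] [Algebra R A] [PtGrp R A]

/-- The points of `G` over `R`-algebras are the points of `A`. -/
structure AffChart where
  /-- the identification -/
  pt : ∀ (C : Type u) [CommRing C] [Algebra R C], Pt R A C ≃* ((Over.map v).obj (SpecOver R C) ⟶ G)
  nat : ∀ {B C : Type u} [CommRing B] [Algebra R B] [CommRing C] [Algebra R C] (φ : B →ₐ[R] C)
    (g : Pt R A B), pt C (Pt.map φ g) = (Over.map v).map (specMap R φ) ≫ pt B g

omit [PtGrp R A] in
variable {v G A} in
/-- points of `A` as points of `G` -/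
noncomputable def ptE (e : Red.bc v G ≅ SpecOver R A) (B : Type u) [CommRing B] [Algebra R B] :
    Pt R A B ≃ ((Over.map v).obj (SpecOver R B) ⟶ G) :=
  (specEquiv R).trans
    { toFun := fun g => (bcEquiv v _ G).symm (g ≫ e.inv)
      invFun := fun g => bcEquiv v _ G g ≫ e.hom
      left_inv := fun g => by simp
      right_inv := fun g => by simp }

omit [GrpObj G] [PtGrp R A] in
variable {v G A} in
theorem ptE_nat (e : Red.bc v G ≅ SpecOver R A) {B C : Type u} [CommRing B] [Algebra R B] [CommRing C] [Algebra R C]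
    (φ : B →ₐ[R] C) (g : Pt R A B) : ptE e C (Pt.map φ g) = (Over.map v).map (specMap R φ) ≫ ptE e B g := by
  change (bcEquiv v _ G).symm (specMap R (φ.comp g.hom) ≫ e.inv) =
    (Over.map v).map (specMap R φ) ≫ (bcEquiv v _ G).symm (specMap R g.hom ≫ e.inv)
  rw [specMap_comp, Category.assoc, comp_bcEquiv_symm]

omit [PtGrp R A] in
variable {v G A} in
/-- the group structure on the points of `A` induced by an isomorphism `G_R ≅ Spec A`. -/
@[reducible] noncomputable def ptGrpOf (e : Red.bc v G ≅ SpecOver R A) : PtGrp R A where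
  grp B _ _ := (ptE e B).group
  map_mul' {B C} _ _ _ _ φ f g := by
    apply (ptE e C).injective
    have h1 : ∀ (f g : Pt R A B), ptE e B ((ptE e B).symm (ptE e B f * ptE e B g)) =
        ptE e B f * ptE e B g := fun f g => (ptE e B).apply_symm_apply _
    have h2 : ∀ (f g : Pt R A C), ptE e C ((ptE e C).symm (ptE e C f * ptE e C g)) =
        ptE e C f * ptE e C g := fun f g => (ptE e C).apply_symm_apply _
    change ptE e C (Pt.map φ ((ptE e B).symm (ptE e B f * ptE e B g))) =
      ptE e C ((ptE e C).symm (ptE e C (Pt.map φ f) * ptE e C (Pt.map φ g)))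
    rw [ptE_nat, h1, h2, ptE_nat, ptE_nat, MonObj.comp_mul]

omit [PtGrp R A] in
variable {v G A} in
/-- the chart given by `G_R ≅ Spec A` -/
noncomputable def AffChart.ofIso (e : Red.bc v G ≅ SpecOver R A) : letI := ptGrpOf e; AffChart v G A :=
  letI := ptGrpOf e
  { pt := fun B _ _ => { ptE e B with map_mul' := fun _ _ => (ptE e B).apply_symm_apply _ }
    nat := fun φ g => ptE_nat e φ g }

variable {v G A} (K : AffChart v G A)

section cond

variable {T : Over (Spec (CommRingCat.of R))} {H : Over T.left} (h : H ⟶ Red.bc (T.hom ≫ v) G)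
  {B : Type u} [CommRing B] [Algebra R B]

/-- The condition on ring-valued points defined by `h`. -/
def cond (t : SpecOver R B ⟶ T) : Cond R A B := fun C _ _ φ c =>
  Pt h ((specMap R φ).left ≫ t.left) (K.pt C (Pt.mk c)).left

theorem ptw (t : SpecOver R B ⟶ T) : (K.pt B (1 : Pt R A B)).left ≫ G.hom = t.left ≫ T.hom ≫ v := by
  have h1 := Over.w (K.pt B (1 : Pt R A B))
  have h2 : t.left ≫ T.hom = (SpecOver R B).hom := Over.w t
  rw [h1, ← Category.assoc, h2]
  rfl

theorem ptw' (t : SpecOver R B ⟶ T) (c : Pt R A B) : (K.pt B c).left ≫ G.hom = t.left ≫ T.hom ≫ v := by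
  have h1 := Over.w (K.pt B c)
  have h2 : t.left ≫ T.hom = (SpecOver R B).hom := Over.w t
  rw [h1, ← Category.assoc, h2]
  rfl

/-- The condition defined by a closed subscheme is represented by an ideal. -/
theorem exists_isRep [IsClosedImmersion h.left] (t : SpecOver R B ⟶ T) : ∃ I : Ideal (B ⊗[R] A), IsRep (cond K h t) I := by
  let aD : Pt R A (B ⊗[R] A) := Pt.mk Algebra.TensorProduct.includeRight
  let tD : SpecOver R (B ⊗[R] A) ⟶ T := specMap R Algebra.TensorProduct.includeLeft ≫ t
  let m : (SpecOver R (B ⊗[R] A)).left ⟶ pullback G.hom (T.hom ≫ v) :=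
    pullback.lift (K.pt _ aD).left tD.left (ptw' K tD aD)
  let im : pullback h.left m ⟶ Spec (CommRingCat.of (B ⊗[R] A)) := pullback.snd h.left m
  have him : IsClosedImmersion im := inferInstanceAs (IsClosedImmersion (pullback.snd h.left m))
  obtain ⟨I, hI⟩ := exists_ideal_of_isClosedImmersion im
  refine ⟨I, fun C _ _ φ c => ?_⟩
  have e1 : (lft φ c).comp (Algebra.TensorProduct.includeLeft : B →ₐ[R] B ⊗[R] A) = φ :=
    Algebra.TensorProduct.lift_comp_includeLeft _ _ _
  have e2 : Pt.map (lft φ c) aD = Pt.mk c :=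
    Algebra.TensorProduct.lift_comp_includeRight φ c (fun _ _ => Commute.all _ _)
  have e3 : (specMap R (lft φ c)).left ≫ m = pullback.lift (K.pt C (Pt.mk c)).left ((specMap R φ).left ≫ t.left)
      (ptw' K (specMap R φ ≫ t) (Pt.mk c)) := by
    apply pullback.hom_ext
    · refine (Category.assoc _ _ _).trans ((congrArg (_ ≫ ·) (pullback.lift_fst _ _ _)).trans ?_)
      refine Eq.trans ?_ (pullback.lift_fst _ _ _).symm
      rw [← e2, K.nat]
      rfl
    · refine (Category.assoc _ _ _).trans ((congrArg (_ ≫ ·) (pullback.lift_snd _ _ _)).trans ?_)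
      refine Eq.trans ?_ (pullback.lift_snd _ _ _).symm
      have h1 : specMap R (lft φ c) ≫ specMap R (Algebra.TensorProduct.includeLeft : B →ₐ[R] B ⊗[R] A) =
          specMap R φ := by
        rw [← specMap_comp, e1]
      change (specMap R (lft φ c) ≫ specMap R (Algebra.TensorProduct.includeLeft : B →ₐ[R] B ⊗[R] A) ≫ t).left = _
      rw [← Category.assoc, h1]
      rfl
  refine (pt_iff_lift h _ _ (ptw' K (specMap R φ ≫ t) (Pt.mk c))).trans ?_
  refine Iff.trans ?_ (hI C (lft φ c).toRingHom)
  constructor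
  · rintro ⟨p, hp⟩
    exact ⟨pullback.lift p (specMap R (lft φ c)).left (hp.trans e3.symm), pullback.lift_snd _ _ _⟩
  · rintro ⟨z, hz⟩
    refine ⟨z ≫ pullback.fst h.left m, ?_⟩
    refine Eq.trans ?_ e3
    rw [Category.assoc, pullback.condition, ← Category.assoc]
    exact congrArg (· ≫ m) hz

/-- Compatibility with base change. -/
theorem cond_bc {C : Type u} [CommRing C] [Algebra R C] (t : SpecOver R B ⟶ T) (ψ : B →ₐ[R] C) :
    cond K h (specMap R ψ ≫ t) = (cond K h t).bc ψ := by
  funext D _ _ φ c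
  have h1 : (specMap R φ).left ≫ (specMap R ψ ≫ t).left = (specMap R (φ.comp ψ)).left ≫ t.left := by
    rw [specMap_comp, Over.comp_left, Over.comp_left, Category.assoc]
  exact congrArg (fun z => Pt h z (K.pt D (Pt.mk c)).left) h1

end cond

end Groth.Agent.RedSub.H646.PtsRep
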