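import Groth.Agent.Sga3B.CellBase
import Mathlib.RingTheory.TensorProduct.Basic
import Mathlib.RingTheory.TensorProduct.Maps
import Mathlib.LinearAlgebra.TensorProduct.Basis
import Mathlib.Algebra.Module.Projective
import Mathlib.RingTheory.Finiteness.Ideal
import Mathlib.RingTheory.Ideal.Quotient.Operations

/-!
# Stabilisers of infinitesimal neighbourhoods of a self-normalising subgroup

`Spec A` an affine group over `R` (`PtGrp R A`), `J` an ideal defining a subgroup `Q`, `I` the augmentation ideal.
`StabN J n g`: the point `g` normalises the `n`-th infinitesimal neighbourhood of the unit in `Q`.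
If all `A / (J + I ^ (n + 1))` are projective over `R`, `J` is finitely generated, `Q` is self-normalising and
functions on `Q` are determined by their Taylor expansions at the unit (over every `R`-algebra), then there is an `n`
such that over every `R`-algebra the points with `StabN J n g` are the points of `Q`.
-/

set_option autoImplicit false

universe u

open TensorProduct
open Groth.Agent.Sga3B.Cell

namespace Groth.Agent.RedSub.H646.StabIdeal

section Kill

variable {R A B C : Type u} [CommRing R] [CommRing A] [Algebra R A] [CommRing B] [Algebra R B] [CommRing C]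
  [Algebra R C]

/-- The point `g` kills the ideal `J`. -/
def Kill (J : Ideal A) (g : Pt R A B) : Prop := ∀ j ∈ J, g.hom j = 0

theorem Kill.mono {J J' : Ideal A} (h : J ≤ J') {g : Pt R A B} (hg : Kill J' g) : Kill J g := fun j hj => hg j (h hj)

theorem Kill.map {J : Ideal A} {g : Pt R A B} (hg : Kill J g) (φ : B →ₐ[R] C) : Kill J (Pt.map φ g) := by
  intro j hj
  rw [Pt.map_hom_apply, hg j hj, map_zero]

theorem kill_span {s : Set A} {g : Pt R A B} : Kill (Ideal.span s) g ↔ ∀ x ∈ s, g.hom x = 0 := by
  constructor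
  · intro h x hx
    exact h x (Ideal.subset_span hx)
  · intro h j hj
    have h1 : Ideal.span s ≤ RingHom.ker g.hom := by
      rw [Ideal.span_le]
      intro x hx
      exact h x hx
    exact h1 hj

theorem kill_iSup {κ : Type*} {K : κ → Ideal A} {g : Pt R A B} : Kill (⨆ i, K i) g ↔ ∀ i, Kill (K i) g := by
  constructor
  · intro h i
    exact h.mono (le_iSup K i)
  · intro h
    have h1 : (⨆ i, K i) ≤ RingHom.ker g.hom := iSup_le fun i x hx => h i x hx
    exact fun j hj => h1 hj

theorem kill_sup {K K' : Ideal A} {g : Pt R A B} : Kill (K ⊔ K') g ↔ Kill K g ∧ Kill K' g := by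
  constructor
  · intro h
    exact ⟨h.mono le_sup_left, h.mono le_sup_right⟩
  · rintro ⟨h, h'⟩
    have h1 : K ⊔ K' ≤ RingHom.ker g.hom := sup_le (fun x hx => h x hx) (fun x hx => h' x hx)
    exact fun j hj => h1 hj

/-- The universal point killing `J`. -/
def uPt (R : Type u) [CommRing R] {A : Type u} [CommRing A] [Algebra R A] (J : Ideal A) : Pt R A (A ⧸ J) :=
  Pt.mk (Ideal.Quotient.mkₐ R J)

theorem kill_uPt (J : Ideal A) : Kill J (uPt R J) := by
  intro j hj
  change Ideal.Quotient.mk J j = 0
  exact Ideal.Quotient.eq_zero_iff_mem.2 hj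

theorem exists_of_kill {J : Ideal A} {g : Pt R A B} (hg : Kill J g) : ∃ φ : (A ⧸ J) →ₐ[R] B, Pt.map φ (uPt R J) = g := by
  refine ⟨Ideal.Quotient.liftₐ J g.hom hg, ?_⟩
  apply Pt.ext
  intro a
  rw [Pt.map_hom_apply]
  rfl

end Kill

section Stab

variable {R A : Type u} [CommRing R] [CommRing A] [Algebra R A] [PtGrp R A]
variable {B C : Type u} [CommRing B] [Algebra R B] [CommRing C] [Algebra R C]

variable (R A) in
/-- The augmentation ideal. -/
def aug : Ideal A := RingHom.ker (1 : Pt R A R).hom

/-- The point `g` normalises the subgroup defined by `J`. -/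
def Nor (J : Ideal A) (g : Pt R A B) : Prop :=
  ∀ (C : Type u) [CommRing C] [Algebra R C] (φ : B →ₐ[R] C) (h : Pt R A C), Kill J h →
    Kill J (Pt.map φ g * h * (Pt.map φ g)⁻¹) ∧ Kill J ((Pt.map φ g)⁻¹ * h * Pt.map φ g)

/-- The point `g` normalises the `n`-th infinitesimal neighbourhood of the unit in the subgroup defined by `J`. -/
def StabN (J : Ideal A) (n : ℕ) (g : Pt R A B) : Prop :=
  ∀ (C : Type u) [CommRing C] [Algebra R C] (φ : B →ₐ[R] C) (h : Pt R A C), Kill J h → Kill (aug R A ^ (n + 1)) h →
    Kill J (Pt.map φ g * h * (Pt.map φ g)⁻¹) ∧ Kill J ((Pt.map φ g)⁻¹ * h * Pt.map φ g)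

theorem StabN.map {J : Ideal A} {n : ℕ} {g : Pt R A B} (hg : StabN J n g) (φ : B →ₐ[R] C) : StabN J n (Pt.map φ g) := by
  intro D _ _ ψ h h1 h2
  rw [Pt.map_map]
  exact hg D (ψ.comp φ) h h1 h2

theorem StabN.anti {J : Ideal A} {m n : ℕ} (hmn : m ≤ n) {g : Pt R A B} (hg : StabN J n g) : StabN J m g := by
  intro D _ _ ψ h h1 h2
  exact hg D ψ h h1 (h2.mono (Ideal.pow_le_pow_right (by omega)))

/-- `A / (J + I ^ (n + 1))` -/
abbrev En (R : Type u) [CommRing R] {A : Type u} [CommRing A] [Algebra R A] [PtGrp R A] (J : Ideal A) (n : ℕ) :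
    Type u := A ⧸ (J ⊔ aug R A ^ (n + 1))

/-- a tensor with a projective module is detected by linear forms on it -/
theorem eq_zero_of_forms (B E : Type u) [CommRing B] [Algebra R B] [AddCommGroup E] [Module R E] [Module.Projective R E]
    (y : B ⊗[R] E) (h : ∀ l : E →ₗ[R] R, TensorProduct.rid R B (l.lTensor B y) = 0) : y = 0 := by
  obtain ⟨s, hs⟩ := Module.projective_def'.1 (inferInstance : Module.Projective R E)
  -- `s : E → (E →₀ R)` is a section
  have hinj : Function.Injective (s.lTensor B) := by
    have h1 : ((Finsupp.linearCombination R (id : E → E)).lTensor B) ∘ₗ (s.lTensor B) = LinearMap.id := by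
      rw [← LinearMap.lTensor_comp, hs, LinearMap.lTensor_id]
    intro a b hab
    have h2 := congrArg ((Finsupp.linearCombination R (id : E → E)).lTensor B) hab
    have h3 := LinearMap.congr_fun h1 a
    have h4 := LinearMap.congr_fun h1 b
    simp only [LinearMap.comp_apply, LinearMap.id_apply] at h3 h4
    rw [h3, h4] at h2
    exact h2
  apply hinj
  rw [map_zero]
  classical
  apply (TensorProduct.finsuppScalarRight R R B E).injective
  rw [map_zero]
  ext e
  have h1 := h ((Finsupp.lapply e) ∘ₗ s)
  rw [LinearMap.lTensor_comp, LinearMap.comp_apply] at h1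
  rw [Finsupp.zero_apply, ← h1]
  generalize (s.lTensor B) y = z
  induction z using TensorProduct.induction_on with
  | zero => simp
  | tmul b f =>
    simp
  | add a b ha hb => simp only [map_add, Finsupp.add_apply, ha, hb]

theorem rid_lTensor_map (E : Type u) [AddCommGroup E] [Module R E] (l : E →ₗ[R] R) (φ : B →ₐ[R] C) (y : B ⊗[R] E) :
    TensorProduct.rid R C (l.lTensor C (φ.toLinearMap.rTensor E y)) = φ (TensorProduct.rid R B (l.lTensor B y)) := by
  induction y using TensorProduct.induction_on with
  | zero => simp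
  | tmul b f => simp
  | add a b ha hb => simp only [map_add, ha, hb]

/-- The condition `StabN` is closed. -/
theorem exists_ideal (J : Ideal A) (n : ℕ) [Module.Projective R (En R J n)] :
    ∃ K : Ideal A, ∀ (B : Type u) [CommRing B] [Algebra R B] (g : Pt R A B), StabN J n g ↔ Kill K g := by
  let E := En R J n
  let hn : Pt R A E := uPt R (J ⊔ aug R A ^ (n + 1))
  have hn1 : Kill J hn := (kill_uPt _).mono le_sup_left
  have hn2 : Kill (aug R A ^ (n + 1)) hn := (kill_uPt _).mono le_sup_right
  let u : Pt R A A := Pt.mk (AlgHom.id R A)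
  let cj : ∀ (B : Type u) [CommRing B] [Algebra R B] (_ : Pt R A B), Pt R A (B ⊗[R] E) := fun B _ _ g =>
    Pt.map Algebra.TensorProduct.includeLeft g * Pt.map Algebra.TensorProduct.includeRight hn *
      (Pt.map Algebra.TensorProduct.includeLeft g)⁻¹
  let cj' : ∀ (B : Type u) [CommRing B] [Algebra R B] (_ : Pt R A B), Pt R A (B ⊗[R] E) := fun B _ _ g =>
    (Pt.map Algebra.TensorProduct.includeLeft g)⁻¹ * Pt.map Algebra.TensorProduct.includeRight hn *
      (Pt.map Algebra.TensorProduct.includeLeft g)
  -- naturality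
  have nat : ∀ (B : Type u) [CommRing B] [Algebra R B] (g : Pt R A B),
      cj B g = Pt.map (Algebra.TensorProduct.map g.hom (AlgHom.id R E)) (cj A u) := by
    intro B _ _ g
    simp only [cj, Pt.map_mul, Pt.map_inv, Pt.map_map, Algebra.TensorProduct.map_comp_includeLeft]
    have e1 : (Algebra.TensorProduct.map g.hom (AlgHom.id R E)).comp Algebra.TensorProduct.includeRight =
      Algebra.TensorProduct.includeRight := by
      ext x; simp
    rw [e1]
    rfl
  have nat' : ∀ (B : Type u) [CommRing B] [Algebra R B] (g : Pt R A B),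
      cj' B g = Pt.map (Algebra.TensorProduct.map g.hom (AlgHom.id R E)) (cj' A u) := by
    intro B _ _ g
    simp only [cj', Pt.map_mul, Pt.map_inv, Pt.map_map, Algebra.TensorProduct.map_comp_includeLeft]
    have e1 : (Algebra.TensorProduct.map g.hom (AlgHom.id R E)).comp Algebra.TensorProduct.includeRight =
      Algebra.TensorProduct.includeRight := by
      ext x; simp
    rw [e1]
    rfl
  -- universal case
  have univ : ∀ (B : Type u) [CommRing B] [Algebra R B] (g : Pt R A B),
      StabN J n g ↔ Kill J (cj B g) ∧ Kill J (cj' B g) := by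
    intro B _ _ g
    constructor
    · intro h
      exact h (B ⊗[R] E) Algebra.TensorProduct.includeLeft (Pt.map Algebra.TensorProduct.includeRight hn)
        (hn1.map _) (hn2.map _)
    · rintro ⟨h1, h2⟩ C _ _ φ h hh1 hh2
      obtain ⟨ψ, hψ⟩ := exists_of_kill (kill_sup.2 ⟨hh1, hh2⟩)
      let θ : B ⊗[R] E →ₐ[R] C := Algebra.TensorProduct.lift φ ψ (fun _ _ => Commute.all _ _)
      have e1 : θ.comp Algebra.TensorProduct.includeLeft = φ := by ext x; simp [θ]
      have e2 : θ.comp Algebra.TensorProduct.includeRight = ψ := by ext x; simp [θ]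
      have h3 := h1.map θ
      have h4 := h2.map θ
      simp only [cj, cj', Pt.map_mul, Pt.map_inv, Pt.map_map, e1, e2] at h3 h4
      rw [show Pt.map ψ hn = h from hψ] at h3 h4
      exact ⟨h3, h4⟩
  let s : Set A := {x | ∃ j ∈ J, ∃ l : E →ₗ[R] R, x = TensorProduct.rid R A (l.lTensor A ((cj A u).hom j)) ∨
    x = TensorProduct.rid R A (l.lTensor A ((cj' A u).hom j))}
  refine ⟨Ideal.span s, fun B _ _ g => ?_⟩
  rw [univ, kill_span]
  constructor
  · rintro ⟨h1, h2⟩ x ⟨j, hj, l, rfl | rfl⟩
    · rw [← rid_lTensor_map]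
      have h3 := h1 j hj
      rw [nat, Pt.map_hom_apply] at h3
      change (g.hom.toLinearMap.rTensor E) ((cj A u).hom j) = 0 at h3
      rw [h3]
      simp
    · rw [← rid_lTensor_map]
      have h3 := h2 j hj
      rw [nat', Pt.map_hom_apply] at h3
      change (g.hom.toLinearMap.rTensor E) ((cj' A u).hom j) = 0 at h3
      rw [h3]
      simp
  · intro h
    constructor
    · intro j hj
      apply eq_zero_of_forms B E
      intro l
      rw [nat, Pt.map_hom_apply]
      change TensorProduct.rid R B (l.lTensor B ((g.hom.toLinearMap.rTensor E) ((cj A u).hom j))) = 0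
      rw [rid_lTensor_map]
      exact h _ ⟨j, hj, l, Or.inl rfl⟩
    · intro j hj
      apply eq_zero_of_forms B E
      intro l
      rw [nat', Pt.map_hom_apply]
      change TensorProduct.rid R B (l.lTensor B ((g.hom.toLinearMap.rTensor E) ((cj' A u).hom j))) = 0
      rw [rid_lTensor_map]
      exact h _ ⟨j, hj, l, Or.inr rfl⟩

/-- Main result. -/
theorem exists_stabN (J : Ideal A) (hJ : J.FG) (hproj : ∀ n, Module.Projective R (En R J n))
    (hsep : ∀ (B : Type u) [CommRing B] [Algebra R B] (y : B ⊗[R] (A ⧸ J)),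
      (∀ n : ℕ, Algebra.TensorProduct.map (AlgHom.id R B)
        (Ideal.Quotient.factorₐ R (le_sup_left : J ≤ J ⊔ aug R A ^ (n + 1))) y = 0) → y = 0)
    (hnorm : ∀ (B : Type u) [CommRing B] [Algebra R B] (g : Pt R A B), Nor J g → Kill J g) :
    ∃ n : ℕ, ∀ (B : Type u) [CommRing B] [Algebra R B] (g : Pt R A B), StabN J n g → Kill J g := by
  have h0 : ∀ n, ∃ K : Ideal A, ∀ (B : Type u) [CommRing B] [Algebra R B] (g : Pt R A B), StabN J n g ↔ Kill K g :=
    fun n => exists_ideal J n
  choose K hK using h0
  have hmono : Monotone K := by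
    intro m n hmn x hx
    have h1 : Kill (K n) (uPt R (K n)) := kill_uPt _
    rw [← hK] at h1
    have h2 := (hK m _ _).1 (h1.anti hmn)
    have h3 := h2 x hx
    exact Ideal.Quotient.eq_zero_iff_mem.1 h3
  -- the universal point stabilising everything normalises `Q`
  let Kω := ⨆ n, K n
  let g : Pt R A (A ⧸ Kω) := uPt R Kω
  have hg : ∀ n, StabN J n g := fun n => (hK n _ _).2 (kill_iSup.1 (kill_uPt Kω) n)
  have hN : Nor J g := by
    let B := A ⧸ Kω
    let D := B ⊗[R] (A ⧸ J)
    let q : Pt R A (A ⧸ J) := uPt R J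
    let qD : Pt R A D := Pt.map Algebra.TensorProduct.includeRight q
    let gD : Pt R A D := Pt.map Algebra.TensorProduct.includeLeft g
    have key : Kill J (gD * qD * gD⁻¹) ∧ Kill J (gD⁻¹ * qD * gD) := by
      have h1 : ∀ n, Kill J (Pt.map (Algebra.TensorProduct.map (AlgHom.id R B)
        (Ideal.Quotient.factorₐ R (le_sup_left : J ≤ J ⊔ aug R A ^ (n + 1)))) (gD * qD * gD⁻¹)) ∧
          Kill J (Pt.map (Algebra.TensorProduct.map (AlgHom.id R B)
        (Ideal.Quotient.factorₐ R (le_sup_left : J ≤ J ⊔ aug R A ^ (n + 1)))) (gD⁻¹ * qD * gD)) := by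
        intro n
        have h2 := hg n (B ⊗[R] (En R J n)) Algebra.TensorProduct.includeLeft
          (Pt.map Algebra.TensorProduct.includeRight (uPt R (J ⊔ aug R A ^ (n + 1))))
          (((kill_uPt _).mono le_sup_left).map _) (((kill_uPt _).mono le_sup_right).map _)
        simp only [Pt.map_mul, Pt.map_inv, gD, qD, Pt.map_map]
        have e1 : (Algebra.TensorProduct.map (AlgHom.id R B)
          (Ideal.Quotient.factorₐ R (le_sup_left : J ≤ J ⊔ aug R A ^ (n + 1)))).comp
            Algebra.TensorProduct.includeLeft = Algebra.TensorProduct.includeLeft := by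
          ext x; simp
        have e2 : Pt.map ((Algebra.TensorProduct.map (AlgHom.id R B)
          (Ideal.Quotient.factorₐ R (le_sup_left : J ≤ J ⊔ aug R A ^ (n + 1)))).comp
            Algebra.TensorProduct.includeRight) q =
            Pt.map Algebra.TensorProduct.includeRight (uPt R (J ⊔ aug R A ^ (n + 1))) := by
          apply Pt.ext
          intro x
          simp [q, uPt]
        rw [e1, e2]
        exact h2
      constructor
      · intro j hj
        apply hsep
        intro n
        exact (h1 n).1 j hj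
      · intro j hj
        apply hsep
        intro n
        exact (h1 n).2 j hj
    intro C _ _ φ h hh
    obtain ⟨ψ, hψ⟩ := exists_of_kill hh
    let θ : D →ₐ[R] C := Algebra.TensorProduct.lift φ ψ (fun _ _ => Commute.all _ _)
    have e1 : θ.comp Algebra.TensorProduct.includeLeft = φ :=
      Algebra.TensorProduct.lift_comp_includeLeft _ _ _
    have e2 : θ.comp Algebra.TensorProduct.includeRight = ψ :=
      Algebra.TensorProduct.lift_comp_includeRight _ _ (fun _ _ => Commute.all _ _)
    have h3 := key.1.map θ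
    have h4 := key.2.map θ
    simp only [gD, qD, Pt.map_mul, Pt.map_inv, Pt.map_map, e1, e2] at h3 h4
    rw [show Pt.map ψ q = h from hψ] at h3 h4
    exact ⟨h3, h4⟩
  have hle : J ≤ Kω := by
    intro j hj
    exact Ideal.Quotient.eq_zero_iff_mem.1 (hnorm _ g hN j hj)
  -- `J` is finitely generated
  have : ∃ n, J ≤ K n := by
    obtain ⟨s, hs⟩ := hJ
    have h1 : ∀ x ∈ s, ∃ n, x ∈ K n := by
      intro x hx
      have h2 : x ∈ Kω := hle (hs ▸ Ideal.subset_span hx)
      exact (Submodule.mem_iSup_of_directed _ hmono.directed_le).1 h2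
    choose! f hf using h1
    refine ⟨s.sup f, ?_⟩
    rw [← hs, Ideal.span_le]
    intro x hx
    exact hmono (Finset.le_sup hx) (hf x hx)
  obtain ⟨n, hn⟩ := this
  exact ⟨n, fun B _ _ g hg => ((hK n B g).1 hg).mono hn⟩

end Stab

end Groth.Agent.RedSub.H646.StabIdeal
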