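import Groth.Agent.RedSub.H646.LocConj
import Groth.Agent.Sga3B.Parab.IrrFib
import Groth.Agent.Sga3B.MT.MemOps
import Mathlib.RingTheory.Finiteness.NilpotentKer
import Mathlib.RingTheory.FinitePresentation

/-!
# The coordinate ring of a closed subgroup over an affine base
-/

set_option autoImplicit false
universe u

open CategoryTheory CategoryTheory.Limits AlgebraicGeometry Opposite MonoidalCategory CartesianMonoidalCategory
  MonObj GrpObj
open TensorProduct
open Groth.Agent.Sga3B.Cell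

namespace Groth.Agent.RedSub.H646.SubAlg

open Groth.Agent.RedSub.H647.SubPt Groth.Agent.RedSub.H647.SubF Groth.Agent.RedSub.H646.DeltaRing
  Groth.Agent.RedSub.H646.InfPt Groth.Agent.RedSub.H646.PtsRep Groth.Agent.RedSub.H646.ConjInf
  Groth.Agent.Sga3B Groth.Agent.Sga3B.BcPts Groth.Agent.Sga3B.MT
open Groth.Agent.Books.AffBridge

variable {S : Scheme.{u}} {R : Type u} [CommRing R] {v : Spec (CommRingCat.of R) ⟶ S} {G : Over S} [GrpObj G]
  {A : Type u} [CommRing A] [Algebra R A] [PtGrp R A] (K : AffChart v G A)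

/-- Points with values in a ring. -/
theorem exists_point {C : Type u} [CommRing C] [Algebra R C] (D : CommRingCat.{u})
    (y : Spec D ⟶ Spec (CommRingCat.of C)) (z : Spec D ⟶ G.left)
    (hw : z ≫ G.hom = y ≫ Spec.map (CommRingCat.ofHom (algebraMap R C)) ≫ v) :
    ∃ (_ : Algebra R D) (φ : C →ₐ[R] D) (c : Pt R A D), (specMap R φ).left = y ∧ (K.pt D c).left = z := by
  let φ₀ : CommRingCat.of C ⟶ D := Spec.preimage y
  have hφ₀ : Spec.map φ₀ = y := Spec.map_preimage y
  let _ : Algebra R D := (φ₀.hom.comp (algebraMap R C)).toAlgebra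
  let φ : C →ₐ[R] D := { φ₀.hom with commutes' := fun _ => rfl }
  have hφ : (specMap R φ).left = y := hφ₀
  have hw' : z ≫ G.hom = ((Over.map v).obj (SpecOver R D)).hom := by
    rw [hw, ← hφ]
    exact (Category.assoc _ _ _).symm.trans (congrArg (· ≫ v) (Over.w (specMap R φ)))
  obtain ⟨c, hc⟩ := (K.pt D).surjective (Over.homMk z hw')
  exact ⟨inferInstance, φ, c, hφ, by rw [hc]; rfl⟩

/-- Mutually inverse morphisms. -/
theorem iso_aux {H X P Q : Scheme.{u}} (s : H ⟶ P) (t : H ⟶ Q) (s' : X ⟶ P) (t' : X ⟶ Q) (a : X ⟶ H) (b : H ⟶ X)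
    (ha1 : a ≫ s = s') (ha2 : a ≫ t = t') (hb1 : b ≫ s' = s) (hb2 : b ≫ t' = t)
    (hH : ∀ x : H ⟶ H, x ≫ s = s → x ≫ t = t → x = 𝟙 _) (hX : ∀ x : X ⟶ X, x ≫ s' = s' → x ≫ t' = t' → x = 𝟙 _) :
    a ≫ b = 𝟙 _ ∧ b ≫ a = 𝟙 _ :=
  ⟨hX _ (by rw [Category.assoc, hb1, ha1]) (by rw [Category.assoc, hb2, ha2]),
    hH _ (by rw [Category.assoc, ha1, hb1]) (by rw [Category.assoc, ha2, hb2])⟩

section iso

variable {R₀ : Type u} [CommRing R₀] [Algebra R R₀] {H : Over (SpecOver R R₀).left}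
  (h : H ⟶ Red.bc ((SpecOver R R₀).hom ≫ v) G) {I : Ideal (R₀ ⊗[R] A)}

/-- the structure morphism of the spectrum of the quotient -/
noncomputable def sP (I : Ideal (R₀ ⊗[R] A)) : Spec (CommRingCat.of ((R₀ ⊗[R] A) ⧸ I)) ⟶ Spec (CommRingCat.of R₀) :=
  (specMap R (uL I)).left

/-- the universal point -/
noncomputable def tP (I : Ideal (R₀ ⊗[R] A)) : Spec (CommRingCat.of ((R₀ ⊗[R] A) ⧸ I)) ⟶ G.left :=
  (K.pt _ (Pt.mk (uR I))).left

/-- the structure morphism -/
noncomputable def sH (H : Over (SpecOver R R₀).left) : H.left ⟶ Spec (CommRingCat.of R₀) := H.hom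

/-- A closed subscheme is the spectrum of the ring representing its points. -/
theorem exists_iso_spec [IsAffine H.left] [Mono h.left] (hI : IsRep (cond K h (𝟙 _)) I) :
    ∃ e : Spec (CommRingCat.of ((R₀ ⊗[R] A) ⧸ I)) ≅ H.left, e.hom ≫ sH H = sP I ∧
      e.hom ≫ h.left ≫ pullback.fst G.hom ((SpecOver R R₀).hom ≫ v) = tP K I := by
  obtain ⟨a, ha1, ha2⟩ := univ_rep hI
  have ha1' : a ≫ sH H = sP I := ha1.trans (Category.comp_id _)
  have ha2' : a ≫ h.left ≫ pullback.fst G.hom ((SpecOver R R₀).hom ≫ v) = tP K I := ha2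
  let O := (R₀ ⊗[R] A) ⧸ I
  let δ := H.left.isoSpec
  obtain ⟨_, φ, c, hφ, hc⟩ := exists_point K (C := R₀) Γ(H.left, ⊤) (δ.inv ≫ H.hom)
    (δ.inv ≫ h.left ≫ pullback.fst G.hom ((SpecOver R R₀).hom ≫ v)) (by
      rw [Category.assoc, Category.assoc, Category.assoc, pullback.condition, ← Category.assoc h.left, left_snd]
      rfl)
  have hE : cond K h (𝟙 _) Γ(H.left, ⊤) φ c.hom := by
    change Pt h ((specMap R φ).left ≫ 𝟙 _) (K.pt _ c).left
    rw [Category.comp_id, hφ, hc]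
    exact (pt_self h).comp δ.inv
  obtain ⟨f, hf1, hf2⟩ := exists_lift_of_rep hI hE
  let b₀ : Spec Γ(H.left, ⊤) ⟶ Spec (CommRingCat.of O) := (specMap R f).left
  have hφ' : (specMap R φ).left = δ.inv ≫ sH H := hφ
  have hb1 : b₀ ≫ sP I = δ.inv ≫ sH H := by
    refine Eq.trans ?_ hφ'
    rw [← hf1, specMap_comp]
    rfl
  have hb2 : b₀ ≫ tP K I = δ.inv ≫ h.left ≫ pullback.fst G.hom ((SpecOver R R₀).hom ≫ v) := by
    have h2 := K.nat f (Pt.mk (uR I))
    have h3 : Pt.map f (Pt.mk (uR I)) = c := Pt.ext fun x => DFunLike.congr_fun hf2 x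
    rw [h3] at h2
    rw [← hc, h2]
    rfl
  obtain ⟨h1, h2⟩ := iso_aux (sH H) (h.left ≫ pullback.fst G.hom ((SpecOver R R₀).hom ≫ v)) (sP I) (tP K I) a
    (δ.hom ≫ b₀) ha1' ha2' (by rw [Category.assoc, hb1, Iso.hom_inv_id_assoc])
    (by rw [Category.assoc, hb2, Iso.hom_inv_id_assoc]) (by
      intro x hx1 hx2
      rw [← cancel_mono h.left]
      apply pullback.hom_ext
      · rw [Category.assoc, hx2, Category.id_comp]
      · rw [Category.assoc, Category.id_comp, left_snd]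
        exact hx1) (by
      intro x hx1 hx2
      let m : SpecOver R O ⟶ SpecOver R O := Over.homMk x (by
        have h1 : (SpecOver R O).hom = sP I ≫ (SpecOver R R₀).hom := (Over.w (specMap R (uL I))).symm
        rw [h1]
        exact (Category.assoc _ _ _).symm.trans (congrArg (· ≫ (SpecOver R R₀).hom) hx1))
      obtain ⟨g, hg⟩ := (specEquiv R).surjective m
      change specMap R g = m at hg
      have hg1 : g.comp (uL I) = (AlgHom.id R _).comp (uL I) := by
        apply specMap_injective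
        rw [specMap_comp, hg, AlgHom.id_comp]
        apply Over.OverMorphism.ext
        exact hx1
      have hg2 : g.comp (uR I) = (AlgHom.id R _).comp (uR I) := by
        rw [AlgHom.id_comp]
        have h1 : Pt.map g (Pt.mk (uR I)) = Pt.mk (uR I) := by
          apply (K.pt _).injective
          rw [K.nat, hg]
          apply Over.OverMorphism.ext
          exact hx2
        exact congrArg (fun z : Cell.Pt R A O => z.hom) h1
      have h2 := quot_hom_ext hg1 hg2
      rw [h2, specMap_id] at hg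
      exact (congrArg (fun z => z.left) hg).symm)
  exact ⟨⟨a, δ.hom ≫ b₀, h1, h2⟩, ha1', ha2'⟩

/-- The unit lies in a subgroup. -/
theorem cond_one [GrpObj H] [IsMonHom h] : cond K h (𝟙 _) R₀ (AlgHom.id R R₀) (1 : Cell.Pt R A R₀).hom := by
  have h1 : (K.pt R₀ (Pt.mk (1 : Cell.Pt R A R₀).hom)) = 1 := (K.pt R₀).map_one
  change Pt h ((specMap R (AlgHom.id R R₀)).left ≫ 𝟙 _) (K.pt R₀ (Pt.mk (1 : Cell.Pt R A R₀).hom)).left
  rw [h1, specMap_id, Over.id_left, Category.comp_id]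
  have h2 := (memAt_iff_pt h (X := (Over.map v).obj (SpecOver R R₀)) (𝟙 _) 1).1 (MemAt.one _)
  exact h2

theorem smooth_quot [IsAffine H.left] [Mono h.left] (hI : IsRep (cond K h (𝟙 _)) I) (hs : Smooth (sH H)) :
    Algebra.Smooth R₀ ((R₀ ⊗[R] A) ⧸ I) := by
  obtain ⟨e, he, -⟩ := exists_iso_spec K h hI
  have h1 : Smooth (sP I) := by
    rw [← he]
    infer_instance
  have h2 := (HasRingHomProperty.Spec_iff (P := @Smooth)).1 h1
  have h3 : (CommRingCat.ofHom (uL I).toRingHom).hom = algebraMap R₀ ((R₀ ⊗[R] A) ⧸ I) := rfl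
  rw [h3] at h2
  exact RingHom.smooth_algebraMap.1 h2

theorem connected_quot (ha : IsAffineHom (sH H)) [Mono h.left] (hI : IsRep (cond K h (𝟙 _)) I) (hs : Smooth (sH H))
    (hc : ∀ (L : Type u) [Field L] [IsAlgClosed L] (ξ : Spec (CommRingCat.of L) ⟶ Spec (CommRingCat.of R₀)),
      IsIntegral (pullback (sH H) ξ)) (L : Type u) [Field L]
    [IsAlgClosed L] [Algebra R₀ L] : ConnectedSpace (PrimeSpectrum (L ⊗[R₀] ((R₀ ⊗[R] A) ⧸ I))) := by
  have hA : IsAffine H.left := isAffine_of_isAffineHom (sH H)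
  obtain ⟨e, he, -⟩ := exists_iso_spec K h hI
  let O := (R₀ ⊗[R] A) ⧸ I
  let ξ : Spec (CommRingCat.of L) ⟶ Spec (CommRingCat.of R₀) := Spec.map (CommRingCat.ofHom (algebraMap R₀ L))
  have h1 : IsIntegral (pullback (sH H) ξ) := hc L ξ
  have h2 : IsIntegral (pullback (sP I) ξ) :=
    Parab.IrrFib.isIntegral_of_iso (asIso (pullback.map (sP I) ξ (sH H) ξ e.hom (𝟙 _) (𝟙 _)
      (by rw [he, Category.comp_id]) (by rw [Category.comp_id, Category.id_comp])))
  let e₁ : pullback (sP I) ξ ≅ Spec (CommRingCat.of (O ⊗[R₀] L)) := pullbackSpecIso R₀ O L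
  have h3 : IsIntegral (Spec (CommRingCat.of (O ⊗[R₀] L))) := Parab.IrrFib.isIntegral_of_iso e₁.symm
  rw [affine_isIntegral_iff] at h3
  have h3' : IsDomain (O ⊗[R₀] L) := h3
  have h4 : IsDomain (L ⊗[R₀] O) := (Algebra.TensorProduct.comm R₀ L O).toMulEquiv.isDomain _
  change ConnectedSpace (PrimeSpectrum (L ⊗[R₀] O))
  infer_instance

theorem fg_of_smooth [Algebra.FinitePresentation R A] [Algebra.Smooth R₀ ((R₀ ⊗[R] A) ⧸ I)] : I.FG := by
  have h1 := Algebra.FinitePresentation.ker_fG_of_surjective (Ideal.Quotient.mkₐ R₀ I) Ideal.Quotient.mk_surjective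
  have h2 : RingHom.ker (Ideal.Quotient.mkₐ R₀ I).toRingHom = I := Ideal.mk_ker
  rwa [← h2]

/-- **Infinitesimal detection** for a smooth closed subgroup with connected geometric fibres. -/
theorem exists_detects_of [Algebra.FinitePresentation R A] [GrpObj H] [IsMonHom h] (ha : IsAffineHom (sH H))
    [Mono h.left] (hI : IsRep (cond K h (𝟙 _)) I) (hs : Smooth (sH H))
    (hc : ∀ (L : Type u) [Field L] [IsAlgClosed L] (ξ : Spec (CommRingCat.of L) ⟶ Spec (CommRingCat.of R₀)),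
      IsIntegral (pullback (sH H) ξ)) : ∃ n : ℕ, Detects (cond K h (𝟙 _)) (cond K h (𝟙 _)) n := by
  have hA : IsAffine H.left := isAffine_of_isAffineHom (sH H)
  have h1 := smooth_quot K h hI hs
  exact exists_detects hI hI fg_of_smooth (cond_one K h) fun L _ _ _ => connected_quot K h ha hI hs hc L

end iso

end Groth.Agent.RedSub.H646.SubAlg
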